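import Cfsg.Agent.Lib.MTwentyFour.RootBlock
import Cfsg.Agent.Lib.Char.Linear
import Cfsg.Agent.Lib.Char.Quotient

/-!
The roots trivial on a Sylow subgroup of order `p` whose centralizer quotient is trivial, nonabelian of
order 6, or of order 12 without four linear characters, and how the normaliser permutes them.
-/

set_option autoImplicit false
set_option linter.style.haveILetI false
set_option linter.unusedSectionVars false

namespace Cfsg.Lib.MTwentyFour

open Cfsg Cfsg.Lib.Block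

universe u

noncomputable local instance (priority := high) fintypeSubgroupRoots {A : Type u}
    [Group A] [Fintype A] (H : Subgroup A) : Fintype H := Fintype.ofFinite H

local notation "C[" P "]" => Subgroup.centralizer (SetLike.coe P)

section Shape

variable {V : Type u} [Group V] [Fintype V]

theorem sum_deg_sq : ∑ χ : IrrCharacter V, charDegree (χ : V → ℂ) ^ 2 = Nat.card V := by
  have h := Char.sum_sq_degree (G := V)
  simp only [apply_one_eq_charDegree] at h
  exact_mod_cast h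

theorem deg_one_iff (χ : IrrCharacter V) : charDegree (χ : V → ℂ) = 1 ↔ (χ : V → ℂ) 1 = 1 := by
  rw [apply_one_eq_charDegree]
  exact Nat.cast_eq_one.symm

theorem deg_triv : charDegree ((trivChar V : IrrCharacter V) : V → ℂ) = 1 :=
  charDegree_eq_of_apply_one (by rw [trivChar_coe, Nat.cast_one])

theorem exists_deg_two_le (hnc : ¬ ∀ a b : V, a * b = b * a) :
    ∃ χ : IrrCharacter V, 2 ≤ charDegree (χ : V → ℂ) := by
  by_contra hno
  push Not at hno
  refine hnc (Char.comm_iff_all_linear.2 fun χ => (deg_one_iff χ).1 ?_)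
  have := hno χ
  have := Block.charDegree_pos χ
  omega

/-- The characters of a nonabelian group of order 6. -/
theorem shape_six (hV : Nat.card V = 6) (hnc : ¬ ∀ a b : V, a * b = b * a) :
    ∃ ε τ : IrrCharacter V, ε ≠ trivChar V ∧ charDegree (ε : V → ℂ) = 1 ∧ charDegree (τ : V → ℂ) = 2 ∧
      ∀ χ : IrrCharacter V, χ = trivChar V ∨ χ = ε ∨ χ = τ := by
  classical
  obtain ⟨τ, hτ⟩ := exists_deg_two_le hnc
  have h := sum_deg_sq (V := V)
  rw [hV] at h
  have hne : τ ≠ trivChar V := fun e => by rw [e, deg_triv] at hτ; omega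
  rw [← Finset.add_sum_erase _ _ (Finset.mem_univ τ),
    ← Finset.add_sum_erase _ _ (Finset.mem_erase.2 ⟨hne.symm, Finset.mem_univ (trivChar V)⟩), deg_triv] at h
  set S := (Finset.univ.erase τ).erase (trivChar V) with hS
  have hSc : S.card ≤ ∑ χ ∈ S, charDegree (χ : V → ℂ) ^ 2 := by
    rw [Finset.card_eq_sum_ones]
    exact Finset.sum_le_sum fun χ _ => Nat.one_le_pow _ _ (Block.charDegree_pos χ)
  have hτ2 : charDegree (τ : V → ℂ) = 2 := by nlinarith
  rw [hτ2] at h
  have hsum : ∑ χ ∈ S, charDegree (χ : V → ℂ) ^ 2 = 1 := by omega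
  obtain ⟨ε, hε⟩ : ∃ ε, S = {ε} := by
    refine Finset.card_eq_one.1 ?_
    have : S.Nonempty := by
      rw [Finset.nonempty_iff_ne_empty]
      intro e
      rw [e, Finset.sum_empty] at hsum
      omega
    have := Finset.card_pos.2 this
    omega
  have hmem : ε ∈ S := by rw [hε]; exact Finset.mem_singleton_self _
  have hε1 : charDegree (ε : V → ℂ) = 1 := by
    rw [hε, Finset.sum_singleton] at hsum
    nlinarith [Block.charDegree_pos ε]
  refine ⟨ε, τ, (Finset.mem_erase.1 hmem).1, hε1, hτ2, fun χ => ?_⟩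
  by_contra hno
  push Not at hno
  have hχ : χ ∈ S := Finset.mem_erase.2 ⟨hno.1, Finset.mem_erase.2 ⟨hno.2.2, Finset.mem_univ _⟩⟩
  rw [hε, Finset.mem_singleton] at hχ
  exact hno.2.1 hχ

/-- The characters of a nonabelian group of order 12 without exactly four linear characters. -/
theorem shape_twelve (hV : Nat.card V = 12) (hnc : ¬ ∀ a b : V, a * b = b * a)
    (h4 : (commutator V).index ≠ 4) :
    ∃ ω₁ ω₂ τ : IrrCharacter V, ω₁ ≠ trivChar V ∧ ω₂ ≠ trivChar V ∧ ω₁ ≠ ω₂ ∧
      charDegree (ω₁ : V → ℂ) = 1 ∧ charDegree (ω₂ : V → ℂ) = 1 ∧ charDegree (τ : V → ℂ) = 3 ∧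
      ∀ χ : IrrCharacter V, χ = trivChar V ∨ χ = ω₁ ∨ χ = ω₂ ∨ χ = τ := by
  classical
  have h := sum_deg_sq (V := V)
  rw [hV] at h
  obtain ⟨ρ, hρ⟩ := exists_deg_two_le hnc
  have hle : ∀ χ : IrrCharacter V, charDegree (χ : V → ℂ) ≤ 3 := fun χ => by
    have := Finset.single_le_sum (f := fun χ : IrrCharacter V => charDegree (χ : V → ℂ) ^ 2)
      (fun _ _ => Nat.zero_le _) (Finset.mem_univ χ)
    rw [h] at this
    nlinarith
  obtain ⟨τ, hτ⟩ : ∃ τ : IrrCharacter V, charDegree (τ : V → ℂ) = 3 := by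
    by_contra hno
    push Not at hno
    set L := Finset.univ.filter fun χ : IrrCharacter V => charDegree (χ : V → ℂ) = 1 with hL
    have hLc : L.card = (commutator V).index := by
      rw [← Char.card_degree_one, Nat.card_eq_fintype_card, Fintype.card_subtype]
      congr 1
      ext χ
      simp [hL, deg_one_iff]
    rw [← Finset.sum_sdiff (Finset.subset_univ L)] at h
    have e1 : ∑ χ ∈ L, charDegree (χ : V → ℂ) ^ 2 = L.card := by
      rw [Finset.card_eq_sum_ones]
      exact Finset.sum_congr rfl fun χ hχ => by rw [(Finset.mem_filter.1 hχ).2]; rfl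
    have e2 : ∑ χ ∈ Finset.univ \ L, charDegree (χ : V → ℂ) ^ 2 = 4 * (Finset.univ \ L).card := by
      rw [Finset.card_eq_sum_ones, Finset.mul_sum]
      refine Finset.sum_congr rfl fun χ hχ => ?_
      have h1 : ¬ charDegree (χ : V → ℂ) = 1 := fun e =>
        (Finset.mem_sdiff.1 hχ).2 (Finset.mem_filter.2 ⟨Finset.mem_univ _, e⟩)
      have := hno χ
      have := hle χ
      have := Block.charDegree_pos χ
      have h2 : charDegree (χ : V → ℂ) = 2 := by omega
      rw [h2]; rfl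
    have hρn : 0 < (Finset.univ \ L).card := Finset.card_pos.2
      ⟨ρ, Finset.mem_sdiff.2 ⟨Finset.mem_univ _, fun e => by
        have := (Finset.mem_filter.1 e).2; omega⟩⟩
    have hL1 : 0 < L.card := Finset.card_pos.2 ⟨trivChar V, Finset.mem_filter.2 ⟨Finset.mem_univ _, deg_triv⟩⟩
    have hdvd := (commutator V).index_dvd_card
    rw [hV, ← hLc] at hdvd
    rw [e1, e2] at h
    have hL12 : L.card = 8 := by omega
    rw [hL12] at hdvd
    norm_num at hdvd
  have hne : τ ≠ trivChar V := fun e => by rw [e, deg_triv] at hτ; omega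
  rw [← Finset.add_sum_erase _ _ (Finset.mem_univ τ),
    ← Finset.add_sum_erase _ _ (Finset.mem_erase.2 ⟨hne.symm, Finset.mem_univ (trivChar V)⟩), deg_triv, hτ] at h
  set S := (Finset.univ.erase τ).erase (trivChar V) with hS
  have hsum : ∑ χ ∈ S, charDegree (χ : V → ℂ) ^ 2 = 2 := by omega
  have h1 : ∀ χ ∈ S, charDegree (χ : V → ℂ) = 1 := fun χ hχ => by
    have := Finset.single_le_sum (f := fun χ : IrrCharacter V => charDegree (χ : V → ℂ) ^ 2)
      (fun _ _ => Nat.zero_le _) hχ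
    rw [hsum] at this
    have := Block.charDegree_pos χ
    nlinarith
  rw [Finset.sum_congr rfl fun χ hχ => by rw [h1 χ hχ, one_pow], ← Finset.card_eq_sum_ones,
    Finset.card_eq_two] at hsum
  obtain ⟨ω₁, ω₂, h12, hSe⟩ := hsum
  have hm₁ : ω₁ ∈ S := by rw [hSe]; exact Finset.mem_insert_self _ _
  have hm₂ : ω₂ ∈ S := by rw [hSe]; exact Finset.mem_insert_of_mem (Finset.mem_singleton_self _)
  refine ⟨ω₁, ω₂, τ, (Finset.mem_erase.1 hm₁).1, (Finset.mem_erase.1 hm₂).1, h12, h1 _ hm₁, h1 _ hm₂, hτ,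
    fun χ => ?_⟩
  by_contra hno
  push Not at hno
  have hχ : χ ∈ S := Finset.mem_erase.2 ⟨hno.1, Finset.mem_erase.2 ⟨hno.2.2.2, Finset.mem_univ _⟩⟩
  rw [hSe, Finset.mem_insert, Finset.mem_singleton] at hχ
  exact hχ.elim hno.2.1 hno.2.2.1

end Shape

variable {p : ℕ} [Fact p.Prime] {G : Type u} [Group G] [Fintype G] (P : Sylow p G)
  (hcard : Nat.card (P : Subgroup G) = p)

/-- The trivial root. -/
noncomputable def trivRoot : TrivOn (P : Subgroup G) :=
  ⟨trivChar C[(P : Subgroup G)], fun _ _ => rfl⟩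

/-- `P` inside its centralizer. -/
abbrev coreC : Subgroup C[(P : Subgroup G)] := (P : Subgroup G).subgroupOf C[(P : Subgroup G)]

instance coreC_normal : (coreC P).Normal :=
  ⟨fun z hz g => by
    have h : (g : G) * z = z * g := (Subgroup.mem_centralizer_iff.1 g.2 (z : G) hz).symm
    show (g : G) * z * (g : G)⁻¹ ∈ (P : Subgroup G)
    rw [h, mul_inv_cancel_right]
    exact hz⟩

/-- Roots correspond to the characters of the centralizer quotient. -/
noncomputable def rootEquiv : IrrCharacter (C[(P : Subgroup G)] ⧸ coreC P) ≃ TrivOn (P : Subgroup G) :=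
  (Char.irrQuotientEquiv (coreC P)).trans (Equiv.subtypeEquivRight fun _ => Iff.rfl)

theorem deg_rootEquiv (ψ : IrrCharacter (C[(P : Subgroup G)] ⧸ coreC P)) :
    charDegree ((rootEquiv P ψ).1 : C[(P : Subgroup G)] → ℂ) =
      charDegree (ψ : C[(P : Subgroup G)] ⧸ coreC P → ℂ) :=
  charDegree_eq_of_apply_one
    (show (ψ : C[(P : Subgroup G)] ⧸ coreC P → ℂ) ((1 : C[(P : Subgroup G)]) : C[(P : Subgroup G)] ⧸ coreC P) = _ by
      rw [QuotientGroup.mk_one, apply_one_eq_charDegree])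

theorem rootEquiv_triv : rootEquiv P (trivChar _) = trivRoot P := by
  refine Subtype.ext (Subtype.ext (funext fun g => ?_))
  rfl

theorem conjMaps_cent {g : G} (hg : g ∈ Subgroup.normalizer ((P : Subgroup G) : Set G)) :
    ConjMaps g C[(P : Subgroup G)] C[(P : Subgroup G)] := by
  refine conjMaps_centralizer ?_
  ext x
  constructor
  · rintro ⟨z, hz, rfl⟩
    exact (Subgroup.mem_normalizer_iff.1 hg z).1 hz
  · intro hx
    refine ⟨g⁻¹ * x * g, ?_, by simp [mul_assoc]⟩
    exact (Subgroup.mem_normalizer_iff.1 hg _).2 (by simpa [mul_assoc] using hx)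

/-- The conjugate of a root by an element of the normaliser. -/
noncomputable def conjRoot {g : G} (hg : g ∈ Subgroup.normalizer ((P : Subgroup G) : Set G))
    (θ : TrivOn (P : Subgroup G)) : TrivOn (P : Subgroup G) :=
  ⟨compIrr (conjIso (conjMaps_cent P hg)) θ.1, fun z hz => by
    rw [compIrr_apply, compIrr_apply, map_one]
    exact θ.2 _ ((Subgroup.mem_normalizer_iff.1 hg (z : G)).1 hz)⟩

theorem conjRoot_apply {g : G} (hg : g ∈ Subgroup.normalizer ((P : Subgroup G) : Set G))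
    (θ : TrivOn (P : Subgroup G)) {c c' : C[(P : Subgroup G)]} (h : (c' : G) = g * c * g⁻¹) :
    ((conjRoot P hg θ).1 : C[(P : Subgroup G)] → ℂ) c = (θ.1 : C[(P : Subgroup G)] → ℂ) c' := by
  show (compIrr (conjIso (conjMaps_cent P hg)) θ.1 : C[(P : Subgroup G)] → ℂ) c = _
  rw [compIrr_apply]
  exact congrArg (θ.1 : C[(P : Subgroup G)] → ℂ) (Subtype.ext h.symm)

theorem deg_conjRoot {g : G} (hg : g ∈ Subgroup.normalizer ((P : Subgroup G) : Set G))
    (θ : TrivOn (P : Subgroup G)) :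
    charDegree ((conjRoot P hg θ).1 : C[(P : Subgroup G)] → ℂ) = charDegree (θ.1 : C[(P : Subgroup G)] → ℂ) :=
  charDegree_eq_of_apply_one (by
    rw [conjRoot_apply P hg θ (c := 1) (c' := 1) (by simp), apply_one_eq_charDegree])

theorem conjRoot_triv {g : G} (hg : g ∈ Subgroup.normalizer ((P : Subgroup G) : Set G)) :
    conjRoot P hg (trivRoot P) = trivRoot P := by
  refine Subtype.ext (Subtype.ext (funext fun c => ?_))
  show (compIrr (conjIso (conjMaps_cent P hg)) (trivRoot P).1 : C[(P : Subgroup G)] → ℂ) c = _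
  rfl

theorem conjRoot_injective {g : G} (hg : g ∈ Subgroup.normalizer ((P : Subgroup G) : Set G)) :
    Function.Injective (conjRoot P hg) := by
  intro a b h
  refine Subtype.ext (Subtype.ext (funext fun c => ?_))
  have hm : g⁻¹ * (c : G) * g ∈ C[(P : Subgroup G)] := by
    have := conjMaps_cent P hg (g⁻¹ * (c : G) * g)
    rw [show g * (g⁻¹ * (c : G) * g) * g⁻¹ = (c : G) by group] at this
    exact this.2 c.2
  have h' := congrArg (fun θ : TrivOn (P : Subgroup G) =>
    (θ.1 : C[(P : Subgroup G)] → ℂ) ⟨g⁻¹ * (c : G) * g, hm⟩) h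
  simp only [conjRoot_apply P hg _ (c := ⟨g⁻¹ * (c : G) * g, hm⟩) (c' := c) (by simp [mul_assoc])] at h'
  exact h'

theorem mem_fixers_iff {g : G} (hg : g ∈ Subgroup.normalizer ((P : Subgroup G) : Set G))
    (θ : TrivOn (P : Subgroup G)) : g ∈ fixers (P : Subgroup G) θ.1 ↔ conjRoot P hg θ = θ := by
  constructor
  · rintro ⟨-, h⟩
    refine Subtype.ext (Subtype.ext (funext fun c => ?_))
    rw [conjRoot_apply P hg θ (c := c) (c' := ⟨g * c * g⁻¹, (conjMaps_cent P hg c).1 c.2⟩) rfl]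
    exact h c _ rfl
  · intro h
    refine ⟨hg, fun c c' e => ?_⟩
    rw [← conjRoot_apply P hg θ e, h]

/-- A root fixed by the whole normaliser. -/
def RootFixed (θ : TrivOn (P : Subgroup G)) : Prop :=
  ∀ g (hg : g ∈ Subgroup.normalizer ((P : Subgroup G) : Set G)), conjRoot P hg θ = θ

variable {M : Ideal AlgInt} (hM : IsPModular p M)

include hM hcard

theorem exists_rootBlock_fixed (θ : TrivOn (P : Subgroup G)) (hfix : RootFixed P θ) {e : ℕ}
    (he : (C[(P : Subgroup G)]).relIndex (Subgroup.normalizer ((P : Subgroup G) : Set G)) = e) :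
    Nonempty (RootBlock p M (P : Subgroup G) θ.1 e 1) :=
  exists_rootBlock hM P hcard θ (Subgroup.normalizer ((P : Subgroup G) : Set G))
    (fun g => ⟨fun hg => (mem_fixers_iff P hg θ).2 (hfix g hg), fun h => h.1⟩) he (Subgroup.relIndex_self _)

theorem exists_rootBlock_swap {ω₁ ω₂ : TrivOn (P : Subgroup G)} {g₀ : G}
    (hg₀ : g₀ ∈ Subgroup.normalizer ((P : Subgroup G) : Set G)) (hne : conjRoot P hg₀ ω₁ ≠ ω₁)
    (htwo : ∀ g (hg : g ∈ Subgroup.normalizer ((P : Subgroup G) : Set G)),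
      conjRoot P hg ω₁ = ω₁ ∨ conjRoot P hg ω₁ = ω₂) {e : ℕ}
    (he : (C[(P : Subgroup G)]).relIndex (Subgroup.normalizer ((P : Subgroup G) : Set G)) = 2 * e) :
    Nonempty (RootBlock p M (P : Subgroup G) ω₁.1 e 2) := by
  classical
  let T : Subgroup G :=
    { carrier := fixers (P : Subgroup G) ω₁.1
      one_mem' := ⟨one_mem _, fun c c' h => congrArg (ω₁.1 : C[(P : Subgroup G)] → ℂ)
        (Subtype.ext (by simpa using h))⟩
      mul_mem' := by
        rintro a b ⟨ha, ha'⟩ ⟨hb, hb'⟩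
        refine ⟨mul_mem ha hb, fun c c' h => ?_⟩
        have hm : b * (c : G) * b⁻¹ ∈ C[(P : Subgroup G)] := (conjMaps_cent P hb c).1 c.2
        rw [ha' ⟨_, hm⟩ c' (by rw [h]; show _ = a * (b * (c : G) * b⁻¹) * a⁻¹; group), hb' c ⟨_, hm⟩ rfl]
      inv_mem' := by
        rintro a ⟨ha, ha'⟩
        refine ⟨inv_mem ha, fun c c' h => (ha' c' c ?_).symm⟩
        rw [h]; group }
  have hTmem : ∀ g, g ∈ T ↔ g ∈ fixers (P : Subgroup G) ω₁.1 := fun g => Iff.rfl
  set N := Subgroup.normalizer ((P : Subgroup G) : Set G) with hN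
  have hcomp : ∀ a b (ha : a ∈ N) (hb : b ∈ N) (θ : TrivOn (P : Subgroup G)),
      conjRoot P (mul_mem ha hb) θ = conjRoot P hb (conjRoot P ha θ) := by
    intro a b ha hb θ
    refine Subtype.ext (Subtype.ext (funext fun c => ?_))
    have hm : b * (c : G) * b⁻¹ ∈ C[(P : Subgroup G)] := (conjMaps_cent P hb c).1 c.2
    have hm' : a * (b * (c : G) * b⁻¹) * a⁻¹ ∈ C[(P : Subgroup G)] := (conjMaps_cent P ha _).1 hm
    rw [conjRoot_apply P hb _ (c := c) (c' := ⟨_, hm⟩) rfl,
      conjRoot_apply P ha _ (c := ⟨_, hm⟩) (c' := ⟨_, hm'⟩) rfl,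
      conjRoot_apply P (mul_mem ha hb) θ (c := c) (c' := ⟨_, hm'⟩) (by show _ = a * b * (c : G) * (a * b)⁻¹; group)]
  have hr : T.relIndex N = 2 := by
    rw [Subgroup.relIndex, Subgroup.index_eq_two_iff]
    refine ⟨(⟨g₀, hg₀⟩ : N)⁻¹, fun b => ?_⟩
    have hkey : (b * (⟨g₀, hg₀⟩ : N)⁻¹) ∈ T.subgroupOf N ↔ conjRoot P b.2 ω₁ = conjRoot P hg₀ ω₁ := by
      rw [Subgroup.mem_subgroupOf, hTmem, mem_fixers_iff P (b * (⟨g₀, hg₀⟩ : N)⁻¹).2]
      constructor
      · intro h
        have h1 := congrArg (conjRoot P hg₀) h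
        rw [← hcomp _ _ (b * (⟨g₀, hg₀⟩ : N)⁻¹).2 hg₀] at h1
        simpa [mul_assoc] using h1
      · intro h
        refine conjRoot_injective P hg₀ ?_
        rw [← hcomp _ _ (b * (⟨g₀, hg₀⟩ : N)⁻¹).2 hg₀]
        simpa [mul_assoc] using h
    rw [hkey, Subgroup.mem_subgroupOf, hTmem, mem_fixers_iff P b.2]
    rcases htwo b b.2 with h | h
    · exact Or.inr ⟨h, by rw [h]; exact hne.symm⟩
    · refine Or.inl ⟨?_, fun h' => ?_⟩
      · rw [h]; exact ((htwo g₀ hg₀).resolve_left hne).symm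
      · exact hne (by rw [(htwo g₀ hg₀).resolve_left hne, ← h, h'])
  have hTN : T ≤ N := fun g hg => hg.1
  have hCT : (C[(P : Subgroup G)]) ≤ T := fun g hg =>
    ⟨Subgroup.centralizer_le_normalizer _ hg, fun c c' h => by
      rw [show c' = ⟨g, hg⟩ * c * ⟨g, hg⟩⁻¹ from Subtype.ext h, ω₁.1.2.isClassFunction]⟩
  refine exists_rootBlock hM P hcard ω₁ T hTmem ?_ hr
  have h := Subgroup.relIndex_mul_relIndex _ T N hCT hTN
  rw [hr, he, mul_comm] at h
  exact Nat.eq_of_mul_eq_mul_left two_pos h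

/-- Conjugate roots have one block. -/
theorem induced_conjRoot {θ : TrivOn (P : Subgroup G)} {B : Set (IrrCharacter G)}
    (h : IsInducedBlock M C[(P : Subgroup G)] (blockOf M (θ.1 : C[(P : Subgroup G)] → ℂ)) B)
    {g : G} (hg : g ∈ Subgroup.normalizer ((P : Subgroup G) : Set G)) :
    IsInducedBlock M C[(P : Subgroup G)]
      (blockOf M ((conjRoot P hg θ).1 : C[(P : Subgroup G)] → ℂ)) B := by
  have hgi := inv_mem hg
  have hc := isInducedBlock_conj_self (conjMaps_cent P hgi) h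
  have hm : (conjRoot P hg θ).1 ∈
      conjSet (conjMaps_cent P hgi) (blockOf M (θ.1 : C[(P : Subgroup G)] → ℂ)) := by
    show compIrr (conjIso (conjMaps_cent P hgi)).symm.symm (conjRoot P hg θ).1 ∈ blockOf M (θ.1 : C[(P : Subgroup G)] → ℂ)
    rw [MulEquiv.symm_symm]
    convert self_mem_blockOf hM θ.1 using 1
    refine Subtype.ext (funext fun c => ?_)
    rw [compIrr_apply]
    exact conjRoot_apply P hg θ (by
      show (c : G) = g * (g⁻¹ * (c : G) * g⁻¹⁻¹) * g⁻¹
      group)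
  rwa [← eq_blockOf_of_mem hM hc.1 hm]

theorem mem_block_of_root {θ : TrivOn (P : Subgroup G)} {e r : ℕ}
    (R : RootBlock p M (P : Subgroup G) θ.1 e r) {χ : IrrCharacter G}
    (h : IsInducedBlock M C[(P : Subgroup G)] (blockOf M (θ.1 : C[(P : Subgroup G)] → ℂ))
      (blockOf M (χ : G → ℂ))) : χ ∈ R.block := by
  rw [isInducedBlock_unique hM R.induced h]
  exact self_mem_blockOf hM χ

theorem disjoint_of_root {θ θ' : TrivOn (P : Subgroup G)} {e r e' r' : ℕ}
    (R : RootBlock p M (P : Subgroup G) θ.1 e r) (R' : RootBlock p M (P : Subgroup G) θ'.1 e' r')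
    (hne : ∀ g (hg : g ∈ Subgroup.normalizer ((P : Subgroup G) : Set G)), conjRoot P hg θ' ≠ θ) :
    Disjoint (R.X ∪ R.Y) (R'.X ∪ R'.Y) := by
  classical
  rw [Finset.disjoint_left]
  intro χ hχ hχ'
  rw [Finset.mem_union, ← R.mem_block] at hχ
  rw [Finset.mem_union, ← R'.mem_block] at hχ'
  have hb : R.block = R'.block := by
    rw [eq_blockOf_of_mem hM R.induced.2.1 hχ, eq_blockOf_of_mem hM R'.induced.2.1 hχ']
  obtain ⟨g, hg, hk⟩ := root_conj hM P hcard R.induced (hb ▸ R'.induced)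
  refine hne g hg (Subtype.ext (Subtype.ext (funext fun c => ?_)))
  rw [hk c ⟨g * c * g⁻¹, (conjMaps_cent P hg c).1 c.2⟩ rfl]
  exact conjRoot_apply P hg θ' rfl

end Cfsg.Lib.MTwentyFour
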