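import Cfsg.Agent.Lib.NseMathieu.Basic
import Cfsg.Agent.Lib.MTwentyFour.Roots
import Cfsg.Agent.Lib.Small.SimpleOrder

/-!
Element-order counts of a group and of the centralizer of a Sylow subgroup of prime order.
-/

set_option autoImplicit false
set_option linter.style.haveILetI false
set_option linter.unusedSectionVars false

namespace Cfsg.Lib.MTwentyFour

open Cfsg.Lib.NseMathieu

universe u

local notation "C[" P "]" => Subgroup.centralizer (SetLike.coe P)

variable {G : Type u} [Group G] [Finite G]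

theorem ordCount_one : ordCount G 1 = 1 :=
  Nat.card_eq_one_iff_unique.2
    ⟨⟨fun a b => Subtype.ext ((orderOf_eq_one_iff.1 a.2).trans (orderOf_eq_one_iff.1 b.2).symm)⟩,
      ⟨⟨1, orderOf_one⟩⟩⟩

theorem two_dvd_ordCount {n : ℕ} (hn : 3 ≤ n) : 2 ∣ ordCount G n := by
  classical
  haveI : Fintype {g : G // orderOf g = n} := Fintype.ofFinite _
  let f : Function.End {g : G // orderOf g = n} := fun g =>
    ⟨(g : G)⁻¹, (orderOf_inv _).trans g.2⟩
  have hf : f ^ 2 ^ 1 = 1 := funext fun a => Subtype.ext (inv_inv (a : G))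
  have hmod := Equiv.Perm.card_fixedPoints_modEq (p := 2) hf
  haveI : IsEmpty (Function.fixedPoints f) := ⟨fun a => by
    have h : ((a : {g : G // orderOf g = n}) : G) ^ 2 = 1 := by
      rw [pow_two]; nth_rw 1 [← congrArg Subtype.val a.2]
      exact inv_mul_cancel _
    have := Nat.le_of_dvd two_pos (orderOf_dvd_of_pow_eq_one h)
    rw [a.1.2] at this
    omega⟩
  rw [Fintype.card_eq_zero (α := Function.fixedPoints f), ← Nat.card_eq_fintype_card] at hmod
  exact Nat.dvd_of_mod_eq_zero hmod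

theorem ordCount_two_ne_one [IsSimpleGroup G] (hG : ¬ (Nat.card G).Prime) : ordCount G 2 ≠ 1 := by
  intro h
  obtain ⟨⟨hu⟩, ⟨t, ht⟩⟩ := Nat.card_eq_one_iff_unique.1 h
  have hz : t ∈ Subgroup.center G := Subgroup.mem_center_iff.2 fun g => by
    have := congrArg Subtype.val (hu ⟨g * t * g⁻¹, ((MulAut.conj g).orderOf_eq t).trans ht⟩ ⟨t, ht⟩)
    exact mul_inv_eq_iff_eq_mul.1 this
  rcases (Subgroup.center G).normal_of_characteristic.eq_bot_or_eq_top with hb | hb
  · rw [hb, Subgroup.mem_bot] at hz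
    rw [hz, orderOf_one] at ht
    omega
  · letI : CommGroup G := Group.commGroupOfCenterEqTop hb
    exact hG IsSimpleGroup.prime_card

theorem ordCount_of_normal {p : ℕ} [Fact p.Prime] (hp : ¬ p * p ∣ Nat.card G) {y : G} (hy : orderOf y = p)
    (hn : (Subgroup.zpowers y).Normal) : ordCount G p = p - 1 := by
  have h := ordCount_eq hp hy
  rw [Subgroup.normalizer_eq_top, Subgroup.card_top, mul_comm (Nat.card G)] at h
  exact Nat.eq_of_mul_eq_mul_right Nat.card_pos h

theorem ordCount_of_comm {p : ℕ} [Fact p.Prime] (hp : ¬ p * p ∣ Nat.card G) (hd : p ∣ Nat.card G)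
    (hc : ∀ a b : G, a * b = b * a) : ordCount G p = p - 1 := by
  obtain ⟨y, hy⟩ := exists_prime_orderOf_dvd_card' p hd
  exact ordCount_of_normal hp hy ⟨fun n hn g => by rwa [hc g n, mul_inv_cancel_right]⟩

theorem sum_ordCount : ∑ d ∈ (Nat.card G).divisors, ordCount G d = Nat.card G := by
  classical
  cases nonempty_fintype G
  have h := sum_card_orderOf_eq_card_pow_eq_one (G := G) (n := Nat.card G) Nat.card_pos.ne'
  rw [Finset.filter_true_of_mem (fun x _ => pow_card_eq_one'), Finset.card_univ,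
    ← Nat.card_eq_fintype_card] at h
  refine Eq.trans (Finset.sum_congr rfl fun d _ => ?_) h
  rw [ordCount, Nat.card_eq_fintype_card, Fintype.card_subtype]

theorem ordCount_eq_zero {n : ℕ} (hn : ¬ n ∣ Nat.card G) : ordCount G n = 0 := by
  haveI : IsEmpty {g : G // orderOf g = n} := ⟨fun g => hn (g.2 ▸ orderOf_dvd_natCard _)⟩
  exact Nat.card_of_isEmpty

theorem ordCount_pos {p : ℕ} [Fact p.Prime] (hd : p ∣ Nat.card G) : 0 < ordCount G p := by
  obtain ⟨y, hy⟩ := exists_prime_orderOf_dvd_card' p hd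
  exact Nat.card_pos_iff.2 ⟨⟨⟨y, hy⟩⟩, inferInstance⟩

variable {p : ℕ} [hp : Fact p.Prime] (hG : ¬ p * p ∣ Nat.card G) {x : G} (hx : orderOf x = p)
  (P : Sylow p G) (hP : (P : Subgroup G) = Subgroup.zpowers x)

include hP in
theorem mem_centralizer_sylow {g : G} : g ∈ C[(P : Subgroup G)] ↔ Commute x g := by
  rw [hP, Small.centralizer_zpowers, Subgroup.mem_centralizer_singleton_iff]
  exact ⟨fun h => h.symm, fun h => h.symm⟩

include hG hx hP in
/-- The centralizer of a Sylow subgroup of prime order in a simple group. -/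
theorem local_data [IsSimpleGroup G] (hne : Nat.card G ≠ p) {n : ℕ}
    (hN : Nat.card (Subgroup.normalizer ((Subgroup.zpowers x : Subgroup G) : Set G)) = p * n) :
    ∃ v e, Nat.card C[(P : Subgroup G)] = p * v ∧
      (C[(P : Subgroup G)]).relIndex (Subgroup.normalizer ((P : Subgroup G) : Set G)) = e ∧
      v * e = n ∧ e ∣ p - 1 ∧ 1 < e ∧ Nat.card (C[(P : Subgroup G)] ⧸ coreC P) = v := by
  have hd : p ∣ Nat.card G := hx ▸ orderOf_dvd_natCard x
  have hPc : Nat.card (P : Subgroup G) = p := by rw [hP, Nat.card_zpowers, hx]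
  have hncyc : ¬ IsCyclic G := fun h => by
    letI := IsCyclic.commGroup (α := G)
    exact hne ((Nat.prime_dvd_prime_iff_eq hp.1 IsSimpleGroup.prime_card).1 hd).symm
  have hnle := Small.not_normalizer_le_centralizer hncyc P fun h => hp.1.ne_one (by
    rw [← hPc, h, Subgroup.card_bot])
  have hle : (P : Subgroup G) ≤ C[(P : Subgroup G)] := by
    intro g hg
    rw [mem_centralizer_sylow P hP]
    rw [hP] at hg
    obtain ⟨k, rfl⟩ := Subgroup.mem_zpowers_iff.1 hg
    exact (Commute.refl x).zpow_right k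
  have hcard := Subgroup.card_mul_index (coreC P)
  rw [(Nat.card_congr (Subgroup.subgroupOfEquivOfLe hle).toEquiv : Nat.card (coreC P) = _).trans hPc,
    Subgroup.index_eq_card] at hcard
  refine ⟨_, _, hcard.symm, rfl, ?_, Small.relIndex_centralizer_dvd _ hPc, ?_, rfl⟩
  · refine Nat.eq_of_mul_eq_mul_left hp.1.pos ?_
    rw [← mul_assoc, hcard, ← hN, ← hP, ← Subgroup.relIndex_bot_left, ← Subgroup.relIndex_bot_left,
      Subgroup.relIndex_mul_relIndex _ _ _ bot_le (Subgroup.centralizer_le_normalizer _)]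
  · refine lt_of_le_of_ne (Nat.one_le_iff_ne_zero.2 (Subgroup.index_ne_zero_of_finite)) fun e => hnle ?_
    exact Subgroup.relIndex_eq_one.1 e.symm

theorem split {k : ℕ} (hk : k.Coprime p) {g : G} (hg : (g ^ k) ^ p = 1) :
    ∃ i : ℤ, (((g ^ k) ^ i)⁻¹ * g) ^ k = 1 := by
  refine ⟨Nat.gcdA k p, ?_⟩
  have h1 := Nat.gcd_eq_gcd_ab k p
  rw [hk.gcd_eq_one, Nat.cast_one] at h1
  have hc : Commute ((g ^ k) ^ Nat.gcdA k p)⁻¹ g :=
    ((Commute.pow_self g k).zpow_left _).inv_left
  rw [hc.mul_pow, inv_pow, inv_mul_eq_one, ← zpow_natCast ((g ^ k) ^ _), ← zpow_mul,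
    show Nat.gcdA k p * (k : ℤ) = 1 - (p : ℤ) * Nat.gcdB k p by linarith, zpow_sub, zpow_one, zpow_mul,
    zpow_natCast, hg, one_zpow, inv_one, mul_one]

include hG hx hP in
theorem ordCount_quot {k : ℕ} (hk : k.Coprime p) :
    ordCount (C[(P : Subgroup G)] ⧸ coreC P) k =
      Nat.card {g : G // orderOf g = k ∧ Commute x g} := by
  have hmk : ∀ g : C[(P : Subgroup G)], (g : C[(P : Subgroup G)] ⧸ coreC P) = 1 ↔ (g : G) ∈ Subgroup.zpowers x :=
    fun g => by rw [QuotientGroup.eq_one_iff, Subgroup.mem_subgroupOf]; exact SetLike.ext_iff.1 hP _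
  have hpow : ∀ {a : G}, a ∈ Subgroup.zpowers x → a ^ p = 1 := fun {a} ha => by
    obtain ⟨i, rfl⟩ := Subgroup.mem_zpowers_iff.1 ha
    rw [← zpow_natCast, ← zpow_mul, mul_comm, zpow_mul, zpow_natCast, ← hx, pow_orderOf_eq_one, one_zpow]
  have hord : ∀ g : G, orderOf g = k → ∀ hg : g ∈ C[(P : Subgroup G)],
      orderOf ((⟨g, hg⟩ : C[(P : Subgroup G)]) : C[(P : Subgroup G)] ⧸ coreC P) = k := by
    intro g hgk hg
    set q := ((⟨g, hg⟩ : C[(P : Subgroup G)]) : C[(P : Subgroup G)] ⧸ coreC P) with hq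
    have hdvd : orderOf q ∣ k := by
      have := orderOf_map_dvd (QuotientGroup.mk' (coreC P)) (⟨g, hg⟩ : C[(P : Subgroup G)])
      rwa [Subgroup.orderOf_mk, hgk] at this
    refine Nat.dvd_antisymm hdvd ?_
    have h1 := pow_orderOf_eq_one q
    rw [hq, ← QuotientGroup.mk_pow, hmk] at h1
    have h2 := hpow h1
    rw [SubmonoidClass.coe_pow, ← pow_mul] at h2
    have h3 := orderOf_dvd_of_pow_eq_one h2
    rw [hgk] at h3
    exact hk.dvd_of_dvd_mul_right h3
  rw [ordCount]
  refine (Nat.card_congr (Equiv.ofBijective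
    (fun g : {g : G // orderOf g = k ∧ Commute x g} =>
      (⟨((⟨g.1, (mem_centralizer_sylow P hP).2 g.2.2⟩ : C[(P : Subgroup G)]) : C[(P : Subgroup G)] ⧸ coreC P),
        hord g.1 g.2.1 _⟩ : {q : C[(P : Subgroup G)] ⧸ coreC P // orderOf q = k})) ⟨?_, ?_⟩)).symm
  · rintro ⟨a, hak, hax⟩ ⟨b, hbk, hbx⟩ e
    have h1 := QuotientGroup.eq.1 (congrArg Subtype.val e)
    rw [Subgroup.mem_subgroupOf] at h1
    have h1 := (SetLike.ext_iff.1 hP _).1 h1
    push_cast at h1
    obtain ⟨i, hi⟩ := Subgroup.mem_zpowers_iff.1 h1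
    refine Subtype.ext (inv_mul_eq_one.1 (orderOf_eq_one_iff.1 (Nat.eq_one_of_dvd_coprimes hk ?_ ?_)))
    · refine orderOf_dvd_of_pow_eq_one ?_
      have hb : b = a * x ^ i := by rw [hi, mul_inv_cancel_left]
      have h2 : b ^ k = a ^ k * (x ^ i) ^ k := by rw [hb, (hax.zpow_left i).symm.mul_pow]
      rw [← hak, pow_orderOf_eq_one, one_mul, hak, ← hbk, pow_orderOf_eq_one] at h2
      rw [← hi, ← hbk, ← h2]
    · exact orderOf_dvd_of_pow_eq_one (hpow h1)
  · rintro ⟨q, hq⟩
    obtain ⟨g, rfl⟩ := QuotientGroup.mk_surjective q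
    have h1 := pow_orderOf_eq_one (g : C[(P : Subgroup G)] ⧸ coreC P)
    rw [hq, ← QuotientGroup.mk_pow, hmk, SubmonoidClass.coe_pow] at h1
    obtain ⟨i, hi⟩ := split hk (hpow h1)
    have hz : ((g : G) ^ k) ^ i ∈ Subgroup.zpowers x := Subgroup.zpow_mem _ h1 i
    have hzC : Commute x (((g : G) ^ k) ^ i) := by
      obtain ⟨j, hj⟩ := Subgroup.mem_zpowers_iff.1 hz
      rw [← hj]; exact (Commute.refl x).zpow_right j
    have hhx : Commute x ((((g : G) ^ k) ^ i)⁻¹ * g) :=
      hzC.inv_right.mul_right ((mem_centralizer_sylow P hP).1 g.2)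
    have heq : ((⟨_, (mem_centralizer_sylow P hP).2 hhx⟩ : C[(P : Subgroup G)]) : C[(P : Subgroup G)] ⧸ coreC P) = g := by
      rw [QuotientGroup.eq, Subgroup.mem_subgroupOf]
      refine (SetLike.ext_iff.1 hP _).2 ?_
      push_cast
      rw [mul_inv_rev, inv_inv, mul_assoc, ((Commute.pow_self (g : G) k).zpow_left i).eq, inv_mul_cancel_left]
      exact hz
    refine ⟨⟨_, ⟨Nat.dvd_antisymm (orderOf_dvd_of_pow_eq_one hi) ?_, hhx⟩⟩, Subtype.ext heq⟩
    have h3 := orderOf_map_dvd (QuotientGroup.mk' (coreC P))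
      (⟨_, (mem_centralizer_sylow P hP).2 hhx⟩ : C[(P : Subgroup G)])
    rwa [QuotientGroup.mk'_apply, heq, hq, Subgroup.orderOf_mk] at h3

include hG hx hP in
theorem card_commute_mul {k : ℕ} (hk : k.Coprime p) :
    Nat.card {g : G // orderOf g = p * k ∧ Commute x g} =
      (p - 1) * ordCount (C[(P : Subgroup G)] ⧸ coreC P) k := by
  rw [ordCount_quot hG hx P hP hk, ← card_ne_one hx, ← Nat.card_prod]
  have hzp : ∀ z : {z : Subgroup.zpowers x // z ≠ 1}, orderOf (z.1 : G) = p := fun z =>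
    orderOf_eq_of_mem hx z.1.2 fun e => z.2 (Subtype.ext e)
  have hzc : ∀ (z : Subgroup.zpowers x) {g : G}, Commute x g → Commute (z : G) g := fun z g h => by
    obtain ⟨i, hi⟩ := Subgroup.mem_zpowers_iff.1 z.2
    rw [← hi]; exact h.zpow_left i
  symm
  refine Nat.card_congr (Equiv.ofBijective
    (fun a : {z : Subgroup.zpowers x // z ≠ 1} × {g : G // orderOf g = k ∧ Commute x g} =>
      (⟨(a.1.1 : G) * a.2.1, ⟨by
        rw [(hzc a.1.1 a.2.2.2).orderOf_mul_eq_mul_orderOf_of_coprime (by rw [hzp, a.2.2.1]; exact hk.symm), hzp,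
          a.2.2.1],
        ((hzc a.1.1 (Commute.refl x)).symm).mul_right a.2.2.2⟩⟩ :
        {g : G // orderOf g = p * k ∧ Commute x g})) ⟨?_, ?_⟩)
  · rintro ⟨⟨z, hz⟩, g, hgk, hgx⟩ ⟨⟨z', hz'⟩, g', hgk', hgx'⟩ e
    have e' : (z : G) * g = z' * g' := congrArg Subtype.val e
    have h1 := congrArg (· ^ k) e'
    simp only [(hzc z hgx).mul_pow, (hzc z' hgx').mul_pow] at h1
    rw [← hgk, pow_orderOf_eq_one, hgk, ← hgk', pow_orderOf_eq_one, hgk', mul_one, mul_one] at h1
    have hcop : (Nat.card (Subgroup.zpowers x)).Coprime k := by rw [Nat.card_zpowers, hx]; exact hk.symm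
    obtain rfl : z = z' := (powCoprime hcop).injective (Subtype.ext (by simpa using h1))
    obtain rfl : g = g' := mul_left_cancel e'
    rfl
  · rintro ⟨g, hgo, hgx⟩
    have hgp : (g ^ k) ^ p = 1 := by rw [← pow_mul, mul_comm, ← hgo, pow_orderOf_eq_one]
    obtain ⟨i, hi⟩ := split hk hgp
    set z := (g ^ k) ^ i with hzdef
    have hk0 : k ≠ 0 := fun e => by
      rw [e, Nat.coprime_zero_left] at hk; exact hp.1.ne_one hk
    have hgk : orderOf (g ^ k) = p := by
      rw [orderOf_pow' g hk0, hgo, Nat.gcd_eq_right (Dvd.intro_left p rfl),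
        Nat.mul_div_cancel _ (Nat.pos_of_ne_zero hk0)]
    have hz : z ∈ Subgroup.zpowers x := by
      refine Subgroup.zpow_mem _ ?_ i
      exact mem_zpowers_of_commute hG hx hgk (hgx.pow_right k)
    set h := z⁻¹ * g with hh
    have hzx : Commute x z := (hgx.pow_right k).zpow_right i
    have hzg : Commute z g := (Commute.pow_self g k).zpow_left i
    have hprod : z * h = g := mul_inv_cancel_left z g
    have hho : orderOf h = k := by
      refine Nat.dvd_antisymm (orderOf_dvd_of_pow_eq_one hi) ((Nat.mul_dvd_mul_iff_left hp.1.pos).1 ?_)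
      rw [← hgo, ← hprod]
      refine ((Commute.refl z).inv_right.mul_right hzg).orderOf_mul_dvd_lcm.trans ?_
      refine (Nat.lcm_dvd_mul _ _).trans (Nat.mul_dvd_mul ?_ dvd_rfl)
      refine orderOf_dvd_of_pow_eq_one ?_
      obtain ⟨j, hj⟩ := Subgroup.mem_zpowers_iff.1 hz
      rw [← hj, ← zpow_natCast, ← zpow_mul, mul_comm, zpow_mul, zpow_natCast, ← hx, pow_orderOf_eq_one, one_zpow]
    have hz1 : (⟨z, hz⟩ : Subgroup.zpowers x) ≠ 1 := fun e => by
      have e1 : z = 1 := congrArg Subtype.val e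
      rw [e1, one_mul] at hprod
      rw [hprod, hgo] at hho
      exact hp.1.ne_one (Nat.eq_of_mul_eq_mul_right (Nat.pos_of_ne_zero hk0) (hho.trans (one_mul k).symm))
    exact ⟨(⟨⟨z, hz⟩, hz1⟩, ⟨h, hho, hzx.inv_right.mul_right hgx⟩), Subtype.ext hprod⟩

include hG hx hP in
theorem ordCount_modEq_quot {k : ℕ} (hk : k.Coprime p) :
    ordCount G k ≡ ordCount (C[(P : Subgroup G)] ⧸ coreC P) k [MOD p] := by
  rw [ordCount_quot hG hx P hP hk]
  exact ordCount_modEq hx k

include hG hx hP in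
theorem ordCount_mul_modEq_quot {k : ℕ} (hk : k.Coprime p) :
    ordCount G (p * k) ≡ (p - 1) * ordCount (C[(P : Subgroup G)] ⧸ coreC P) k [MOD p] := by
  rw [← card_commute_mul hG hx P hP hk]
  exact ordCount_modEq hx _

end Cfsg.Lib.MTwentyFour
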