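import Cfsg.Agent.Lib.MTwentyFour.Columns
import Cfsg.Agent.Lib.Small.BlockShape

/-!
A simple group of order 244823040 with the local structure of M24 at 23, 11, 7 and 5 has exactly one
irreducible character of degree 23.
-/

set_option autoImplicit false
set_option linter.style.haveILetI false
set_option linter.unusedSectionVars false
set_option maxHeartbeats 1000000

namespace Cfsg.Lib.MTwentyFour

open Cfsg Cfsg.Lib.Block Cfsg.Lib.MTwentyFour.Search
open scoped ComplexConjugate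

universe u

noncomputable local instance (priority := high) fintypeSubgroupDegrees {A : Type u}
    [Group A] [Fintype A] (H : Subgroup A) : Fintype H := Fintype.ofFinite H

local notation "C[" P "]" => Subgroup.centralizer (SetLike.coe P)

variable {G : Type u} [Group G] [Fintype G]

/-- The degrees of the irreducible characters. -/
noncomputable def degrees (G : Type u) [Group G] [Fintype G] : Multiset ℕ :=
  (Finset.univ : Finset (IrrCharacter G)).val.map dg

theorem filter_degrees (q : ℕ → Prop) [DecidablePred q] :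
    (degrees G).filter q = (Finset.univ.filter fun χ : IrrCharacter G => q (dg χ)).val.map dg := by
  rw [degrees, Multiset.filter_map, Finset.filter_val]
  rfl

theorem map_erase_triv {S : Finset (IrrCharacter G)} [DecidableEq (IrrCharacter G)] (h : trivChar G ∈ S) :
    S.val.map dg = 1 ::ₘ (S.erase (trivChar G)).val.map dg := by
  have e := Multiset.map_cons dg (trivChar G) (S.erase (trivChar G)).val
  rw [show dg (trivChar G) = 1 from deg_triv, Finset.erase_val, Multiset.cons_erase h] at e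
  exact e

theorem map_union {S S' : Finset (IrrCharacter G)} [DecidableEq (IrrCharacter G)] (h : Disjoint S S') :
    (S ∪ S').val.map dg = S.val.map dg + S'.val.map dg := by
  rw [← Finset.disjUnion_eq_union S S' h, Finset.disjUnion_val, Multiset.map_add]

section Blocks

variable {p : ℕ} [Fact p.Prime] {M : Ideal AlgInt} {x y : G} {ψ₁ ψ₂ : IrrCharacter G}
  {P : Subgroup G} {θ : IrrCharacter C[P]} {e r f : ℕ}

/-- Search data of a block with two exceptional characters. -/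
theorem two_block [DecidableEq (IrrCharacter G)] (R : RootBlock p M P θ e r) (hx : ExcPair x ψ₁ ψ₂)
    (hy : ∀ χ : IrrCharacter G, (χ : G → ℂ) y = (v11 (dg χ) : ℂ)) (hpx : ¬ p ∣ orderOf x)
    (hpy : ¬ p ∣ orderOf y) (hf : f = r * charDegree (θ : C[P] → ℂ)) (hf0 : 0 < f) (hfp : 2 * f < p)
    (he : 2 * e + 1 = p) :
    ∃ e', BlockData p f (R.X.val.map dg) e' ∧ isExc e' = false ∧
      (e' : ℤ) ≡ -((f : ℤ) * e * R.t) [ZMOD p] ∧ (∀ ψ ∈ R.Y, dg ψ = e') ∧
      (R.X ∪ R.Y).val.map dg = membersM (R.X.val.map dg) e' := by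
  have he0 : 0 < e := by
    rcases Nat.eq_zero_or_pos e with h | h
    · subst h; have := (Fact.out : p.Prime).two_le; omega
    · exact h
  obtain ⟨a, b, hab, hY⟩ := Finset.card_eq_two.1 (show R.Y.card = 2 by
    rw [R.card_Y, show p - 1 = 2 * e by omega, Nat.mul_div_cancel _ he0])
  have ha : a ∈ R.Y := by rw [hY]; simp
  have hb : b ∈ R.Y := by rw [hY]; simp
  have hdeg : ∀ ψ ∈ R.Y, dg ψ = dg a := fun ψ hψ => by
    have h := R.agree ψ hψ a ha 1 (by simp [(Fact.out : p.Prime).ne_one])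
    rw [apply_one_eq_charDegree, apply_one_eq_charDegree] at h
    exact_mod_cast h
  have hne : isExc (dg a) = false := by
    by_contra hexc
    rw [Bool.not_eq_false] at hexc
    have h1 := (hx.iff a).1 hexc
    have h2 := (hx.iff b).1 (by rw [hdeg b hb]; exact hexc)
    have hag := R.agree a ha b hb x hpx
    rcases h1 with rfl | rfl <;> rcases h2 with rfl | rfl
    exacts [hab rfl, hx.val_ne hag, hx.val_ne hag.symm, hab rfl]
  have hcY := R.congY a ha
  have hfr : (r : ℤ) * (charDegree (θ : C[P] → ℂ) : ℤ) = (f : ℤ) := by rw [hf]; push_cast; rfl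
  rw [hfr] at hcY
  have hexcv : excAt p (dg a) = (f : ℤ) * R.t := by
    refine excAt_eq ?_ ?_
    · have h := Int.modEq_iff_dvd.1 hcY
      refine Int.modEq_iff_dvd.2 ?_
      have hp : (p : ℤ) = 2 * (e : ℤ) + 1 := by exact_mod_cast he.symm
      have h' : (p : ℤ) ∣ 2 * (-((f : ℤ) * e * R.t) - (dg a : ℤ)) + (p : ℤ) * ((f : ℤ) * R.t) :=
        dvd_add (h.mul_left 2) (dvd_mul_right _ _)
      convert h' using 1
      rw [hp]; ring
    · rcases R.sign_t with e1 | e1 <;> rw [e1] <;> simp <;> omega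
  refine ⟨dg a, blockData_of hx hy hf0 (by omega) (by omega) R.X R.s R.sign (fun χ hχ => ?_)
    (t := R.t) ⟨by rw [hexcv], by rw [hexcv], by rw [hexcv]⟩ (a : G → ℂ) (apply_one_eq_charDegree a) (hy a)
    (hx.other a ?_ ?_) ?_, hne, hcY, hdeg, ?_⟩
  · have h := R.congX χ hχ
    rwa [hfr] at h
  · intro e1; rw [e1, ← Bool.not_eq_true, hx.iff] at hne; simp at hne
  · intro e1; rw [e1, ← Bool.not_eq_true, hx.iff] at hne; simp at hne
  · rintro g (rfl | rfl | rfl)
    exacts [R.rel a ha 1 (by simp [(Fact.out : p.Prime).ne_one]), R.rel a ha g hpy, R.rel a ha g hpx]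
  · rw [map_union R.disj, membersM, if_neg (Block.charDegree_pos a).ne', hY,
      Finset.insert_val_of_notMem (by simpa using hab), Finset.singleton_val, Multiset.map_cons,
      Multiset.map_singleton, hdeg b hb]
    simp [add_comm, Multiset.cons_swap]

/-- Search data of a block with one exceptional character. -/
theorem one_block [DecidableEq (IrrCharacter G)] (R : RootBlock p M P θ e 1) (hx : ExcPair x ψ₁ ψ₂)
    (hy : ∀ χ : IrrCharacter G, (χ : G → ℂ) y = (v11 (dg χ) : ℂ)) (hpx : ¬ p ∣ orderOf x)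
    (hpy : ¬ p ∣ orderOf y) (hf : f = charDegree (θ : C[P] → ℂ)) (hf0 : 0 < f) (hfp : f < p)
    (h2f : 2 * f ≠ p) (he : e + 1 = p) :
    BlockData p f ((R.X ∪ R.Y).val.map dg) 0 ∧ (R.X ∪ R.Y).card = p ∧
      ∀ χ ∈ R.X ∪ R.Y, ∃ σ : ℤ, (σ = 1 ∨ σ = -1) ∧ ∀ k : C[P], pPt p (k : G) ∈ P → p ∣ orderOf (k : G) →
        (χ : G → ℂ) (k : G) = (σ : ℂ) * (θ : C[P] → ℂ) k := by
  have he0 : 0 < e := by have := (Fact.out : p.Prime).two_le; omega
  obtain ⟨a, hY⟩ := Finset.card_eq_one.1 (show R.Y.card = 1 by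
    rw [R.card_Y, show p - 1 = e by omega, Nat.div_self he0])
  have ha : a ∈ R.Y := by rw [hY]; simp
  set σ : IrrCharacter G → ℤ := fun χ => if χ ∈ R.X then R.s χ else R.t with hσdef
  have hσa : σ a = R.t := if_neg (Finset.disjoint_right.1 R.disj ha)
  refine ⟨blockData_of hx hy hf0 hfp h2f (R.X ∪ R.Y) σ (fun χ hχ => ?_) (fun χ hχ => ?_) (t := 0)
    ?_ (fun _ => 0) (by simp) (by simp [v11]) (by simp [w23]) ?_, ?_, fun χ hχ => ?_⟩
  · rcases Finset.mem_union.1 hχ with h | h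
    · rw [hσdef]; simp only [if_pos h]; exact R.sign χ h
    · rw [hσdef]; simp only [if_neg (Finset.disjoint_right.1 R.disj h)]; exact R.sign_t
  · rcases Finset.mem_union.1 hχ with h | h
    · rw [hσdef]; simp only [if_pos h]
      have h' := R.congX χ h
      simpa [hf] using h'
    · rw [hσdef]; simp only [if_neg (Finset.disjoint_right.1 R.disj h)]
      have h' := R.congY χ h
      refine h'.trans (Int.modEq_iff_dvd.2 ⟨(f : ℤ) * R.t, ?_⟩)
      rw [← hf]
      have hp : (p : ℤ) = (e : ℤ) + 1 := by exact_mod_cast he.symm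
      rw [hp]; push_cast; ring
  · simp [excAt, v11, w23]
  · intro g hg
    have hreg : ¬ p ∣ orderOf g := by
      rcases hg with rfl | rfl | rfl
      exacts [by simp [(Fact.out : p.Prime).ne_one], hpy, hpx]
    have h := R.rel a ha g hreg
    rw [Finset.sum_union R.disj, hY, Finset.sum_singleton,
      Finset.sum_congr rfl fun χ hχ => show (σ χ : ℂ) * (χ : G → ℂ) g = (R.s χ : ℂ) * (χ : G → ℂ) g by
        rw [hσdef]; simp only [if_pos hχ]]
    rw [hσa]
    simpa using h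
  · rw [Finset.card_union_of_disjoint R.disj, R.card_X, hY, Finset.card_singleton, he]
  · rcases Finset.mem_union.1 hχ with h | h
    · exact ⟨R.s χ, R.sign χ h, fun k hk hk1 => R.val rfl χ h k hk hk1⟩
    · refine ⟨R.t, R.sign_t, fun k hk hk1 => ?_⟩
      have hs := R.sumY rfl k hk hk1
      rw [hY, Finset.mem_singleton] at h
      rwa [hY, Finset.sum_singleton, ← h] at hs

end Blocks

section Trivial

variable {p : ℕ} [Fact p.Prime] {M : Ideal AlgInt} (hM : IsPModular p M) (P : Sylow p G)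
  (hcard : Nat.card (P : Subgroup G) = p)

include hM hcard

theorem triv_mem {e : ℕ} (R : RootBlock p M (P : Subgroup G) (trivRoot P).1 e 1) :
    trivChar G ∈ R.block := by
  obtain ⟨h, -⟩ := principal_root hM (P := (P : Subgroup G)) P.2 (le_centralizer_self hcard)
  have h' : IsInducedBlock M C[(P : Subgroup G)]
      (blockOf M ((trivRoot P).1 : C[(P : Subgroup G)] → ℂ)) (principalBlock M G) := h
  rw [isInducedBlock_unique hM R.induced h']
  exact trivChar_mem_principal hM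

end Trivial

theorem centralizer_zpowers {z : G} {P : Subgroup G} (h : Subgroup.zpowers z = P) :
    Subgroup.centralizer ({z} : Set G) = C[P] := by
  subst h
  ext g
  rw [Subgroup.mem_centralizer_singleton_iff]
  constructor
  · intro hg
    refine Subgroup.mem_centralizer_iff.2 fun w hw => ?_
    obtain ⟨n, rfl⟩ := Subgroup.mem_zpowers_iff.1 hw
    exact ((Commute.zpow_right (show Commute g z from hg) n)).eq.symm
  · intro hg
    exact (Subgroup.mem_centralizer_iff.1 hg z (Subgroup.mem_zpowers z)).symm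

theorem not_conj_inv (P : Subgroup G) {z : G} (hP : Subgroup.zpowers z = P) (hz : orderOf z = 7)
    (he : (C[P]).relIndex (Subgroup.normalizer (P : Set G)) = 3) : ¬ IsConj z z⁻¹ := by
  intro h
  obtain ⟨g, hg⟩ := isConj_iff.1 h
  have hC := centralizer_zpowers hP
  have hgN : g ∈ Subgroup.normalizer (P : Set G) := by
    rw [← hP, Subgroup.mem_normalizer_iff]
    have hmap : (Subgroup.zpowers z).map (MulAut.conj g).toMonoidHom = Subgroup.zpowers z := by
      rw [MonoidHom.map_zpowers]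
      show Subgroup.zpowers (g * z * g⁻¹) = _
      rw [hg, Subgroup.zpowers_inv]
    intro w
    constructor
    · intro hw; rw [← hmap]; exact ⟨w, hw, rfl⟩
    · intro hw
      rw [← hmap] at hw
      obtain ⟨v, hv, e⟩ := hw
      rwa [← (MulAut.conj g).injective (e : (MulAut.conj g) v = (MulAut.conj g) w)]
  haveI := normalMK (G := G) P
  have h3 : g ^ 3 ∈ C[P] := by
    have := Subgroup.pow_index_mem ((C[P]).subgroupOf (Subgroup.normalizer (P : Set G))) ⟨g, hgN⟩
    rw [show ((C[P]).subgroupOf (Subgroup.normalizer (P : Set G))).index = 3 from he] at this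
    exact this
  have h2 : g ^ 2 ∈ C[P] := by
    rw [← hC, Subgroup.mem_centralizer_singleton_iff]
    calc g ^ 2 * z = g * (g * z * g⁻¹) * g⁻¹ * g ^ 2 := by rw [pow_two]; group
      _ = g * z⁻¹ * g⁻¹ * g ^ 2 := by rw [hg]
      _ = (g * z * g⁻¹)⁻¹ * g ^ 2 := by group
      _ = z * g ^ 2 := by rw [hg, inv_inv]
  have h1 : g ∈ C[P] := by
    have := mul_mem (inv_mem h2) h3
    rwa [show (g ^ 2)⁻¹ * g ^ 3 = g by group] at this
  rw [← hC, Subgroup.mem_centralizer_singleton_iff] at h1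
  rw [h1, mul_inv_cancel_right] at hg
  have : z ^ 2 = 1 := by rw [pow_two]; nth_rewrite 2 [hg]; exact mul_inv_cancel z
  have := orderOf_dvd_of_pow_eq_one this
  rw [hz] at this
  norm_num at this

variable (hN : Nat.card G = ord24) {x y : G} {ψ₁ ψ₂ : IrrCharacter G}
  (hx : ExcPair x ψ₁ ψ₂) (hy : ∀ χ : IrrCharacter G, (χ : G → ℂ) y = (v11 (dg χ) : ℂ))
  (hox : orderOf x = 23) (hoy : orderOf y = 11)

include hN hx hy hox hoy

/-- One block at 7 in the sum over all characters. -/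
theorem block_sum [Fact (Nat.Prime 7)] [DecidableEq (IrrCharacter G)] {M : Ideal AlgInt} (P : Sylow 7 G)
    {θ : TrivOn (P : Subgroup G)} (R : RootBlock 7 M (P : Subgroup G) θ.1 3 1) {f : ℕ}
    (hf : f = charDegree (θ.1 : C[(P : Subgroup G)] → ℂ)) {z : C[(P : Subgroup G)]}
    (hz : orderOf (z : G) = 7) (hzP : (z : G) ∈ (P : Subgroup G))
    (hzinv : ¬ IsConj (z : G) (z : G)⁻¹) {e' : ℕ} (he' : ∀ ψ ∈ R.Y, dg ψ = e') :
    ∑ χ ∈ R.X ∪ R.Y, (χ : G → ℂ) (z : G) * (χ : G → ℂ) (z : G) * ((v11 (dg χ) * ((ord24 / dg χ : ℕ) : ℤ) : ℤ) : ℂ) =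
        (mZ f (-3) (R.X.val.map dg) e' : ℂ) ∧
      ∑ χ ∈ R.X ∪ R.Y, (χ : G → ℂ) (z : G) * (χ : G → ℂ) (z : G)⁻¹ *
          ((v11 (dg χ) * ((ord24 / dg χ : ℕ) : ℤ) : ℤ) : ℂ) =
        (mZ f 4 (R.X.val.map dg) e' : ℂ) := by
  have hd : (7 : ℕ) ∣ orderOf (z : G) := (by rw [hz])
  have hzi : (z : G)⁻¹ ∈ (P : Subgroup G) := inv_mem hzP
  have hpz : pPt 7 (z : G) = (z : G) := pPt_of_order hz
  have hpzi : pPt 7 ((z : G)⁻¹) = (z : G)⁻¹ := pPt_of_order (by rw [orderOf_inv, hz])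
  have hθ : ∀ k : C[(P : Subgroup G)], (k : G) ∈ (P : Subgroup G) →
      (θ.1 : C[(P : Subgroup G)] → ℂ) k = (f : ℂ) := fun k hk => by
    rw [θ.2 k hk, apply_one_eq_charDegree, ← hf]
  have hX : ∀ χ ∈ R.X, (χ : G → ℂ) (z : G) = (R.s χ : ℂ) * f ∧
      (χ : G → ℂ) (z : G)⁻¹ = (R.s χ : ℂ) * f := fun χ hχ => by
    constructor
    · rw [R.val rfl χ hχ z (by rw [hpz]; exact hzP) hd, hθ z hzP]
    · have h := R.val rfl χ hχ z⁻¹ (by rw [Subgroup.coe_inv, hpzi]; exact hzi)
        (by rw [Subgroup.coe_inv, orderOf_inv]; exact hd)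
      rw [hθ _ (by rw [Subgroup.coe_inv]; exact hzi)] at h
      exact h
  have hsq : ∀ χ ∈ R.X, (R.s χ : ℂ) * (R.s χ : ℂ) = 1 := fun χ hχ => by
    rcases R.sign χ hχ with e | e <;> simp [e]
  obtain ⟨a, b, hab, hY⟩ := Finset.card_eq_two.1 (show R.Y.card = 2 by rw [R.card_Y])
  have hs := R.sumY rfl z (by rw [hpz]; exact hzP) hd
  rw [hY, Finset.sum_pair hab, hθ z hzP] at hs
  have hconj : ∀ χ : IrrCharacter G, (χ : G → ℂ) (z : G)⁻¹ = conj ((χ : G → ℂ) (z : G)) := fun χ =>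
    χ.2.isCharacter.apply_inv _
  have ho := R.orth (z : G) (z : G)⁻¹ (by rw [hpz, hpzi]; exact hzinv)
  simp only [hconj, Complex.conj_conj] at ho
  have hXX : ∀ χ ∈ R.X, (χ : G → ℂ) (z : G) * (χ : G → ℂ) (z : G) = (f : ℂ) * f := fun χ hχ => by
    rw [(hX χ hχ).1]; linear_combination (f : ℂ) * f * hsq χ hχ
  rw [Finset.sum_congr rfl hXX,
    Finset.sum_const, R.card_X, nsmul_eq_mul, hY, Finset.sum_pair hab] at ho
  have hq : (a : G → ℂ) (z : G) * (a : G → ℂ) (z : G) + (b : G → ℂ) (z : G) * (b : G → ℂ) (z : G) =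
      ((-3 * (f : ℤ) * f : ℤ) : ℂ) := by push_cast; push_cast at ho; linear_combination ho
  have hfz : (f : ℤ) ≠ 0 := by rw [hf]; exact_mod_cast (Block.charDegree_pos θ.1).ne'
  have hnorm := pair_values hfz R.sign_t (by push_cast; exact hs) hq
  have hmX : ∑ χ ∈ R.X, ((v11 (dg χ) * ((ord24 / dg χ : ℕ) : ℤ) : ℤ) : ℂ) =
      ((((R.X.val.map dg).map fun d => v11 d * ((ord24 / d : ℕ) : ℤ)).sum : ℤ) : ℂ) := by
    rw [Multiset.map_map, ← Int.cast_sum]
    rfl
  have h1 : ∀ χ ∈ R.X,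
      (χ : G → ℂ) (z : G) * (χ : G → ℂ) (z : G) * ((v11 (dg χ) * ((ord24 / dg χ : ℕ) : ℤ) : ℤ) : ℂ) =
        (f : ℂ) * f * ((v11 (dg χ) * ((ord24 / dg χ : ℕ) : ℤ) : ℤ) : ℂ) := fun χ hχ => by
    rw [hXX χ hχ]
  have h2 : ∀ χ ∈ R.X,
      (χ : G → ℂ) (z : G) * (χ : G → ℂ) (z : G)⁻¹ * ((v11 (dg χ) * ((ord24 / dg χ : ℕ) : ℤ) : ℤ) : ℂ) =
        (f : ℂ) * f * ((v11 (dg χ) * ((ord24 / dg χ : ℕ) : ℤ) : ℤ) : ℂ) := fun χ hχ => by
    rw [(hX χ hχ).2, ← (hX χ hχ).1, hXX χ hχ]
  constructor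
  · rw [Finset.sum_union R.disj, Finset.sum_congr rfl h1,
      ← Finset.mul_sum, hmX, hY, Finset.sum_pair hab, he' a (by rw [hY]; simp), he' b (by rw [hY]; simp), mZ]
    generalize (ord24 / e' : ℕ) = q
    push_cast at hq ⊢
    linear_combination ((v11 e' : ℂ) * (q : ℂ)) * hq
  · rw [Finset.sum_union R.disj, Finset.sum_congr rfl h2,
      ← Finset.mul_sum, hmX, hY, Finset.sum_pair hab, he' a (by rw [hY]; simp), he' b (by rw [hY]; simp),
      hconj a, hconj b, mZ]
    generalize (ord24 / e' : ℕ) = q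
    push_cast at hnorm ⊢
    linear_combination ((v11 e' : ℂ) * (q : ℂ)) * hnorm

/-- The class products `z · z^±1 = y` give two congruences. -/
theorem dvd_sum [Fact (Nat.Prime 7)] {z b : G} (hz : Nat.card (Subgroup.centralizer ({z} : Set G)) = 42)
    (hb : Nat.card (Subgroup.centralizer ({b} : Set G)) = 42) {m : ℤ}
    (hm : ∑ χ : IrrCharacter G, (χ : G → ℂ) z * (χ : G → ℂ) b *
      ((v11 (dg χ) * ((ord24 / dg χ : ℕ) : ℤ) : ℤ) : ℂ) = (m : ℂ)) : (1764 : ℤ) ∣ m := by
  classical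
  have hK : ∀ {g : G}, Nat.card (Subgroup.centralizer ({g} : Set G)) = 42 →
      ((Char.classFinset g).card : ℂ) = 5829120 := by
    intro g hg
    rw [Char.card_classFinset]
    have h := (Subgroup.centralizer ({g} : Set G)).card_mul_index
    rw [hg, hN, show ord24 = 244823040 from rfl] at h
    have h' : (Subgroup.centralizer ({g} : Set G)).index = 5829120 := by omega
    rw [h']; norm_num
  have h := Char.card_class_product z b y
  rw [hK hz, hK hb, hN] at h
  have hterm : ∀ χ : IrrCharacter G, (ord24 : ℂ) * ((χ : G → ℂ) z * (χ : G → ℂ) b * conj ((χ : G → ℂ) y) / (χ : G → ℂ) 1) =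
      (χ : G → ℂ) z * (χ : G → ℂ) b * ((v11 (dg χ) * ((ord24 / dg χ : ℕ) : ℤ) : ℤ) : ℂ) := by
    intro χ
    have hd : dg χ ∣ ord24 := hN ▸ Block.charDegree_dvd_card χ
    have hd0 : (dg χ : ℂ) ≠ 0 := Nat.cast_ne_zero.2 (Block.charDegree_pos χ).ne'
    rw [hy, map_intCast, apply_one_eq_charDegree, Int.cast_mul, Int.cast_natCast, Nat.cast_div hd hd0]
    field_simp
  rw [← Finset.sum_congr rfl fun χ _ => hterm χ, ← Finset.mul_sum] at hm
  set S := ∑ χ : IrrCharacter G, (χ : G → ℂ) z * (χ : G → ℂ) b * conj ((χ : G → ℂ) y) / (χ : G → ℂ) 1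
  set n := ((Char.classFinset z ×ˢ Char.classFinset b).filter fun q => q.1 * q.2 = y).card
  refine ⟨n, ?_⟩
  have h2 : (m : ℂ) = ((1764 * (n : ℤ) : ℤ) : ℂ) := by
    push_cast
    rw [← hm, h, show ((ord24 : ℕ) : ℂ) = 244823040 by norm_num]
    ring
  exact_mod_cast h2

/-- The blocks at 7. -/
theorem seven_part [Fact (Nat.Prime 7)] (P : Sylow 7 G)
    (hP : Nat.card (P : Subgroup G) = 7) (hC : Nat.card C[(P : Subgroup G)] = 42)
    (he : (C[(P : Subgroup G)]).relIndex (Subgroup.normalizer ((P : Subgroup G) : Set G)) = 3)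
    (hnc : ¬ ∀ a b : C[(P : Subgroup G)] ⧸ coreC P, a * b = b * a) :
    ∃ (A B C : Multiset ℕ) (a b c : ℕ), BlockData 7 1 (1 ::ₘ A) a ∧ Multiset.card A = 2 ∧ ExcDeg 7 3 a ∧
      BlockData 7 1 B b ∧ Multiset.card B = 3 ∧ ExcDeg 7 3 b ∧
      BlockData 7 2 C c ∧ Multiset.card C = 3 ∧ ExcDeg 7 1 c ∧
      (degrees G).filter (fun d => ¬ 7 ∣ d) = membersM (1 ::ₘ A) a + membersM B b + membersM C c ∧
      (1764 : ℤ) ∣ mZ 1 (-3) (1 ::ₘ A) a + mZ 1 (-3) B b + mZ 2 (-3) C c ∧
      (1764 : ℤ) ∣ mZ 1 4 (1 ::ₘ A) a + mZ 1 4 B b + mZ 2 4 C c := by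
  classical
  obtain ⟨M, hM⟩ := exists_isPModular (Fact.out : Nat.Prime 7)
  have hQ : Nat.card (C[(P : Subgroup G)] ⧸ coreC P) = 6 := by
    have h := (coreC P).card_eq_card_quotient_mul_card_subgroup
    rw [Nat.card_congr (Subgroup.subgroupOfEquivOfLe (le_centralizer_self hP)).toEquiv, hP, hC] at h
    omega
  obtain ⟨εq, τq, hε, hε1, hτ2, hall⟩ := shape_six hQ hnc
  set ε := rootEquiv P εq with hεdef
  set τ := rootEquiv P τq with hτdef
  have hεd : charDegree (ε.1 : C[(P : Subgroup G)] → ℂ) = 1 := by rw [hεdef, deg_rootEquiv, hε1]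
  have hτd : charDegree (τ.1 : C[(P : Subgroup G)] → ℂ) = 2 := by rw [hτdef, deg_rootEquiv, hτ2]
  have hεt : ε ≠ trivRoot P := by
    rw [hεdef, ← rootEquiv_triv]; exact fun e => hε ((rootEquiv P).injective e)
  have hcases : ∀ θ : TrivOn (P : Subgroup G), θ = trivRoot P ∨ θ = ε ∨ θ = τ := by
    intro θ
    obtain ⟨q, rfl⟩ := (rootEquiv P).surjective θ
    rcases hall q with rfl | rfl | rfl
    · exact Or.inl (rootEquiv_triv P)
    · exact Or.inr (Or.inl rfl)
    · exact Or.inr (Or.inr rfl)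
  have hdt : charDegree ((trivRoot P).1 : C[(P : Subgroup G)] → ℂ) = 1 := deg_trivRoot P
  have hfε : RootFixed P ε := by
    intro g hg
    rcases hcases (conjRoot P hg ε) with h | h | h
    · exact absurd (conjRoot_injective P hg (h.trans (conjRoot_triv P hg).symm)) hεt
    · exact h
    · have := deg_conjRoot P hg ε
      rw [h, hτd, hεd] at this
      norm_num at this
  have hfτ : RootFixed P τ := by
    intro g hg
    have hd := deg_conjRoot P hg τ
    rcases hcases (conjRoot P hg τ) with h | h | h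
    · rw [h, hdt, hτd] at hd; norm_num at hd
    · rw [h, hεd, hτd] at hd; norm_num at hd
    · exact h
  obtain ⟨RA⟩ := exists_rootBlock_fixed P hP hM (trivRoot P) (fun g hg => conjRoot_triv P hg) he
  obtain ⟨RB⟩ := exists_rootBlock_fixed P hP hM ε hfε he
  obtain ⟨RC⟩ := exists_rootBlock_fixed P hP hM τ hfτ he
  have h7x : ¬ 7 ∣ orderOf x := by rw [hox]; norm_num
  have h7y : ¬ 7 ∣ orderOf y := by rw [hoy]; norm_num
  obtain ⟨a, hA, haE, hac, haY, hAm⟩ := two_block RA hx hy h7x h7y (f := 1) (by rw [hdt]) (by norm_num)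
    (by norm_num) (by norm_num)
  obtain ⟨b, hB, hbE, hbc, hbY, hBm⟩ := two_block RB hx hy h7x h7y (f := 1) (by rw [hεd]) (by norm_num)
    (by norm_num) (by norm_num)
  obtain ⟨c, hC', hcE, hcc, hcY, hCm⟩ := two_block RC hx hy h7x h7y (f := 2) (by rw [hτd]) (by norm_num)
    (by norm_num) (by norm_num)
  have hres1 : ∀ {d : ℕ} {t : ℤ}, t = 1 ∨ t = -1 → (d : ℤ) ≡ -(((1 : ℕ) : ℤ) * ((3 : ℕ) : ℤ) * t) [ZMOD (7 : ℕ)] →
      d % 7 = 3 ∨ d % 7 = 7 - 3 := by
    intro d t ht h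
    rw [Int.modEq_iff_dvd] at h
    rcases ht with rfl | rfl <;> push_cast at h <;> omega
  have hres2 : ∀ {d : ℕ} {t : ℤ}, t = 1 ∨ t = -1 → (d : ℤ) ≡ -(((2 : ℕ) : ℤ) * ((3 : ℕ) : ℤ) * t) [ZMOD (7 : ℕ)] →
      d % 7 = 1 ∨ d % 7 = 7 - 1 := by
    intro d t ht h
    rw [Int.modEq_iff_dvd] at h
    rcases ht with rfl | rfl <;> push_cast at h <;> omega
  have htA : trivChar G ∈ RA.X := by
    rcases (RA.mem_block _).1 (triv_mem hM P hP RA) with h | h
    · exact h
    · have h1 := haY _ h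
      rw [show dg (trivChar G) = 1 from deg_triv] at h1
      have := hres1 RA.sign_t hac
      omega
  have hAX : RA.X.val.map dg = 1 ::ₘ (RA.X.erase (trivChar G)).val.map dg := map_erase_triv htA
  refine ⟨(RA.X.erase (trivChar G)).val.map dg, RB.X.val.map dg, RC.X.val.map dg, a, b, c, hAX ▸ hA,
    by rw [Multiset.card_map]; show (RA.X.erase _).card = 2; rw [Finset.card_erase_of_mem htA, RA.card_X],
    ⟨haE, hres1 RA.sign_t hac⟩, hB, by rw [Multiset.card_map]; exact RB.card_X, ⟨hbE, hres1 RB.sign_t hbc⟩,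
    hC', by rw [Multiset.card_map]; exact RC.card_X, ⟨hcE, hres2 RC.sign_t hcc⟩, ?_⟩
  rw [← hAX]
  have hAB : Disjoint (RA.X ∪ RA.Y) (RB.X ∪ RB.Y) :=
    disjoint_of_root P hP hM RA RB fun g hg => by rw [hfε g hg]; exact hεt
  have hτne : ∀ {θ : TrivOn (P : Subgroup G)}, charDegree (θ.1 : C[(P : Subgroup G)] → ℂ) = 1 →
      ∀ g (hg : g ∈ Subgroup.normalizer ((P : Subgroup G) : Set G)), conjRoot P hg τ ≠ θ := by
    intro θ hθ g hg e
    rw [hfτ g hg] at e
    rw [← e, hτd] at hθ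
    norm_num at hθ
  have hAC : Disjoint (RA.X ∪ RA.Y) (RC.X ∪ RC.Y) := disjoint_of_root P hP hM RA RC (hτne hdt)
  have hBC : Disjoint (RB.X ∪ RB.Y) (RC.X ∪ RC.Y) := disjoint_of_root P hP hM RB RC (hτne hεd)
  set S := (RA.X ∪ RA.Y) ∪ (RB.X ∪ RB.Y) ∪ (RC.X ∪ RC.Y) with hS
  have hcover : ∀ χ, χ ∈ S ↔ ¬ 7 ∣ dg χ := by
    intro χ
    simp only [hS, Finset.mem_union]
    constructor
    · rintro ((h | h) | h)
      exacts [RA.not_dvd χ ((RA.mem_block χ).2 h), RB.not_dvd χ ((RB.mem_block χ).2 h),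
        RC.not_dvd χ ((RC.mem_block χ).2 h)]
    · intro h
      obtain ⟨θ, hθ⟩ := exists_root hM P hP h
      rcases hcases θ with rfl | rfl | rfl
      exacts [Or.inl (Or.inl ((RA.mem_block χ).1 (mem_block_of_root P hP hM RA hθ))),
        Or.inl (Or.inr ((RB.mem_block χ).1 (mem_block_of_root P hP hM RB hθ))),
        Or.inr ((RC.mem_block χ).1 (mem_block_of_root P hP hM RC hθ))]
  have hdisj : Disjoint ((RA.X ∪ RA.Y) ∪ (RB.X ∪ RB.Y)) (RC.X ∪ RC.Y) := Finset.disjoint_union_left.2 ⟨hAC, hBC⟩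
  refine ⟨?_, ?_⟩
  · rw [filter_degrees, show (Finset.univ.filter fun χ : IrrCharacter G => ¬ 7 ∣ dg χ) = S by
      ext χ; simp [hcover χ], hS, map_union hdisj, map_union hAB, hAm, hBm, hCm]
  obtain ⟨⟨z₀, hz₀P⟩, hz₀⟩ := exists_prime_orderOf_dvd_card' (G := (P : Subgroup G)) 7 (by rw [hP])
  rw [Subgroup.orderOf_mk] at hz₀
  set z : C[(P : Subgroup G)] := ⟨z₀, le_centralizer_self hP hz₀P⟩
  have hzp : Subgroup.zpowers z₀ = (P : Subgroup G) :=
    zpowers_eq_of_mem hP hz₀P fun e => by rw [e, orderOf_one] at hz₀; norm_num at hz₀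
  have hzi : ¬ IsConj z₀ z₀⁻¹ := not_conj_inv _ hzp hz₀ he
  have hc1 : Nat.card (Subgroup.centralizer ({z₀} : Set G)) = 42 := by rw [centralizer_zpowers hzp, hC]
  have hc2 : Nat.card (Subgroup.centralizer ({z₀⁻¹} : Set G)) = 42 := by
    rw [centralizer_zpowers (P := (P : Subgroup G)) (by rw [Subgroup.zpowers_inv, hzp]), hC]
  have hsA := block_sum hN hx hy hox hoy P RA hdt.symm (z := z) hz₀ hz₀P hzi haY
  have hsB := block_sum hN hx hy hox hoy P RB hεd.symm (z := z) hz₀ hz₀P hzi hbY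
  have hsC := block_sum hN hx hy hox hoy P RC hτd.symm (z := z) hz₀ hz₀P hzi hcY
  have hfac : (Nat.card G).factorization 7 = 1 := sylow_factorization P hP
  have hsum : ∀ b₀ : G, ∀ g : IrrCharacter G → ℂ,
      (∀ χ, g χ = (χ : G → ℂ) z₀ * (χ : G → ℂ) b₀ * ((v11 (dg χ) * ((ord24 / dg χ : ℕ) : ℤ) : ℤ) : ℂ)) →
      ∑ χ, g χ = ∑ χ ∈ RA.X ∪ RA.Y, g χ + ∑ χ ∈ RB.X ∪ RB.Y, g χ + ∑ χ ∈ RC.X ∪ RC.Y, g χ := by
    intro b₀ g hg
    rw [← Finset.sum_union hAB, ← Finset.sum_union hdisj, ← hS]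
    refine (Finset.sum_subset (Finset.subset_univ S) fun χ _ hχ => ?_).symm
    rw [hg, value_zero hfac χ (not_not.1 fun h => hχ ((hcover χ).2 h)) ((by rw [hz₀])), zero_mul, zero_mul]
  constructor
  · refine dvd_sum hN hx hy hox hoy hc1 hc1 ?_
    rw [hsum z₀ _ fun χ => rfl, hsA.1, hsB.1, hsC.1]
    push_cast; rfl
  · refine dvd_sum hN hx hy hox hoy hc1 hc2 ?_
    rw [hsum z₀⁻¹ _ fun χ => rfl, hsA.2, hsB.2, hsC.2]
    push_cast; rfl

/-- Complex conjugation of an irreducible character. -/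
noncomputable def conjChar (χ : IrrCharacter G) : IrrCharacter G :=
  ⟨fun g => conj ((χ : G → ℂ) g), Char.isIrrCharacter_conjFn χ.2⟩

omit hN hx hy hox hoy in
theorem dg_conjChar (χ : IrrCharacter G) : dg (conjChar χ) = dg χ :=
  charDegree_eq_of_apply_one (show conj ((χ : G → ℂ) 1) = _ by rw [apply_one_eq_charDegree, map_natCast])

/-- The blocks at 5. -/
theorem five_part [Fact (Nat.Prime 5)] (P : Sylow 5 G)
    (hP : Nat.card (P : Subgroup G) = 5) (hC : Nat.card C[(P : Subgroup G)] = 60)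
    (he : (C[(P : Subgroup G)]).relIndex (Subgroup.normalizer ((P : Subgroup G) : Set G)) = 4)
    (hnc : ¬ ∀ a b : C[(P : Subgroup G)] ⧸ coreC P, a * b = b * a)
    (h4 : (commutator (C[(P : Subgroup G)] ⧸ coreC P)).index ≠ 4) :
    ∃ P₁ Q Wm : Multiset ℕ, BlockData 5 1 (1 ::ₘ P₁) 0 ∧ Multiset.card P₁ = 4 ∧
      BlockData 5 3 Q 0 ∧ Multiset.card Q = 5 ∧
      ((∃ W w, BlockData 5 2 W w ∧ Multiset.card W = 2 ∧ ExcDeg 5 1 w ∧ Wm = membersM W w) ∨
        (∃ W, BlockData 5 1 W 0 ∧ Multiset.card W = 5 ∧ Wm = W + W)) ∧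
      (degrees G).filter (fun d => ¬ 5 ∣ d) = membersM (1 ::ₘ P₁) 0 + membersM Q 0 + Wm := by
  classical
  obtain ⟨M, hM⟩ := exists_isPModular (Fact.out : Nat.Prime 5)
  have hQ : Nat.card (C[(P : Subgroup G)] ⧸ coreC P) = 12 := by
    have h := (coreC P).card_eq_card_quotient_mul_card_subgroup
    rw [Nat.card_congr (Subgroup.subgroupOfEquivOfLe (le_centralizer_self hP)).toEquiv, hP, hC] at h
    omega
  obtain ⟨q₁, q₂, τq, hq₁, hq₂, hq12, hq₁1, hq₂1, hτ3, hall⟩ := shape_twelve hQ hnc h4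
  set ω₁ := rootEquiv P q₁ with hω₁def
  set ω₂ := rootEquiv P q₂ with hω₂def
  set τ := rootEquiv P τq with hτdef
  have hd₁ : charDegree (ω₁.1 : C[(P : Subgroup G)] → ℂ) = 1 := by rw [hω₁def, deg_rootEquiv, hq₁1]
  have hd₂ : charDegree (ω₂.1 : C[(P : Subgroup G)] → ℂ) = 1 := by rw [hω₂def, deg_rootEquiv, hq₂1]
  have hτd : charDegree (τ.1 : C[(P : Subgroup G)] → ℂ) = 3 := by rw [hτdef, deg_rootEquiv, hτ3]
  have hdt : charDegree ((trivRoot P).1 : C[(P : Subgroup G)] → ℂ) = 1 := deg_trivRoot P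
  have h1t : ω₁ ≠ trivRoot P := by
    rw [hω₁def, ← rootEquiv_triv]; exact fun e => hq₁ ((rootEquiv P).injective e)
  have h2t : ω₂ ≠ trivRoot P := by
    rw [hω₂def, ← rootEquiv_triv]; exact fun e => hq₂ ((rootEquiv P).injective e)
  have h12 : ω₁ ≠ ω₂ := fun e => hq12 ((rootEquiv P).injective e)
  have hcases : ∀ θ : TrivOn (P : Subgroup G), θ = trivRoot P ∨ θ = ω₁ ∨ θ = ω₂ ∨ θ = τ := by
    intro θ
    obtain ⟨q, rfl⟩ := (rootEquiv P).surjective θ
    rcases hall q with rfl | rfl | rfl | rfl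
    · exact Or.inl (rootEquiv_triv P)
    · exact Or.inr (Or.inl rfl)
    · exact Or.inr (Or.inr (Or.inl rfl))
    · exact Or.inr (Or.inr (Or.inr rfl))
  have hlin : ∀ {θ : TrivOn (P : Subgroup G)}, charDegree (θ.1 : C[(P : Subgroup G)] → ℂ) = 1 →
      θ ≠ trivRoot P → θ = ω₁ ∨ θ = ω₂ := by
    intro θ hθ hne
    rcases hcases θ with h | h | h | h
    · exact absurd h hne
    · exact Or.inl h
    · exact Or.inr h
    · rw [h, hτd] at hθ; norm_num at hθ
  have himg : ∀ {θ : TrivOn (P : Subgroup G)}, charDegree (θ.1 : C[(P : Subgroup G)] → ℂ) = 1 →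
      θ ≠ trivRoot P → ∀ g (hg : g ∈ Subgroup.normalizer ((P : Subgroup G) : Set G)),
        conjRoot P hg θ = ω₁ ∨ conjRoot P hg θ = ω₂ := fun hθ hne g hg =>
    hlin (by rw [deg_conjRoot, hθ]) fun e => hne (conjRoot_injective P hg (e.trans (conjRoot_triv P hg).symm))
  have hfτ : RootFixed P τ := by
    intro g hg
    have hd := deg_conjRoot P hg τ
    rcases hcases (conjRoot P hg τ) with h | h | h | h
    · rw [h, hdt, hτd] at hd; norm_num at hd
    · rw [h, hd₁, hτd] at hd; norm_num at hd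
    · rw [h, hd₂, hτd] at hd; norm_num at hd
    · exact h
  obtain ⟨RP⟩ := exists_rootBlock_fixed P hP hM (trivRoot P) (fun g hg => conjRoot_triv P hg) he
  obtain ⟨RQ⟩ := exists_rootBlock_fixed P hP hM τ hfτ he
  have h5x : ¬ 5 ∣ orderOf x := by rw [hox]; norm_num
  have h5y : ¬ 5 ∣ orderOf y := by rw [hoy]; norm_num
  obtain ⟨hPd, hPc, hPv⟩ := one_block RP hx hy h5x h5y (f := 1) hdt.symm (by norm_num) (by norm_num)
    (by norm_num) (by norm_num)
  obtain ⟨hQd, hQc, hQv⟩ := one_block RQ hx hy h5x h5y (f := 3) hτd.symm (by norm_num) (by norm_num)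
    (by norm_num) (by norm_num)
  have htP : trivChar G ∈ RP.X ∪ RP.Y :=
    Finset.mem_union.2 ((RP.mem_block _).1 (triv_mem hM P hP RP))
  have hPX : (RP.X ∪ RP.Y).val.map dg = 1 ::ₘ ((RP.X ∪ RP.Y).erase (trivChar G)).val.map dg :=
    map_erase_triv htP
  have hPQ : Disjoint (RP.X ∪ RP.Y) (RQ.X ∪ RQ.Y) :=
    disjoint_of_root P hP hM RP RQ fun g hg e => by
      rw [hfτ g hg] at e
      rw [e, hdt] at hτd
      norm_num at hτd
  refine ⟨((RP.X ∪ RP.Y).erase (trivChar G)).val.map dg, (RQ.X ∪ RQ.Y).val.map dg, ?_⟩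
  have hPd' := hPX ▸ hPd
  have hPc' : Multiset.card (((RP.X ∪ RP.Y).erase (trivChar G)).val.map dg) = 4 := by
    rw [Multiset.card_map]
    show ((RP.X ∪ RP.Y).erase _).card = 4
    rw [Finset.card_erase_of_mem htP, hPc]
  have hQc' : Multiset.card ((RQ.X ∪ RQ.Y).val.map dg) = 5 := by rw [Multiset.card_map]; exact hQc
  by_cases hfix : RootFixed P ω₁
  · -- four blocks, the last two conjugate
    have hfix₂ : RootFixed P ω₂ := by
      intro g hg
      rcases himg hd₂ h2t g hg with h | h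
      · exact absurd (conjRoot_injective P hg (h.trans (hfix g hg).symm)) h12.symm
      · exact h
    obtain ⟨R₁⟩ := exists_rootBlock_fixed P hP hM ω₁ hfix he
    obtain ⟨R₂⟩ := exists_rootBlock_fixed P hP hM ω₂ hfix₂ he
    obtain ⟨h1d, h1c, h1v⟩ := one_block R₁ hx hy h5x h5y (f := 1) hd₁.symm (by norm_num) (by norm_num)
      (by norm_num) (by norm_num)
    obtain ⟨-, h2c, -⟩ := one_block R₂ hx hy h5x h5y (f := 1) hd₂.symm (by norm_num) (by norm_num)
      (by norm_num) (by norm_num)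
    have hcover : ∀ χ, ¬ 5 ∣ dg χ ↔
        χ ∈ (RP.X ∪ RP.Y) ∪ (RQ.X ∪ RQ.Y) ∪ ((R₁.X ∪ R₁.Y) ∪ (R₂.X ∪ R₂.Y)) := by
      intro χ
      simp only [Finset.mem_union]
      constructor
      · intro h
        obtain ⟨θ, hθ⟩ := exists_root hM P hP h
        rcases hcases θ with rfl | rfl | rfl | rfl
        exacts [Or.inl (Or.inl ((RP.mem_block χ).1 (mem_block_of_root P hP hM RP hθ))),
          Or.inr (Or.inl ((R₁.mem_block χ).1 (mem_block_of_root P hP hM R₁ hθ))),
          Or.inr (Or.inr ((R₂.mem_block χ).1 (mem_block_of_root P hP hM R₂ hθ))),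
          Or.inl (Or.inr ((RQ.mem_block χ).1 (mem_block_of_root P hP hM RQ hθ)))]
      · rintro ((h | h) | (h | h))
        exacts [RP.not_dvd χ ((RP.mem_block χ).2 h), RQ.not_dvd χ ((RQ.mem_block χ).2 h),
          R₁.not_dvd χ ((R₁.mem_block χ).2 h), R₂.not_dvd χ ((R₂.mem_block χ).2 h)]
    obtain ⟨⟨z₀, hz₀P⟩, hz₀⟩ := exists_prime_orderOf_dvd_card' (G := (P : Subgroup G)) 5 (by rw [hP])
    rw [Subgroup.orderOf_mk] at hz₀
    set z : C[(P : Subgroup G)] := ⟨z₀, le_centralizer_self hP hz₀P⟩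
    -- the conjugate of the first root
    set qc : IrrCharacter (C[(P : Subgroup G)] ⧸ coreC P) :=
      ⟨fun v => conj ((q₁ : C[(P : Subgroup G)] ⧸ coreC P → ℂ) v), Char.isIrrCharacter_conjFn q₁.2⟩ with hqc
    have hqc1 : charDegree (qc : C[(P : Subgroup G)] ⧸ coreC P → ℂ) = 1 :=
      charDegree_eq_of_apply_one (show conj ((q₁ : C[(P : Subgroup G)] ⧸ coreC P → ℂ) 1) = _ by
        rw [apply_one_eq_charDegree, hq₁1, map_natCast])
    have hqc2 : qc = q₂ := by
      rcases hall qc with h | h | h | h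
      · exfalso
        refine hq₁ (Subtype.ext (funext fun v => ?_))
        have := congrArg conj (congrFun (congrArg Subtype.val h) v)
        simpa [hqc, trivChar_coe] using this
      · exfalso
        have hreal : ∀ v, conj ((q₁ : C[(P : Subgroup G)] ⧸ coreC P → ℂ) v) =
            (q₁ : C[(P : Subgroup G)] ⧸ coreC P → ℂ) v := fun v => congrFun (congrArg Subtype.val h) v
        obtain ⟨φ, hφ⟩ := Char.exists_hom_of_degree_one q₁.2.isCharacter ((deg_one_iff q₁).1 hq₁1)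
        have hidx : Nat.card ((C[(P : Subgroup G)] ⧸ coreC P) →* ℂˣ) = 3 := by
          rw [Char.card_linear_eq_index, ← Char.card_degree_one, Nat.card_eq_fintype_card, Fintype.card_subtype,
            show (Finset.univ.filter fun χ : IrrCharacter (C[(P : Subgroup G)] ⧸ coreC P) =>
              (χ : C[(P : Subgroup G)] ⧸ coreC P → ℂ) 1 = 1) = {trivChar _, q₁, q₂} by
              ext χ
              simp only [Finset.mem_filter, Finset.mem_univ, true_and, ← deg_one_iff, Finset.mem_insert,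
                Finset.mem_singleton]
              constructor
              · intro h'
                rcases hall χ with e | e | e | e
                exacts [Or.inl e, Or.inr (Or.inl e), Or.inr (Or.inr e), by rw [e, hτ3] at h'; norm_num at h']
              · rintro (e | e | e) <;> rw [e]
                exacts [deg_triv, hq₁1, hq₂1],
            Finset.card_insert_of_notMem (by
              simp only [Finset.mem_insert, Finset.mem_singleton, not_or]
              exact ⟨fun e => hq₁ e.symm, fun e => hq₂ e.symm⟩), Finset.card_pair hq12]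
        have h3 : φ ^ 3 = 1 := by rw [← hidx]; exact pow_card_eq_one'
        refine hq₁ (Subtype.ext (funext fun v => ?_))
        have hr := hreal v
        rw [hφ] at hr
        have h3v : ((φ v : ℂˣ) : ℂ) ^ 3 = 1 := by
          rw [← Units.val_pow_eq_pow_val, ← MonoidHom.pow_apply, h3]; rfl
        obtain ⟨r, hr'⟩ := Complex.conj_eq_iff_real.1 hr
        rw [hφ, trivChar_coe]
        show ((φ v : ℂˣ) : ℂ) = 1
        simp only at hr'
        rw [hr'] at h3v ⊢
        have hr3 : r ^ 3 = 1 := by exact_mod_cast h3v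
        have : r = 1 := by nlinarith [sq_nonneg (r - 1), sq_nonneg (r + 1), sq_nonneg r]
        rw [this, Complex.ofReal_one]
      · exact h
      · rw [h, hτ3] at hqc1; norm_num at hqc1
    have hω₂conj : ∀ k : C[(P : Subgroup G)],
        conj ((ω₁.1 : C[(P : Subgroup G)] → ℂ) k) = (ω₂.1 : C[(P : Subgroup G)] → ℂ) k := fun k => by
      rw [hω₂def, ← hqc2]
      rfl
    have hmaps : ∀ χ ∈ R₁.X ∪ R₁.Y, conjChar χ ∈ R₂.X ∪ R₂.Y := by
      intro χ hχ
      obtain ⟨σ, hσ, hval⟩ := h1v χ hχ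
      have hnd : ¬ 5 ∣ dg (conjChar χ) := by
        rw [dg_conjChar]
        exact R₁.not_dvd χ ((R₁.mem_block χ).2 (Finset.mem_union.1 hχ))
      have hpz : pPt 5 (z : G) ∈ (P : Subgroup G) := pPt_mem_of_cent P z
      have hval' : ∀ k : C[(P : Subgroup G)], pPt 5 (k : G) ∈ (P : Subgroup G) → 5 ∣ orderOf (k : G) →
          (conjChar χ : G → ℂ) (k : G) = (σ : ℂ) * (ω₂.1 : C[(P : Subgroup G)] → ℂ) k := fun k hk hk1 => by
        show conj ((χ : G → ℂ) (k : G)) = _
        rw [hval k hk hk1, map_mul, map_intCast, hω₂conj]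
      have hzd : (5 : ℕ) ∣ orderOf (z : G) := (by rw [hz₀])
      have hatz : ∀ θ : TrivOn (P : Subgroup G), (θ.1 : C[(P : Subgroup G)] → ℂ) z =
          (charDegree (θ.1 : C[(P : Subgroup G)] → ℂ) : ℂ) := fun θ => by
        rw [θ.2 z hz₀P, apply_one_eq_charDegree]
      have key : ∀ (θ : TrivOn (P : Subgroup G)) (σ' : ℤ), (σ' = 1 ∨ σ' = -1) →
          (∀ k : C[(P : Subgroup G)], pPt 5 (k : G) ∈ (P : Subgroup G) → 5 ∣ orderOf (k : G) →
            (conjChar χ : G → ℂ) (k : G) = (σ' : ℂ) * (θ.1 : C[(P : Subgroup G)] → ℂ) k) → θ = ω₂ := by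
        intro θ σ' hσ' hv
        have h0 := hv z hpz hzd
        rw [hval' z hpz hzd, hatz, hatz, hd₂] at h0
        have hσσ : σ' = σ := by
          have hpos := Block.charDegree_pos θ.1
          have h0' : σ * 1 = σ' * (charDegree (θ.1 : C[(P : Subgroup G)] → ℂ) : ℤ) := by
            have : ((σ * 1 : ℤ) : ℂ) = ((σ' * (charDegree (θ.1 : C[(P : Subgroup G)] → ℂ) : ℤ) : ℤ) : ℂ) := by
              push_cast; push_cast at h0; exact h0
            exact_mod_cast this
          rcases hσ with e | e <;> rcases hσ' with e' | e' <;> rw [e, e'] at h0' ⊢ <;> omega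
        have hagree : ∀ k : C[(P : Subgroup G)], 5 ∣ orderOf (k : G) →
            (θ.1 : C[(P : Subgroup G)] → ℂ) k = (ω₂.1 : C[(P : Subgroup G)] → ℂ) k := by
          intro k hk1
          have h := hv k (pPt_mem_of_cent P k) hk1
          rw [hval' k (pPt_mem_of_cent P k) hk1, hσσ] at h
          refine (mul_left_cancel₀ ?_ h).symm
          rcases hσ with e | e <;> simp [e]
        refine Subtype.ext (Subtype.ext (funext fun c => ?_))
        by_cases hc : 5 ∣ orderOf (c : G)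
        · exact hagree c hc
        · have hzc : 5 ∣ orderOf ((z * c : C[(P : Subgroup G)]) : G) := by
            have hcm : Commute (z : G) (c : G) := Subgroup.mem_centralizer_iff.1 c.2 (z : G) hz₀P
            have hp : pPt 5 ((z : G) * c) = (z : G) :=
              (eq_pPt (p := 5) rfl hcm (k := 1) (by rw [pow_one]; exact hz₀) hc).symm
            by_contra hno
            rw [Subgroup.coe_mul, ← pPt_eq_one_iff (p := 5), hp] at hno
            rw [show (z : G) = z₀ from rfl] at hno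
            rw [hno, orderOf_one] at hz₀
            norm_num at hz₀
          have h := hagree (z * c) hzc
          have hmul : ∀ θ' : TrivOn (P : Subgroup G), (θ'.1 : C[(P : Subgroup G)] → ℂ) (z * c) =
              (θ'.1 : C[(P : Subgroup G)] → ℂ) c := fun θ' => by
            obtain ⟨q, rfl⟩ := (rootEquiv P).surjective θ'
            show (q : C[(P : Subgroup G)] ⧸ coreC P → ℂ) ((z * c : C[(P : Subgroup G)]) : C[(P : Subgroup G)] ⧸ coreC P) = _
            rw [QuotientGroup.mk_mul, (QuotientGroup.eq_one_iff z).2 (show z ∈ coreC P from hz₀P), one_mul]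
            rfl
          rwa [hmul, hmul] at h
      obtain ⟨θ, hθ⟩ := exists_root hM P hP hnd
      rcases hcases θ with rfl | rfl | rfl | rfl
      · have hm := Finset.mem_union.2 ((RP.mem_block _).1 (mem_block_of_root P hP hM RP hθ))
        obtain ⟨σ', hσ', hv⟩ := hPv _ hm
        exact absurd (key _ σ' hσ' hv).symm h2t
      · have hm := Finset.mem_union.2 ((R₁.mem_block _).1 (mem_block_of_root P hP hM R₁ hθ))
        obtain ⟨σ', hσ', hv⟩ := h1v _ hm
        exact absurd (key _ σ' hσ' hv) h12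
      · exact Finset.mem_union.2 ((R₂.mem_block _).1 (mem_block_of_root P hP hM R₂ hθ))
      · have hm := Finset.mem_union.2 ((RQ.mem_block _).1 (mem_block_of_root P hP hM RQ hθ))
        obtain ⟨σ', hσ', hv⟩ := hQv _ hm
        have := key _ σ' hσ' hv
        rw [this, hd₂] at hτd
        norm_num at hτd
    have hinj : Set.InjOn (conjChar (G := G)) (R₁.X ∪ R₁.Y : Finset _) := fun a _ b _ h => by
      refine Subtype.ext (funext fun g => ?_)
      exact (starRingEnd ℂ).injective (congrFun (congrArg Subtype.val h) g)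
    have himg2 : (R₁.X ∪ R₁.Y).image conjChar = R₂.X ∪ R₂.Y :=
      Finset.eq_of_subset_of_card_le (fun w hw => by
        obtain ⟨χ, hχ, rfl⟩ := Finset.mem_image.1 hw
        exact hmaps χ hχ) (by rw [Finset.card_image_of_injOn hinj, h1c, h2c])
    have hdeg2 : (R₂.X ∪ R₂.Y).val.map dg = (R₁.X ∪ R₁.Y).val.map dg := by
      rw [← himg2, Finset.image_val_of_injOn hinj, Multiset.map_map]
      exact Multiset.map_congr rfl fun χ _ => dg_conjChar χ
    refine ⟨(R₁.X ∪ R₁.Y).val.map dg + (R₁.X ∪ R₁.Y).val.map dg, hPd', hPc', hQd, hQc',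
      Or.inr ⟨_, h1d, by rw [Multiset.card_map]; exact h1c, rfl⟩, ?_⟩
    have hne : ∀ {θ θ' : TrivOn (P : Subgroup G)}, RootFixed P θ' → θ' ≠ θ →
        ∀ g (hg : g ∈ Subgroup.normalizer ((P : Subgroup G) : Set G)), conjRoot P hg θ' ≠ θ :=
      fun hf h g hg => by rw [hf g hg]; exact h
    have h12d : Disjoint (R₁.X ∪ R₁.Y) (R₂.X ∪ R₂.Y) := disjoint_of_root P hP hM R₁ R₂ (hne hfix₂ h12.symm)
    have hτω : ∀ {θ : TrivOn (P : Subgroup G)}, charDegree (θ.1 : C[(P : Subgroup G)] → ℂ) = 1 → θ ≠ τ :=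
      fun hθ e => by rw [e, hτd] at hθ; norm_num at hθ
    have hbig : Disjoint ((RP.X ∪ RP.Y) ∪ (RQ.X ∪ RQ.Y)) ((R₁.X ∪ R₁.Y) ∪ (R₂.X ∪ R₂.Y)) :=
      Finset.disjoint_union_left.2
        ⟨Finset.disjoint_union_right.2 ⟨disjoint_of_root P hP hM RP R₁ (hne hfix h1t),
          disjoint_of_root P hP hM RP R₂ (hne hfix₂ h2t)⟩,
        Finset.disjoint_union_right.2 ⟨disjoint_of_root P hP hM RQ R₁ (hne hfix (hτω hd₁)),
          disjoint_of_root P hP hM RQ R₂ (hne hfix₂ (hτω hd₂))⟩⟩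
    rw [filter_degrees, show (Finset.univ.filter fun χ : IrrCharacter G => ¬ 5 ∣ dg χ) =
        (RP.X ∪ RP.Y) ∪ (RQ.X ∪ RQ.Y) ∪ ((R₁.X ∪ R₁.Y) ∪ (R₂.X ∪ R₂.Y)) by
      ext χ; simp only [Finset.mem_filter, Finset.mem_univ, true_and, hcover χ],
      map_union hbig, map_union hPQ, map_union h12d, hdeg2, hPX]
    simp [membersM]
  · -- the two nontrivial linear roots are exchanged
    unfold RootFixed at hfix
    push Not at hfix
    obtain ⟨g₀, hg₀, hne⟩ := hfix
    have htwo := himg hd₁ h1t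
    have hswap : conjRoot P hg₀ ω₁ = ω₂ := (htwo g₀ hg₀).resolve_left hne
    obtain ⟨R⟩ := exists_rootBlock_swap P hP hM hg₀ hne htwo (e := 2) he
    obtain ⟨w, hWd, hwE, hwc, -, hWm⟩ := two_block R hx hy h5x h5y (f := 2) (by rw [hd₁]) (by norm_num)
      (by norm_num) (by norm_num)
    have hwres : w % 5 = 1 ∨ w % 5 = 5 - 1 := by
      have h := Int.modEq_iff_dvd.1 hwc
      rcases R.sign_t with e | e <;> rw [e] at h <;> push_cast at h <;> omega
    refine ⟨(R.X ∪ R.Y).val.map dg, hPd', hPc', hQd, hQc',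
      Or.inl ⟨_, w, hWd, by rw [Multiset.card_map]; exact R.card_X, ⟨hwE, hwres⟩, hWm⟩, ?_⟩
    have hcover : ∀ χ, ¬ 5 ∣ dg χ ↔ χ ∈ (RP.X ∪ RP.Y) ∪ (RQ.X ∪ RQ.Y) ∪ (R.X ∪ R.Y) := by
      intro χ
      simp only [Finset.mem_union]
      constructor
      · intro h
        obtain ⟨θ, hθ⟩ := exists_root hM P hP h
        rcases hcases θ with rfl | rfl | rfl | rfl
        · exact Or.inl (Or.inl ((RP.mem_block χ).1 (mem_block_of_root P hP hM RP hθ)))
        · exact Or.inr ((R.mem_block χ).1 (mem_block_of_root P hP hM R hθ))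
        · refine Or.inr ((R.mem_block χ).1 ?_)
          have hu := isInducedBlock_unique hM (hswap ▸ induced_conjRoot P hP hM R.induced hg₀) hθ
          rw [hu]
          exact self_mem_blockOf hM χ
        · exact Or.inl (Or.inr ((RQ.mem_block χ).1 (mem_block_of_root P hP hM RQ hθ)))
      · rintro ((h | h) | h)
        exacts [RP.not_dvd χ ((RP.mem_block χ).2 h), RQ.not_dvd χ ((RQ.mem_block χ).2 h),
          R.not_dvd χ ((R.mem_block χ).2 h)]
    have hdP : Disjoint (RP.X ∪ RP.Y) (R.X ∪ R.Y) := disjoint_of_root P hP hM RP R fun g hg e => by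
      exact h1t (conjRoot_injective P hg (e.trans (conjRoot_triv P hg).symm))
    have hdQ : Disjoint (RQ.X ∪ RQ.Y) (R.X ∪ R.Y) := disjoint_of_root P hP hM RQ R fun g hg e => by
      have := deg_conjRoot P hg ω₁
      rw [e, hτd, hd₁] at this
      norm_num at this
    rw [filter_degrees, show (Finset.univ.filter fun χ : IrrCharacter G => ¬ 5 ∣ dg χ) =
        (RP.X ∪ RP.Y) ∪ (RQ.X ∪ RQ.Y) ∪ (R.X ∪ R.Y) by
      ext χ; simp only [Finset.mem_filter, Finset.mem_univ, true_and, hcover χ],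
      map_union (Finset.disjoint_union_left.2 ⟨hdP, hdQ⟩), map_union hPQ, hPX]
    simp [membersM]

omit hN hx hy hox hoy in
/-- A simple group of order 244823040 with the local structure of M24 at 23, 11, 7 and 5 has exactly one
irreducible character of degree 23. -/
theorem exists_unique_degree [IsSimpleGroup G] [Fact (Nat.Prime 23)] [Fact (Nat.Prime 11)]
    [Fact (Nat.Prime 7)] [Fact (Nat.Prime 5)] (hcard : Nat.card G = 244823040)
    (P₂₃ : Sylow 23 G) (hC₂₃ : Nat.card C[(P₂₃ : Subgroup G)] = 23)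
    (he₂₃ : (C[(P₂₃ : Subgroup G)]).relIndex (Subgroup.normalizer ((P₂₃ : Subgroup G) : Set G)) = 11)
    (P₁₁ : Sylow 11 G) (hC₁₁ : Nat.card C[(P₁₁ : Subgroup G)] = 11)
    (he₁₁ : (C[(P₁₁ : Subgroup G)]).relIndex (Subgroup.normalizer ((P₁₁ : Subgroup G) : Set G)) = 10)
    (P₇ : Sylow 7 G) (hC₇ : Nat.card C[(P₇ : Subgroup G)] = 42)
    (he₇ : (C[(P₇ : Subgroup G)]).relIndex (Subgroup.normalizer ((P₇ : Subgroup G) : Set G)) = 3)
    (hnc₇ : ¬ ∀ a b : C[(P₇ : Subgroup G)] ⧸ coreC P₇, a * b = b * a)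
    (P₅ : Sylow 5 G) (hC₅ : Nat.card C[(P₅ : Subgroup G)] = 60)
    (he₅ : (C[(P₅ : Subgroup G)]).relIndex (Subgroup.normalizer ((P₅ : Subgroup G) : Set G)) = 4)
    (hnc₅ : ¬ ∀ a b : C[(P₅ : Subgroup G)] ⧸ coreC P₅, a * b = b * a)
    (h4 : (commutator (C[(P₅ : Subgroup G)] ⧸ coreC P₅)).index ≠ 4) :
    ∃ χ : IrrCharacter G, dg χ = 23 ∧ ∀ ψ : IrrCharacter G, dg ψ = 23 → ψ = χ := by
  classical
  have hN : Nat.card G = ord24 := hcard
  have hcardP : ∀ (p m : ℕ) [Fact p.Prime] (P : Sylow p G), 244823040 = p * m → ¬ p ∣ m →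
      Nat.card (P : Subgroup G) = p ∧ (Nat.card G).factorization p = 1 := by
    intro p m _ P hm hnd
    have hm0 : m ≠ 0 := fun e => hnd (e ▸ dvd_zero p)
    have h : (Nat.card G).factorization p = 1 := by
      rw [hcard, hm, Nat.factorization_mul (Fact.out : p.Prime).ne_zero hm0, Finsupp.add_apply,
        (Fact.out : p.Prime).factorization_self, Nat.factorization_eq_zero_of_not_dvd hnd]
    exact ⟨by rw [P.card_eq_multiplicity, h, pow_one], h⟩
  obtain ⟨hP₂₃, hf₂₃⟩ := hcardP 23 10644480 P₂₃ (by norm_num) (by norm_num)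
  obtain ⟨hP₁₁, hf₁₁⟩ := hcardP 11 22256640 P₁₁ (by norm_num) (by norm_num)
  obtain ⟨hP₇, -⟩ := hcardP 7 34974720 P₇ (by norm_num) (by norm_num)
  obtain ⟨hP₅, -⟩ := hcardP 5 48964608 P₅ (by norm_num) (by norm_num)
  obtain ⟨⟨x, hxP⟩, hx1⟩ := exists_prime_orderOf_dvd_card' (G := (P₂₃ : Subgroup G)) 23 (by rw [hP₂₃])
  rw [Subgroup.orderOf_mk] at hx1
  obtain ⟨⟨y, hyP⟩, hy1⟩ := exists_prime_orderOf_dvd_card' (G := (P₁₁ : Subgroup G)) 11 (by rw [hP₁₁])
  rw [Subgroup.orderOf_mk] at hy1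
  have hxz : Subgroup.zpowers x = (P₂₃ : Subgroup G) :=
    zpowers_eq_of_mem hP₂₃ hxP fun e => by rw [e, orderOf_one] at hx1; norm_num at hx1
  obtain ⟨hy, hn11, hr11⟩ := column_eleven P₁₁ hf₁₁ hP₁₁ hC₁₁ he₁₁ hyP hy1
  obtain ⟨⟨ψ₁, ψ₂, hx⟩, hn23, hr23⟩ := column_big P₂₃ hf₂₃ hP₂₃ hC₂₃ he₂₃ hxP hx1
    (by rw [centralizer_zpowers hxz, hC₂₃])
  obtain ⟨A, B, C, a, b, c, hA, hAc, ha, hB, hBc, hb, hC, hCc, hc, h7, hz₁, hz₂⟩ :=
    seven_part hN hx hy hx1 hy1 P₇ hP₇ hC₇ he₇ hnc₇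
  obtain ⟨P₁, Q, Wm, hP, hPc, hQ, hQc, hW, h5⟩ := five_part hN hx hy hx1 hy1 P₅ hP₅ hC₅ he₅ hnc₅ h4
  have hnc : ¬ IsCyclic G := by
    intro h
    letI := IsCyclic.commGroup (α := G)
    have := IsSimpleGroup.prime_card (α := G)
    rw [hcard] at this
    norm_num at this
  have hone : ∀ χ : IrrCharacter G, χ ≠ trivChar G → 2 ≤ dg χ := fun χ h => Small.two_le_charDegree hnc h
  have hmem : ∀ {d : ℕ}, d ∈ degrees G → ∃ χ : IrrCharacter G, dg χ = d := fun {d} hd => by
    obtain ⟨χ, -, h⟩ := Multiset.mem_map.1 hd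
    exact ⟨χ, h⟩
  have hcount : (degrees G).count 23 = 1 := by
    refine count_eq_one ?_ ?_ ?_ ?_ ?_ ?_ ?_ hA hAc ha hB hBc hb hC hCc hc hP hPc hQ hQc hW h7 h5 hz₁ hz₂
    · intro d hd
      obtain ⟨χ, rfl⟩ := hmem hd
      exact hN ▸ Block.charDegree_dvd_card χ
    · intro d hd
      obtain ⟨χ, rfl⟩ := hmem hd
      have hsq : dg χ * dg χ + 1 ≤ ord24 := by
        by_cases h : χ = trivChar G
        · rw [h, show dg (trivChar G) = 1 from deg_triv]; norm_num
        · have h' := MEleven.sum_sq_deg_le {χ, trivChar G}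
          rw [Finset.sum_pair h, hN, show MEleven.deg (trivChar G) = 1 from deg_triv] at h'
          have h'' : dg χ ^ 2 + 1 ^ 2 ≤ ord24 := h'
          rwa [pow_two, one_pow] at h''
      simp only [degOk, Bool.and_eq_true, Bool.or_eq_true, beq_iff_eq, Nat.ble_eq]
      exact ⟨⟨hsq, by have := hr11 χ; omega⟩, by have := hr23 χ; omega⟩
    · rw [Multiset.count, degrees, Multiset.countP_map]
      show (Finset.univ.filter fun χ : IrrCharacter G => 1 = dg χ).card = 1
      rw [Finset.card_eq_one]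
      refine ⟨trivChar G, ?_⟩
      ext χ
      simp only [Finset.mem_filter, Finset.mem_univ, true_and, Finset.mem_singleton]
      constructor
      · intro h
        by_contra hne
        have := hone χ hne
        omega
      · intro h; rw [h]; exact deg_triv.symm
    · rw [degrees, Multiset.map_map, ← hN, ← sum_deg_sq (V := G)]
      exact Finset.sum_congr rfl fun χ _ => (pow_two _).symm
    · rw [degrees, Multiset.countP_map]
      rw [← hn11]
      show (Finset.univ.filter fun χ : IrrCharacter G => cnt11 (dg χ) = true).card = _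
      congr 1
      ext χ
      simp [cnt11, Nat.dvd_iff_mod_eq_zero]
    · rw [degrees, Multiset.countP_map, ← hn23]
      rfl
    · refine ⟨dg ψ₁, ?_⟩
      rw [filter_degrees, show (Finset.univ.filter fun χ : IrrCharacter G => isExc (dg χ) = true) = {ψ₁, ψ₂} by
        ext χ; simp [hx.iff χ], Finset.insert_val_of_notMem (by simpa using hx.ne), Finset.singleton_val,
        Multiset.map_cons, Multiset.map_singleton, ← hx.deg]
      rfl
  rw [Multiset.count, degrees, Multiset.countP_map] at hcount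
  obtain ⟨χ, hχ⟩ := Finset.card_eq_one.1
    (show (Finset.univ.filter fun χ : IrrCharacter G => 23 = dg χ).card = 1 from hcount)
  have hm : ∀ ψ, 23 = dg ψ ↔ ψ = χ := fun ψ => by
    have e : ψ ∈ Finset.univ.filter (fun χ : IrrCharacter G => 23 = dg χ) ↔ ψ ∈ ({χ} : Finset _) := by rw [hχ]
    simpa using e
  exact ⟨χ, ((hm χ).2 rfl).symm, fun ψ h => (hm ψ).1 h.symm⟩

end Cfsg.Lib.MTwentyFour
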