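import Mathlib

/-!
Candidate permutations of the twenty-four points normalising the maps `x ↦ 2x`, with a word of
impossible order for each wrong one.
-/

set_option autoImplicit false

namespace Cfsg.Lib.MTwentyFour

/-- `± 2 ^ n`, the two orbits of doubling on nonzero residues. -/
def pt (s : Bool) (n : ℕ) : ZMod 23 := (if s then -1 else 1) * 2 ^ (n % 11)

/-- Orbit and exponent of each nonzero residue. -/
def lgTab : List (Bool × ℕ) := [(false, 0), (false, 0), (false, 1), (false, 8), (false, 2), (true, 6), (false, 9), (true, 4), (false, 3), (false, 5), (true, 7), (true, 10), (false, 10), (false, 7), (true, 5), (true, 3), (false, 4), (true, 9), (false, 6), (true, 2), (true, 8), (true, 1), (true, 0)]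

/-- Orbit and exponent. -/
def lg (i : ZMod 23) : Bool × ℕ := lgTab.getD i.val (false, 0)

/-- The map sending `± 2 ^ j` to `± 2 ^ (k j + shift)`, the shift being `b` on the negative orbit. -/
def candFun (k : ℕ) (sw : Bool) (b : ℕ) (inf : Bool) : Option (ZMod 23) → Option (ZMod 23)
  | none => if inf then some 0 else none
  | some i => if i = 0 then (if inf then none else some 0)
      else some (pt (xor (lg i).1 sw) (k * (lg i).2 + if (lg i).1 then b else 0))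

/-- `x ↦ x + 1`. -/
def shiftFun : Option (ZMod 23) → Option (ZMod 23) := Option.map (· + 1)

/-- The composite of the maps named by a word. -/
def evalW {α : Type*} (fs : List (α → α)) (w : List ℕ) (p : α) : α :=
  w.foldr (fun n q => fs.getD n id q) p

/-- Words in the shift and a wrong map fixing 0 and the extra point. -/
def uBad : List ((Bool × ℕ) × List ℕ × ℕ × ℕ) := [
  ((false, 0), [0, 0, 1, 0, 1], 0, 19),
  ((false, 2), [0, 0, 1], 1, 19),
  ((false, 3), [0, 1, 1], 0, 19),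
  ((false, 4), [0, 1], 0, 19),
  ((false, 5), [0, 1, 1], 0, 13),
  ((false, 6), [0, 1], 3, 17),
  ((false, 7), [0, 0, 0, 0, 1], 0, 19),
  ((false, 8), [0, 0, 0, 0, 1, 1], 0, 13),
  ((false, 9), [0, 1], 0, 17),
  ((true, 0), [0, 1], 3, 17),
  ((true, 1), [0, 0, 0, 0, 1], 0, 13),
  ((true, 2), [0, 1, 1, 1], 0, 19),
  ((true, 3), [0, 1], 3, 13),
  ((true, 4), [0, 0, 0, 0, 1], 0, 17),
  ((true, 5), [0, 1, 1], 0, 13),
  ((true, 6), [0, 0, 1], 0, 17),
  ((true, 7), [0, 0, 0, 1], 0, 17),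
  ((true, 8), [0, 0, 0, 0, 0, 1], 0, 13),
  ((true, 9), [0, 1, 0, 1, 0, 1, 1], 0, 13),
  ((true, 10), [0, 0, 1, 0, 1, 1], 0, 17)]

/-- Words in the shift, the right map and a wrong map exchanging 0 and the extra point. -/
def tBad : List ((ℕ × Bool × ℕ) × List ℕ × ℕ × ℕ) := [
  ((1, false, 0), [0, 0, 0, 2, 0, 0, 2], 1, 19),
  ((1, false, 1), [0, 0, 1, 2], 1, 19),
  ((1, false, 2), [0, 2, 2, 2], 0, 13),
  ((1, false, 3), [0, 1, 2], 0, 19),
  ((1, false, 4), [0, 2, 2], 0, 19),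
  ((1, false, 5), [0, 0, 2, 1], 0, 19),
  ((1, false, 6), [0, 2], 0, 13),
  ((1, false, 7), [0, 2, 2], 0, 13),
  ((1, false, 8), [0, 2, 1], 0, 17),
  ((1, false, 9), [0, 2, 1], 0, 19),
  ((1, false, 10), [0, 2, 2], 0, 13),
  ((1, true, 0), [0, 1, 2, 1, 2], 0, 17),
  ((1, true, 1), [0, 2, 1], 3, 17),
  ((1, true, 2), [0, 2, 0, 1], 1, 13),
  ((1, true, 3), [0, 2], 2, 13),
  ((1, true, 4), [0, 2, 1], 3, 13),
  ((1, true, 5), [0, 0, 2, 1], 0, 13),
  ((1, true, 6), [0, 1, 2], 0, 19),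
  ((1, true, 7), [0, 1, 2], 2, 13),
  ((1, true, 8), [0, 2], 2, 13),
  ((1, true, 9), [0, 1, 2], 0, 19),
  ((1, true, 10), [0, 2, 0, 1], 3, 13),
  ((10, false, 0), [0, 2, 1, 1], 0, 17),
  ((10, false, 1), [0, 2, 1, 1], 0, 19),
  ((10, false, 2), [0, 0, 0, 2, 1], 0, 17),
  ((10, false, 3), [0, 2], 3, 13),
  ((10, false, 4), [0, 2, 1, 2], 0, 19),
  ((10, false, 5), [0, 0, 2], 0, 17),
  ((10, false, 6), [0, 2], 0, 13),
  ((10, false, 7), [0, 2, 1], 0, 13),
  ((10, false, 8), [0, 2], 0, 13),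
  ((10, false, 9), [0, 2, 0, 1], 0, 13),
  ((10, false, 10), [0, 0, 0, 2, 1], 1, 13),
  ((10, true, 1), [0, 0, 0, 2], 0, 17),
  ((10, true, 2), [0, 2], 2, 19),
  ((10, true, 3), [0, 0, 2], 0, 17),
  ((10, true, 4), [0, 2, 2, 2], 2, 13),
  ((10, true, 5), [0, 1, 2, 2], 2, 17),
  ((10, true, 6), [0, 2], 2, 13),
  ((10, true, 7), [0, 0, 0, 0, 2], 1, 13),
  ((10, true, 8), [0, 2], 2, 19),
  ((10, true, 9), [0, 0, 1, 2], 0, 19),
  ((10, true, 10), [0, 2, 2], 0, 13)]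

theorem lg_spec : ∀ i : ZMod 23, i ≠ 0 → i = pt (lg i).1 (lg i).2 ∧ (lg i).2 < 11 := by decide +kernel

theorem lg_pt : ∀ (s : Bool), ∀ j < 11, lg (pt s j) = (s, j) ∧ pt s j ≠ 0 := by decide +kernel

theorem uBad_ok : ∀ e ∈ uBad, Nat.Coprime e.2.2.2 244823040 ∧
    (evalW [shiftFun, candFun 3 e.1.1 e.1.2 false] e.2.1)^[e.2.2.2] (some (e.2.2.1 : ZMod 23)) =
      some (e.2.2.1 : ZMod 23) ∧
    evalW [shiftFun, candFun 3 e.1.1 e.1.2 false] e.2.1 (some (e.2.2.1 : ZMod 23)) ≠ some (e.2.2.1 : ZMod 23) := by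
  decide +kernel

theorem tBad_ok : ∀ e ∈ tBad, Nat.Coprime e.2.2.2 244823040 ∧
    (evalW [shiftFun, candFun 3 false 10 false, candFun e.1.1 e.1.2.1 e.1.2.2 true] e.2.1)^[e.2.2.2]
      (some (e.2.2.1 : ZMod 23)) = some (e.2.2.1 : ZMod 23) ∧
    evalW [shiftFun, candFun 3 false 10 false, candFun e.1.1 e.1.2.1 e.1.2.2 true] e.2.1
      (some (e.2.2.1 : ZMod 23)) ≠ some (e.2.2.1 : ZMod 23) := by
  decide +kernel

theorem u_cases : ∀ s : Bool, ∀ b < 11, (s = false ∧ b = 1) ∨ (s = false ∧ b = 10) ∨ (s, b) ∈ uBad.map Prod.fst := by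
  decide +kernel

theorem t_cases : ∀ k ∈ [1, 10], ∀ s : Bool, ∀ b < 11, (k = 10 ∧ s = true ∧ b = 0) ∨
    (k, s, b) ∈ tBad.map Prod.fst := by
  decide +kernel

end Cfsg.Lib.MTwentyFour
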