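import Cfsg.Agent.Lib.Concrete.Mathieu
import Cfsg.Agent.Lib.Block.CyclicPrime
import Cfsg.Agent.Lib.MTwentyFour.Candidates

/-!
A transitive group of order 244823040 on twenty-four points is conjugate to M24.
-/

set_option autoImplicit false
set_option linter.style.haveILetI false
set_option linter.unusedSectionVars false

namespace Cfsg.Lib.MTwentyFour

open Cfsg Cfsg.Lib.Concrete

/-- `x ↦ 2 x`. -/
def dbl : Equiv.Perm GolayPt where
  toFun := Option.map (2 * ·)
  invFun := Option.map (12 * ·)
  left_inv := by decide +kernel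
  right_inv := by decide +kernel

/-- `x ↦ - x`. -/
def negPt : Equiv.Perm GolayPt where
  toFun := Option.map (-·)
  invFun := Option.map (-·)
  left_inv := by decide +kernel
  right_inv := by decide +kernel

theorem coe_mShift : (⇑mShift : GolayPt → GolayPt) = shiftFun := by
  funext p; cases p <;> rfl

theorem dbl_pow_apply (n : ℕ) (v : ZMod 23) : (dbl ^ n) (some v) = some (2 ^ n * v) := by
  induction n with
  | zero => simp
  | succ n ih =>
    rw [pow_succ', Equiv.Perm.mul_apply, ih, pow_succ', mul_assoc]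
    rfl

theorem dbl_pow_none (n : ℕ) : (dbl ^ n) none = none := by
  induction n with
  | zero => rfl
  | succ n ih => rw [pow_succ', Equiv.Perm.mul_apply, ih]; rfl

theorem mShift_pow_apply (n : ℕ) (v : ZMod 23) : (mShift ^ n) (some v) = some (v + n) := by
  induction n with
  | zero => simp
  | succ n ih =>
    rw [pow_succ', Equiv.Perm.mul_apply, ih]
    show some (v + (n : ZMod 23) + 1) = _
    push_cast; rw [add_assoc]

theorem mShift_pow_none (n : ℕ) : (mShift ^ n) none = none := by
  induction n with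
  | zero => rfl
  | succ n ih => rw [pow_succ', Equiv.Perm.mul_apply, ih]; rfl

theorem two_pow_mod (n : ℕ) : (2 : ZMod 23) ^ n = 2 ^ (n % 11) := by
  conv_lhs => rw [← Nat.mod_add_div n 11]
  rw [pow_add, pow_mul, show (2 : ZMod 23) ^ 11 = 1 by decide +kernel, one_pow, mul_one]

theorem two_pow_mul_pt (n : ℕ) (s : Bool) (j : ℕ) : (2 : ZMod 23) ^ n * pt s j = pt s (n + j) := by
  simp only [pt, ← two_pow_mod]
  cases s <;> simp [pow_add]

theorem pt_mod (s : Bool) (n : ℕ) : pt s (n % 11) = pt s n := by simp [pt]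

theorem dbl_pow_pt (n : ℕ) (s : Bool) (j : ℕ) : (dbl ^ n) (some (pt s j)) = some (pt s (n + j)) := by
  rw [dbl_pow_apply, two_pow_mul_pt]

theorem dbl_pow_eleven : dbl ^ 11 = 1 := by
  refine Equiv.ext fun p => ?_
  cases p with
  | none => exact dbl_pow_none 11
  | some v => rw [dbl_pow_apply, show (2 : ZMod 23) ^ 11 = 1 by decide +kernel, one_mul]; rfl

theorem orderOf_dbl : orderOf dbl = 11 := by
  haveI : Fact (Nat.Prime 11) := ⟨by norm_num⟩
  exact orderOf_eq_prime dbl_pow_eleven fun h => by
    exact absurd (congrArg (fun f : Equiv.Perm GolayPt => f (some 1)) h) (by decide +kernel)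

theorem mShift_zero_ne : mShift (some 0) ≠ some 0 := by decide +kernel

theorem exists_shift_zero : ∀ a : ZMod 23, a ^ 11 = 1 → a ≠ 1 → ∀ c : ZMod 23,
    ∃ m < (23 : ℕ), a * ((m : ℕ) : ZMod 23) + c = 0 := by decide +kernel

theorem exists_pow_two : ∀ a : ZMod 23, a ^ 11 = 1 → a ≠ 1 → ∃ n < (11 : ℕ), a ^ n = 2 := by decide +kernel

theorem orderOf_mShift : orderOf mShift = 23 := by
  haveI : Fact (Nat.Prime 23) := ⟨by norm_num⟩
  refine orderOf_eq_prime (Equiv.ext fun p => ?_) fun h => ?_
  · cases p with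
    | none => exact mShift_pow_none 23
    | some v => rw [mShift_pow_apply, show ((23 : ℕ) : ZMod 23) = 0 from ZMod.natCast_self 23, add_zero]; rfl
  · exact mShift_zero_ne (congrArg (fun f : Equiv.Perm GolayPt => f (some 0)) h)

/-- A map normalising doubling is, after a power of doubling, one of the candidates. -/
theorem exists_cand {g : Equiv.Perm GolayPt} {k : ℕ} (hk : k % 11 ≠ 0) (h : g * dbl = dbl ^ k * g) :
    ∃ n σ b, b < 11 ∧ ⇑(dbl ^ n * g) = candFun (k % 11) σ b (decide (g none ≠ none)) ∧
      (g none = none → g (some 0) = some 0) ∧ (g none ≠ none → g none = some 0 ∧ g (some 0) = none) := by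
  have hfix : ∀ p : GolayPt, dbl p = p → g p = none ∨ g p = some 0 := by
    intro p hp
    have h1 : (dbl ^ k) (g p) = g p := by
      rw [← Equiv.Perm.mul_apply, ← h, Equiv.Perm.mul_apply, hp]
    cases hq : g p with
    | none => exact Or.inl rfl
    | some v =>
      rw [hq, dbl_pow_apply, two_pow_mod] at h1
      right
      have key : ∀ r < 11, r ≠ 0 → ∀ w : ZMod 23, 2 ^ r * w = w → w = 0 := by decide +kernel
      rw [key _ (Nat.mod_lt _ (by norm_num)) hk v (Option.some.inj h1)]
  have hinf := hfix none rfl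
  have h0 := hfix (some 0) (by decide +kernel)
  have hne : g none ≠ g (some 0) := fun e => by cases g.injective e
  have hpow : ∀ j, g * dbl ^ j = dbl ^ (k * j) * g := by
    intro j
    induction j with
    | zero => simp
    | succ j ih => rw [pow_succ, ← mul_assoc, ih, mul_assoc, h, ← mul_assoc, ← pow_add, Nat.mul_succ]
  have happ : ∀ (s : Bool) (j : ℕ), g (some (pt s j)) = (dbl ^ (k * j)) (g (some (pt s 0))) := fun s j => by
    rw [← Equiv.Perm.mul_apply, ← hpow, Equiv.Perm.mul_apply, dbl_pow_pt, add_zero]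
  have hbase : ∀ s, ∃ t a, a < 11 ∧ g (some (pt s 0)) = some (pt t a) := by
    intro s
    have h1 : g (some (pt s 0)) ≠ g none := fun e => by cases g.injective e
    have h2 : g (some (pt s 0)) ≠ g (some 0) := fun e =>
      (lg_pt s 0 (by norm_num)).2 (Option.some.inj (g.injective e))
    cases hv : g (some (pt s 0)) with
    | none =>
      rcases hinf with e | e
      · exact absurd (hv.trans e.symm) h1
      · rcases h0 with e' | e'
        · exact absurd (hv.trans e'.symm) h2
        · exact absurd (e.trans e'.symm) hne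
    | some v =>
      have hv0 : v ≠ 0 := by
        rintro rfl
        rcases hinf with e | e
        · rcases h0 with e' | e'
          · exact absurd (e.trans e'.symm) hne
          · exact h2 (hv.trans e'.symm)
        · exact h1 (hv.trans e.symm)
      obtain ⟨hv', hlt⟩ := lg_spec v hv0
      exact ⟨(lg v).1, (lg v).2, hlt, congrArg some hv'⟩
  obtain ⟨σ, a, ha, hga⟩ := hbase false
  obtain ⟨σ', a', ha', hga'⟩ := hbase true
  have hσ : σ' = !σ := by
    by_contra hc
    have hc' : σ' = σ := by cases σ <;> cases σ' <;> simp_all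
    subst hc'
    have key : ∀ r < 11, r ≠ 0 → ∀ m < 11, ∀ m' < 11, ∃ j < 11, (r * j + m) % 11 = m' := by decide +kernel
    obtain ⟨j, -, hj⟩ := key _ (Nat.mod_lt _ (by norm_num)) hk a ha a' ha'
    have e : g (some (pt false j)) = g (some (pt true 0)) := by
      rw [happ, hga, hga', dbl_pow_pt]
      rw [← pt_mod σ' (k * j + a), show (k * j + a) % 11 = a' by
        rw [← hj, Nat.add_mod, Nat.mul_mod, ← Nat.add_mod]; simp [Nat.add_mod, Nat.mul_mod]]
    have := Option.some.inj (g.injective e)
    rw [← pt_mod false j] at this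
    have key2 : ∀ r < 11, pt false r ≠ pt true 0 := by decide +kernel
    exact key2 _ (Nat.mod_lt _ (by norm_num)) this
  refine ⟨11 - a, σ, (11 - a + a') % 11, Nat.mod_lt _ (by norm_num), funext fun p => ?_, ?_, ?_⟩
  rotate_left
  · intro e
    rcases h0 with e' | e'
    · exact absurd (e.trans e'.symm) hne
    · exact e'
  · intro e
    have e1 := hinf.resolve_left e
    rcases h0 with e' | e'
    · exact ⟨e1, e'⟩
    · exact absurd (e1.trans e'.symm) hne
  cases p with
  | none =>
    rw [Equiv.Perm.mul_apply]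
    rcases hinf with e | e
    · rw [e, dbl_pow_none]; simp [candFun, e]
    · rw [e, dbl_pow_apply, mul_zero]; simp [candFun, e]
  | some i =>
    rw [Equiv.Perm.mul_apply]
    by_cases hi : i = 0
    · subst hi
      rcases hinf with e | e
      · have e' : g (some 0) = some 0 := h0.resolve_left fun e' => hne (e.trans e'.symm)
        rw [e', dbl_pow_apply, mul_zero]; simp [candFun, e]
      · have e' : g (some 0) = none := h0.resolve_right fun e' => hne (e.trans e'.symm)
        rw [e', dbl_pow_none]; simp [candFun, e]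
    · obtain ⟨hi', hlt⟩ := lg_spec i hi
      conv_lhs => rw [hi', happ]
      simp only [candFun, hi, if_false]
      rcases hb : (lg i).1 with _ | _
      · rw [hga, dbl_pow_pt, dbl_pow_pt]
        simp only [Bool.false_xor, Bool.false_eq_true, if_false, add_zero, Option.some.injEq]
        rw [← pt_mod σ, ← pt_mod σ (k % 11 * _)]
        congr 1
        have : 11 - a + (k * (lg i).2 + a) = k * (lg i).2 + 11 := by omega
        rw [this, Nat.add_mod_right, Nat.mul_mod, Nat.mul_mod (k % 11)]; simp [Nat.mod_mod]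
      · rw [hga', dbl_pow_pt, dbl_pow_pt, hσ]
        simp only [Bool.true_xor, if_true, Option.some.injEq]
        rw [← pt_mod (!σ), ← pt_mod (!σ) (k % 11 * _ + _)]
        congr 1
        simp only [Nat.add_mod, Nat.mul_mod, Nat.mod_mod]
        omega

/-- A word of the wrong order cannot occur. -/
theorem false_of_bad {K : Subgroup (Equiv.Perm GolayPt)} (hK : Nat.card K = 244823040)
    {gs : List (Equiv.Perm GolayPt)} (hgs : ∀ g ∈ gs, g ∈ K) {fs : List (GolayPt → GolayPt)}
    (hfs : gs.map (fun g : Equiv.Perm GolayPt => (⇑g : GolayPt → GolayPt)) = fs) {w : List ℕ} {i : GolayPt} {c : ℕ}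
    (hc : Nat.Coprime c 244823040) (h1 : (evalW fs w)^[c] i = i) (h2 : evalW fs w i ≠ i) : False := by
  subst hfs
  set p := (w.map fun n => gs.getD n 1).prod with hp
  have hpK : p ∈ K := by
    refine list_prod_mem fun g hg => ?_
    obtain ⟨n, -, rfl⟩ := List.mem_map.1 hg
    rw [List.getD_eq_getElem?_getD]
    cases hn : gs[n]? with
    | none => exact one_mem K
    | some g => exact hgs g (List.mem_of_getElem? hn)
  have hcoe : ∀ q, evalW (gs.map (fun g : Equiv.Perm GolayPt => (⇑g : GolayPt → GolayPt))) w q = p q := by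
    rw [hp]; clear hp hpK h1 h2
    induction w with
    | nil => intro q; rfl
    | cons n w ih =>
      intro q
      rw [List.map_cons, List.prod_cons, Equiv.Perm.mul_apply, ← ih q]
      show List.getD _ n id _ = _
      rw [List.getD_eq_getElem?_getD, List.getD_eq_getElem?_getD, List.getElem?_map]
      cases gs[n]? <;> rfl
  rw [funext hcoe] at h1 h2
  have h3 : Function.IsPeriodicPt (⇑p) 244823040 i := by
    have : p ^ 244823040 = 1 := by
      rw [← hK]
      exact orderOf_dvd_iff_pow_eq_one.1 (Subgroup.orderOf_coe (⟨p, hpK⟩ : K) ▸ orderOf_dvd_natCard _)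
    show (⇑p)^[244823040] i = i
    rw [← Equiv.Perm.coe_pow, this]; rfl
  have := (Function.IsPeriodicPt.gcd (f := ⇑p) h1 h3)
  rw [hc] at this
  exact h2 this

section Group

variable (K : Subgroup (Equiv.Perm GolayPt))

/-- The elements fixing the extra point and 0. -/
def pairStab : Subgroup K where
  carrier := {g | (g : Equiv.Perm GolayPt) none = none ∧ (g : Equiv.Perm GolayPt) (some 0) = some 0}
  one_mem' := ⟨rfl, rfl⟩
  mul_mem' := fun {a b} ha hb => ⟨by simp [hb.1, ha.1], by simp [hb.2, ha.2]⟩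
  inv_mem' := fun {a} ha => ⟨(a : Equiv.Perm GolayPt).symm_apply_eq.2 ha.1.symm,
    (a : Equiv.Perm GolayPt).symm_apply_eq.2 ha.2.symm⟩

variable {K} (hK : Nat.card K = 244823040) (hT : ∀ p : GolayPt, ∃ g ∈ K, g none = p) (hx : mShift ∈ K)

include hK hx in
theorem dbl_mem : dbl ∈ K := by
  haveI : Fact (Nat.Prime 23) := ⟨by norm_num⟩
  haveI : Fact (Nat.Prime 11) := ⟨by norm_num⟩
  set x : K := ⟨mShift, hx⟩
  have hxo : orderOf x = 23 := by rw [Subgroup.orderOf_mk, orderOf_mShift]
  have hfact : (Nat.card K).factorization 23 = 1 := by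
    rw [hK, show 244823040 = 23 * 10644480 from rfl, Nat.factorization_mul (by norm_num) (by norm_num),
      Finsupp.add_apply, Nat.Prime.factorization_self (by norm_num),
      Nat.factorization_eq_zero_of_not_dvd (by norm_num)]
  let P : Sylow 23 K := Sylow.ofCard (Subgroup.zpowers x) (by rw [Nat.card_zpowers, hxo, hfact, pow_one])
  set N := Subgroup.normalizer ((Subgroup.zpowers x : Subgroup K) : Set K)
  have haff : ∀ g : N, ∃ a c : ZMod 23, ((g : K) : Equiv.Perm GolayPt) none = none ∧
      ∀ v : ZMod 23, ((g : K) : Equiv.Perm GolayPt) (some v) = some (a * v + c) := by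
    rintro ⟨g, hg⟩
    have h := (Subgroup.mem_normalizer_iff.1 hg x).1 (Subgroup.mem_zpowers x)
    obtain ⟨k, hk⟩ := mem_powers_iff_mem_zpowers.2 h
    have hk' : (g : Equiv.Perm GolayPt) * mShift = mShift ^ k * (g : Equiv.Perm GolayPt) := by
      have := congrArg Subtype.val hk
      push_cast at this
      rw [show mShift ^ k = (g : Equiv.Perm GolayPt) * mShift * (g : Equiv.Perm GolayPt)⁻¹ from this]
      group
    have hn : (g : Equiv.Perm GolayPt) none = none := by
      have h1 : (mShift ^ k) ((g : Equiv.Perm GolayPt) none) = (g : Equiv.Perm GolayPt) none := by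
        rw [← Equiv.Perm.mul_apply, ← hk']; rfl
      cases hv : (g : Equiv.Perm GolayPt) none with
      | none => rfl
      | some v =>
        rw [hv, mShift_pow_apply] at h1
        exfalso
        have h0 : (k : ZMod 23) = 0 := by simpa using Option.some.inj h1
        obtain ⟨t, rfl⟩ := (ZMod.natCast_eq_zero_iff _ _).1 h0
        rw [pow_mul, ← orderOf_mShift, pow_orderOf_eq_one, one_pow, one_mul] at hk'
        have h1 := congrArg (fun f : Equiv.Perm GolayPt => f (some 0)) hk'
        exact mShift_zero_ne ((g : Equiv.Perm GolayPt).injective h1)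
    obtain ⟨c, hc⟩ : ∃ c, (g : Equiv.Perm GolayPt) (some 0) = some c := by
      cases hv : (g : Equiv.Perm GolayPt) (some 0) with
      | none => exact absurd ((g : Equiv.Perm GolayPt).injective (hv.trans hn.symm)) (by simp)
      | some c => exact ⟨c, rfl⟩
    refine ⟨k, c, hn, fun v => ?_⟩
    have hind : ∀ m : ℕ, (g : Equiv.Perm GolayPt) (some (m : ZMod 23)) = some ((k : ZMod 23) * m + c) := by
      intro m
      induction m with
      | zero => simpa using hc
      | succ m ih =>
        have : (g : Equiv.Perm GolayPt) (mShift (some (m : ZMod 23))) =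
            (mShift ^ k) ((g : Equiv.Perm GolayPt) (some (m : ZMod 23))) := by
          rw [← Equiv.Perm.mul_apply, hk', Equiv.Perm.mul_apply]
        rw [ih, mShift_pow_apply, show mShift (some (m : ZMod 23)) = some ((m : ZMod 23) + 1) from rfl] at this
        rw [Nat.cast_succ, this]
        congr 1; ring
    simpa [ZMod.natCast_zmod_val] using hind v.val
  choose fa fc hfn hf using haff
  have hinj : Function.Injective fun g : N => (fa g, fc g) := by
    intro g h e
    refine Subtype.ext (Subtype.ext (Equiv.ext fun p => ?_))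
    cases p with
    | none => rw [hfn, hfn]
    | some v => rw [hf, hf, (Prod.mk.inj e).1, (Prod.mk.inj e).2]
  have hle : Nat.card N ≤ 529 := by
    refine (Nat.card_le_card_of_injective _ hinj).trans ?_
    rw [Nat.card_prod, Nat.card_zmod]
  obtain ⟨d, hd⟩ : 23 ∣ Nat.card N := by
    rw [← hxo, ← Nat.card_zpowers]; exact Subgroup.card_dvd_of_le Subgroup.le_normalizer
  have hidx := Subgroup.card_mul_index N
  rw [hd, hK, show 244823040 = 23 * 10644480 from rfl, mul_assoc] at hidx
  have hdi : d * N.index = 10644480 := Nat.eq_of_mul_eq_mul_left (by norm_num) hidx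
  have hmod : N.index % 23 = 1 := by
    have h1 : Nat.card (Sylow 23 K) % 23 = 1 := Eq.trans (card_sylow_modEq_one 23 K) rfl
    rwa [P.card_eq_index_normalizer] at h1
  have key : ∀ r < 24, r ∣ 10644480 → (10644480 / r) % 23 = 1 → r = 11 := by decide +kernel
  have hd11 : d = 11 := key d (by omega) ⟨_, hdi.symm⟩ (by
    rw [← hdi, Nat.mul_div_cancel_left _ (by rcases Nat.eq_zero_or_pos d with h | h; · simp [h] at hdi
                                             · exact h)]
    exact hmod)
  obtain ⟨g, hg⟩ := exists_prime_orderOf_dvd_card' (G := N) 11 ⟨23, by rw [hd, hd11]⟩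
  set G := ((g : K) : Equiv.Perm GolayPt) with hG
  have hGo : orderOf G = 11 := by rw [hG, Subgroup.orderOf_coe, Subgroup.orderOf_coe, hg]
  have hG11 : G ^ 11 = 1 := hGo ▸ pow_orderOf_eq_one G
  have hiter : ∀ (n : ℕ) (v : ZMod 23), ∃ c' : ZMod 23, (G ^ n) (some v) = some (fa g ^ n * v + c') ∧
      ∀ w : ZMod 23, (G ^ n) (some w) = some (fa g ^ n * w + c') := by
    intro n
    induction n with
    | zero => intro v; exact ⟨0, by simp, fun w => by simp⟩
    | succ n ih =>
      intro v
      obtain ⟨c', -, h'⟩ := ih 0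
      have : ∀ w : ZMod 23, (G ^ (n + 1)) (some w) = some (fa g ^ (n + 1) * w + (fa g * c' + fc g)) := fun w => by
        rw [pow_succ', Equiv.Perm.mul_apply, h', hf]; congr 1; ring
      exact ⟨_, this v, this⟩
  have hk11 : fa g ^ 11 = 1 := by
    obtain ⟨c', -, h'⟩ := hiter 11 0
    have h0 := h' 0
    have h1 := h' 1
    rw [hG11] at h0 h1
    have e0 : (0 : ZMod 23) = c' := by simpa using Option.some.inj h0
    have e1 : (1 : ZMod 23) = fa g ^ 11 + c' := by simpa using Option.some.inj h1
    rw [← e0, add_zero] at e1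
    exact e1.symm
  have hk1 : fa g ≠ 1 := by
    intro h1
    have h : G = mShift ^ (fc g).val := Equiv.ext fun p => by
      cases p with
      | none => rw [hG, hfn, mShift_pow_none]
      | some v => rw [hG, hf, h1, one_mul, mShift_pow_apply, ZMod.natCast_zmod_val]
    have h2 : G ^ 23 = 1 := by
      rw [h, ← pow_mul, mul_comm, pow_mul, show mShift ^ 23 = 1 from orderOf_mShift ▸ pow_orderOf_eq_one mShift,
        one_pow]
    have := hGo ▸ orderOf_dvd_of_pow_eq_one h2
    norm_num at this
  obtain ⟨m, -, hm⟩ := exists_shift_zero _ hk11 hk1 (fc g)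
  obtain ⟨n, -, hn⟩ := exists_pow_two _ hk11 hk1
  set H := G * mShift ^ m with hH
  have hHK : H ∈ K := mul_mem (g : K).2 (pow_mem hx m)
  have hHn : ∀ (r : ℕ) (v : ZMod 23), (H ^ r) (some v) = some (fa g ^ r * v) := by
    intro r
    induction r with
    | zero => simp
    | succ r ih =>
      intro v
      rw [pow_succ', Equiv.Perm.mul_apply, ih, hH, Equiv.Perm.mul_apply, mShift_pow_apply, hG, hf]
      congr 1
      linear_combination hm
  have hHnone : ∀ r, (H ^ r) none = none := by
    intro r
    induction r with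
    | zero => rfl
    | succ r ih => rw [pow_succ', Equiv.Perm.mul_apply, ih, hH, Equiv.Perm.mul_apply, mShift_pow_none, hG, hfn]
  have : dbl = H ^ n := Equiv.ext fun p => by
    cases p with
    | none => rw [hHnone]; rfl
    | some v => rw [hHn, hn]; rfl
  exact this ▸ pow_mem hHK n

end Group

theorem one_eq_pt : (1 : ZMod 23) = pt false 0 := by decide +kernel

theorem candFun_pt (k : ℕ) (σ : Bool) (b : ℕ) (inf : Bool) (s : Bool) (j : ℕ) :
    candFun k σ b inf (some (pt s j)) = some (pt (xor s σ) (k * (j % 11) + if s then b else 0)) := by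
  rw [← pt_mod s j]
  obtain ⟨h1, h2⟩ := lg_pt s (j % 11) (Nat.mod_lt _ (by norm_num))
  simp [candFun, h2, h1]

theorem dbl_pow_eleven_mul (n : ℕ) : dbl ^ (11 * n) = 1 := by rw [pow_mul, dbl_pow_eleven, one_pow]

theorem apply_of_cand {g : Equiv.Perm GolayPt} {n : ℕ} {F : GolayPt → GolayPt}
    (h : ⇑(dbl ^ n * g) = F) (p : GolayPt) : g p = (dbl ^ (10 * n)) (F p) := by
  rw [← h, ← Equiv.Perm.mul_apply, ← mul_assoc, ← pow_add, show 10 * n + n = 11 * n by ring,
    dbl_pow_eleven_mul, one_mul]

theorem cand_one_false_pow : ∀ b < 11, ∀ p : GolayPt, (candFun 1 false b false)^[11] p = p := by decide +kernel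

theorem cand_one_pow : ∀ σ : Bool, ∀ b < 11, ∀ p : GolayPt, (candFun 1 σ b false)^[22] p = p := by decide +kernel

theorem pow_eq_one_of_cand {g : Equiv.Perm GolayPt} {n r : ℕ} {F : GolayPt → GolayPt}
    (hc : g * dbl = dbl * g) (h : ⇑(dbl ^ n * g) = F) (hr : 11 ∣ r) (hF : ∀ p, F^[r] p = p) : g ^ r = 1 := by
  have h1 : (dbl ^ n * g) ^ r = 1 := Equiv.ext fun p => by
    rw [Equiv.Perm.coe_pow, h]; exact hF p
  have hcomm : Commute (dbl ^ n) g := (Commute.pow_left (Eq.symm hc) n)
  obtain ⟨t, rfl⟩ := hr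
  rwa [hcomm.mul_pow, ← pow_mul, show n * (11 * t) = 11 * (n * t) by ring, dbl_pow_eleven_mul, one_mul] at h1

theorem coe_projInv : ∀ p, candFun 10 true 0 true p = projInvFun p := by decide +kernel

theorem coe_cubeTwist : ∀ p, (Option.map ((2 : ZMod 23) * ·))^[6] (candFun 3 false 10 false p) = cubeTwistFun p := by
  decide +kernel

theorem cand_dbl : ∀ p, candFun 3 false 10 false (Option.map ((2 : ZMod 23) * ·) p) =
    (Option.map ((2 : ZMod 23) * ·))^[3] (candFun 3 false 10 false p) := by decide +kernel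

theorem neg_shift : ∀ v : ZMod 23, -((-v) - 1) = v + 1 := by decide +kernel

theorem neg_cand : ∀ p, (Option.map ((2 : ZMod 23) * ·))^[10]
    (Option.map (fun v : ZMod 23 => -v) (candFun 3 false 1 false (Option.map (fun v : ZMod 23 => -v) p))) =
      candFun 3 false 10 false p := by decide +kernel

section Group

variable {K : Subgroup (Equiv.Perm GolayPt)} (hK : Nat.card K = 244823040) (hT : ∀ p : GolayPt, ∃ g ∈ K, g none = p) (hx : mShift ∈ K)

include hK hT hx in
theorem card_pairStab : Nat.card (pairStab K) = 443520 := by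
  set S := MulAction.stabilizer K (none : GolayPt) with hS
  have h1 : MulAction.orbit K (none : GolayPt) = Set.univ := Set.eq_univ_of_forall fun p => by
    obtain ⟨g, hg, hgp⟩ := hT p
    exact ⟨⟨g, hg⟩, hgp⟩
  have hS' : 24 * Nat.card S = 244823040 := by
    have h2 := Subgroup.card_mul_index S
    rw [hS, MulAction.index_stabilizer, h1, Set.ncard_univ, nat_card_golayPt, hK] at h2
    rw [hS, mul_comm]; exact h2
  have h2 : MulAction.orbit S (some (0 : ZMod 23) : GolayPt) = Set.range (some : ZMod 23 → GolayPt) := by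
    ext p
    constructor
    · rintro ⟨⟨g, hg⟩, rfl⟩
      show (g : Equiv.Perm GolayPt) (some 0) ∈ _
      cases hv : (g : Equiv.Perm GolayPt) (some 0) with
      | none =>
        have hg' : (g : Equiv.Perm GolayPt) none = none := hg
        cases (g : Equiv.Perm GolayPt).injective (hv.trans hg'.symm)
      | some v => exact ⟨v, rfl⟩
    · rintro ⟨v, rfl⟩
      refine ⟨⟨⟨mShift ^ v.val, pow_mem hx _⟩, mShift_pow_none _⟩, ?_⟩
      show (mShift ^ v.val) (some 0) = some v
      rw [mShift_pow_apply, zero_add, ZMod.natCast_zmod_val]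
  have h3 := Subgroup.card_mul_index (MulAction.stabilizer S (some (0 : ZMod 23) : GolayPt))
  rw [MulAction.index_stabilizer, h2, ← Set.image_univ, Set.ncard_image_of_injective _ (Option.some_injective _),
    Set.ncard_univ, Nat.card_zmod] at h3
  have e : Nat.card (pairStab K) = Nat.card (MulAction.stabilizer S (some (0 : ZMod 23) : GolayPt)) :=
    Nat.card_congr
      { toFun := fun g => ⟨⟨g.1, g.2.1⟩, g.2.2⟩
        invFun := fun g => ⟨g.1.1, g.1.2, g.2⟩
        left_inv := fun _ => rfl
        right_inv := fun _ => rfl }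
  rw [e]
  omega

/-- Doubling in the two point stabiliser. -/
def dblT (hd : dbl ∈ K) : pairStab K := ⟨⟨dbl, hd⟩, rfl, show dbl (some 0) = some 0 by decide +kernel⟩

theorem orderOf_dblT (hd : dbl ∈ K) : orderOf (dblT hd) = 11 := by
  rw [← orderOf_dbl, ← Subgroup.orderOf_coe, ← Subgroup.orderOf_coe]; rfl

include hK hT hx in
theorem card_normalizer_dblT (hd : dbl ∈ K) :
    Nat.card (Subgroup.normalizer ((Subgroup.zpowers (dblT hd) : Subgroup (pairStab K)) : Set (pairStab K))) = 55 ∧
      ¬ 5 ∣ Nat.card (Subgroup.centralizer ((Subgroup.zpowers (dblT hd) : Subgroup (pairStab K)) : Set (pairStab K))) := by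
  classical
  haveI : Fact (Nat.Prime 11) := ⟨by norm_num⟩
  haveI : Fact (Nat.Prime 2) := ⟨Nat.prime_two⟩
  have hcard := card_pairStab hK hT hx
  have hyo := orderOf_dblT hd
  set y := dblT hd with hy
  set C := Subgroup.centralizer ((Subgroup.zpowers y : Subgroup (pairStab K)) : Set (pairStab K)) with hC
  set N := Subgroup.normalizer ((Subgroup.zpowers y : Subgroup (pairStab K)) : Set (pairStab K)) with hN
  have hCN : C ≤ N := Subgroup.centralizer_le_normalizer _
  have hzc : Nat.card (Subgroup.zpowers y) = 11 := by rw [Nat.card_zpowers, hyo]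
  have hcomm : ∀ g : C, (((g : pairStab K) : K) : Equiv.Perm GolayPt) * dbl =
      dbl * (((g : pairStab K) : K) : Equiv.Perm GolayPt) := fun g =>
    (congrArg (fun a : pairStab K => ((a : K) : Equiv.Perm GolayPt))
      (Subgroup.mem_centralizer_iff.1 g.2 y (Subgroup.mem_zpowers y))).symm
  have hform : ∀ g : C, ∃ n σ b, b < 11 ∧
      ⇑(dbl ^ n * (((g : pairStab K) : K) : Equiv.Perm GolayPt)) = candFun 1 σ b false := by
    intro g
    obtain ⟨n, σ, b, hb, hf, -, -⟩ := exists_cand (g := (((g : pairStab K) : K) : Equiv.Perm GolayPt))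
      (k := 1) (by norm_num) (by rw [pow_one]; exact hcomm g)
    exact ⟨n, σ, b, hb, by simpa [(g : pairStab K).2.1] using hf⟩
  have hord : ∀ (g : C) (r : ℕ), (((g : pairStab K) : K) : Equiv.Perm GolayPt) ^ r = 1 → orderOf g ∣ r := fun g r h =>
    orderOf_dvd_of_pow_eq_one (Subtype.ext (Subtype.ext (Subtype.ext (by push_cast; exact h))))
  have h22 : ∀ g : C, orderOf g ∣ 22 := fun g => by
    obtain ⟨n, σ, b, hb, hf⟩ := hform g
    exact hord g 22 (pow_eq_one_of_cand (hcomm g) hf (by norm_num) (cand_one_pow σ b hb))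
  obtain ⟨Q⟩ : Nonempty (Sylow 2 C) := inferInstance
  have hQone : ∀ (q : (Q : Subgroup C)) (n b : ℕ), b < 11 →
      ⇑(dbl ^ n * ((((q : C) : pairStab K) : K) : Equiv.Perm GolayPt)) = candFun 1 false b false → q = 1 := by
    intro q n b hb hf
    obtain ⟨i, hi⟩ := Q.isPGroup' q
    have h1 := hord q 11 (pow_eq_one_of_cand (hcomm q) hf dvd_rfl (cand_one_false_pow b hb))
    rw [Subgroup.orderOf_coe] at h1
    have h2 : orderOf q ∣ 2 ^ i := orderOf_dvd_of_pow_eq_one hi
    exact orderOf_eq_one_iff.1 (Nat.eq_one_of_dvd_coprimes (Nat.Coprime.pow_right i (by norm_num)) h1 h2)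
  have hinv : ∀ q r : (Q : Subgroup C), q ≠ 1 → r ≠ 1 → q * r = 1 := by
    intro q r hq hr
    obtain ⟨n, σ, b, hb, hf⟩ := hform q
    obtain ⟨m, τ, c, hc, hg⟩ := hform r
    obtain ⟨l, μ, d, hd', hh⟩ := hform ((q * r : (Q : Subgroup C)) : C)
    cases σ with
    | false => exact absurd (hQone q n b hb hf) hq
    | true =>
      cases τ with
      | false => exact absurd (hQone r m c hc hg) hr
      | true =>
        cases μ with
        | false => exact hQone (q * r) l d hd' hh
        | true =>
          exfalso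
          have e1 := apply_of_cand hh (some (pt false 0))
          have e2 : ((((((q * r : (Q : Subgroup C)) : C) : pairStab K) : K) : Equiv.Perm GolayPt)) (some (pt false 0)) =
              ((((q : C) : pairStab K) : K) : Equiv.Perm GolayPt) (((((r : C) : pairStab K) : K) : Equiv.Perm GolayPt) (some (pt false 0))) := rfl
          rw [e2, apply_of_cand hg, candFun_pt, dbl_pow_pt, apply_of_cand hf, candFun_pt, dbl_pow_pt,
            candFun_pt, dbl_pow_pt, Option.some.injEq] at e1
          have key : ∀ i < 11, ∀ j < 11, pt false i ≠ pt true j := by decide +kernel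
          simp only [Bool.false_xor, Bool.true_xor, Bool.not_true] at e1
          rw [← pt_mod false, ← pt_mod true] at e1
          exact key _ (Nat.mod_lt _ (by norm_num)) _ (Nat.mod_lt _ (by norm_num)) e1
  have hQ : Nat.card (Q : Subgroup C) ≤ 2 := by
    refine (Nat.card_le_card_of_injective (fun q : (Q : Subgroup C) => decide (q = 1)) fun q r h => ?_).trans
      (by simp)
    by_cases hq : q = 1
    · have : r = 1 := by simpa [hq] using h.symm
      rw [hq, this]
    · have hr : r ≠ 1 := by simpa [hq] using h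
      exact mul_left_cancel ((hinv q q hq hq).trans (hinv q r hq hr).symm)
  obtain ⟨c, hc⟩ : 11 ∣ Nat.card C := by
    rw [← hzc]
    refine Subgroup.card_dvd_of_le (Subgroup.zpowers_le.2 (Subgroup.mem_centralizer_iff.2 ?_))
    rintro a ⟨j, rfl⟩
    exact ((Commute.refl y).zpow_left j).eq
  have h11 : ¬ 11 ∣ c := fun h => by
    have h1 : 11 * 11 ∣ Nat.card C := hc ▸ Nat.mul_dvd_mul_left 11 h
    have := h1.trans (Subgroup.card_subgroup_dvd_card C)
    rw [hcard] at this
    norm_num at this
  have hcpow : c = 2 ^ c.primeFactorsList.length := by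
    refine Nat.eq_prime_pow_of_unique_prime_dvd (by rintro rfl; simp at h11) fun {q} hq hqc => ?_
    haveI := Fact.mk hq
    obtain ⟨g, hg⟩ := exists_prime_orderOf_dvd_card' (G := C) q (hc ▸ dvd_mul_of_dvd_right hqc 11)
    have h1 : q ∣ 2 * 11 := hg ▸ h22 g
    rcases hq.dvd_mul.1 h1 with h | h
    · exact (Nat.prime_dvd_prime_iff_eq hq Nat.prime_two).1 h
    · rw [(Nat.prime_dvd_prime_iff_eq hq (by norm_num)).1 h] at hqc
      exact absurd hqc h11
  have hc2 : c ∣ 2 := by
    set a := c.primeFactorsList.length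
    have h1 : 2 ^ a ∣ Nat.card C := hc ▸ hcpow ▸ dvd_mul_left c 11
    have h2 : a ≤ (Nat.card C).factorization 2 :=
      (Nat.prime_two.pow_dvd_iff_le_factorization Nat.card_pos.ne').1 h1
    have h3 : 2 ^ a ≤ 2 ^ 1 := (Nat.pow_le_pow_right two_pos h2).trans (by
      rw [← Q.card_eq_multiplicity, pow_one]; exact hQ)
    have h4 : a ≤ 1 := (Nat.pow_le_pow_iff_right (by norm_num)).1 h3
    rw [hcpow]
    exact (pow_dvd_pow 2 h4).trans (pow_one 2).dvd
  have he := Block.relIndex_centralizer_dvd (P := Subgroup.zpowers y) hzc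
  have hrel : Nat.card N = Nat.card C * C.relIndex N := by
    rw [← Subgroup.relIndex_bot_left, ← Subgroup.relIndex_bot_left]
    exact (Subgroup.relIndex_mul_relIndex _ _ _ bot_le hCN).symm
  obtain ⟨d, hd'⟩ : ∃ d, Nat.card N = 11 * d := ⟨c * C.relIndex N, by rw [hrel, hc, mul_assoc]⟩
  have hd20 : d ∣ 2 * 10 := by
    have : d = c * C.relIndex N := by
      rw [hrel, hc, mul_assoc] at hd'
      exact (Nat.eq_of_mul_eq_mul_left (by norm_num) hd').symm
    rw [this]
    exact mul_dvd_mul hc2 he
  have hfact : (Nat.card (pairStab K)).factorization 11 = 1 := by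
    rw [hcard, show 443520 = 11 * 40320 from rfl, Nat.factorization_mul (by norm_num) (by norm_num),
      Finsupp.add_apply, Nat.Prime.factorization_self (by norm_num),
      Nat.factorization_eq_zero_of_not_dvd (by norm_num)]
  let P : Sylow 11 (pairStab K) := Sylow.ofCard (Subgroup.zpowers y) (by rw [hzc, hfact, pow_one])
  have hidx := Subgroup.card_mul_index N
  rw [hd', hcard, show 443520 = 11 * 40320 from rfl, mul_assoc] at hidx
  have hdi : d * N.index = 40320 := Nat.eq_of_mul_eq_mul_left (by norm_num) hidx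
  have hmod : N.index % 11 = 1 := by
    have h1 : Nat.card (Sylow 11 (pairStab K)) % 11 = 1 := Eq.trans (card_sylow_modEq_one 11 _) rfl
    rwa [P.card_eq_index_normalizer] at h1
  have key : ∀ r < 21, r ∣ 20 → (40320 / r) % 11 = 1 → r = 5 := by decide +kernel
  have hd5 : d = 5 := key d (Nat.lt_succ_of_le (Nat.le_of_dvd (by norm_num) hd20)) hd20 (by
    rw [← hdi, Nat.mul_div_cancel_left _ (Nat.pos_of_dvd_of_pos hd20 (by norm_num))]
    exact hmod)
  refine ⟨by rw [hd', hd5], fun h => ?_⟩
  rw [hc] at h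
  rcases (Nat.Prime.dvd_mul (by norm_num)).1 h with h | h
  · norm_num at h
  · have := h.trans hc2; norm_num at this

theorem pow_conj_pow {A : Type*} [Group A] {u y : A} {k : ℕ} (h : u * y = y ^ k * u) :
    ∀ n : ℕ, u ^ n * y = y ^ (k ^ n) * u ^ n := by
  intro n
  induction n with
  | zero => simp
  | succ n ih =>
    have h' : ∀ m : ℕ, u * y ^ m = y ^ (k * m) * u := by
      intro m
      induction m with
      | zero => simp
      | succ m ihm => rw [pow_succ, ← mul_assoc, ihm, mul_assoc, h, ← mul_assoc, ← pow_add, Nat.mul_succ]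
    rw [pow_succ', mul_assoc, ih, ← mul_assoc, h', mul_assoc, pow_succ, mul_comm k]

include hK hT hx in
theorem exists_u : ∃ u ∈ K, ⇑u = candFun 3 false 1 false ∨ ⇑u = candFun 3 false 10 false := by
  classical
  haveI : Fact (Nat.Prime 5) := ⟨Nat.prime_five⟩
  have hd := dbl_mem hK hx
  obtain ⟨hN, hC5⟩ := card_normalizer_dblT hK hT hx hd
  have hyo := orderOf_dblT hd
  set y := dblT hd
  set N := Subgroup.normalizer ((Subgroup.zpowers y : Subgroup (pairStab K)) : Set (pairStab K))
  obtain ⟨u, hu⟩ := exists_prime_orderOf_dvd_card' (G := N) 5 (by rw [hN]; norm_num)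
  obtain ⟨k, hk⟩ := mem_powers_iff_mem_zpowers.2
    ((Subgroup.mem_normalizer_iff.1 u.2 y).1 (Subgroup.mem_zpowers y))
  change y ^ k = (u : pairStab K) * y * (u : pairStab K)⁻¹ at hk
  have hkeq : (u : pairStab K) * y = y ^ k * u := by rw [hk]; group
  have hu5 : (u : pairStab K) ^ 5 = 1 := by rw [← hu, ← Subgroup.orderOf_coe, pow_orderOf_eq_one]
  have h5 := pow_conj_pow hkeq 5
  rw [hu5, one_mul, mul_one] at h5
  have hk5 : k ^ 5 % 11 = 1 := by
    have h := (pow_eq_pow_iff_modEq (x := y) (m := 1) (n := k ^ 5)).1 (by rw [pow_one]; exact h5.symm)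
    rw [hyo] at h
    exact Eq.trans h rfl
  have hk1 : k % 11 ≠ 1 := by
    intro h1
    have hyk : y ^ k = y := by rw [← pow_mod_orderOf, hyo, h1, pow_one]
    have huC : (u : pairStab K) ∈ Subgroup.centralizer ((Subgroup.zpowers y : Subgroup (pairStab K)) : Set (pairStab K)) := by
      refine Subgroup.mem_centralizer_iff.2 ?_
      rintro a ⟨j, rfl⟩
      have hc : Commute y (u : pairStab K) := by
        show y * u = u * y
        rw [hkeq, hyk]
      exact (hc.zpow_left j).eq
    refine hC5 ?_
    have := orderOf_dvd_natCard (⟨(u : pairStab K), huC⟩ : Subgroup.centralizer ((Subgroup.zpowers y : Subgroup (pairStab K)) : Set (pairStab K)))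
    rwa [Subgroup.orderOf_mk, Subgroup.orderOf_coe, hu] at this
  have key : ∀ r < 11, r ^ 5 % 11 = 1 → r ≠ 1 → ∃ n < 5, r ^ n % 11 = 3 := by decide +kernel
  obtain ⟨n, -, hn⟩ := key (k % 11) (Nat.mod_lt _ (by norm_num)) (by rw [← Nat.pow_mod]; exact hk5) hk1
  rw [← Nat.pow_mod] at hn
  have hgn := pow_conj_pow hkeq n
  set g : Equiv.Perm GolayPt := ((((u : pairStab K) ^ n : pairStab K) : K) : Equiv.Perm GolayPt) with hg
  have hgd : g * dbl = dbl ^ (k ^ n) * g := by
    have := congrArg (fun a : pairStab K => ((a : K) : Equiv.Perm GolayPt)) hgn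
    simpa [hg, y, dblT] using this
  have hg0 : g none = none := ((u : pairStab K) ^ n).2.1
  obtain ⟨m, σ, b, hb, hf, -, -⟩ := exists_cand (g := g) (k := k ^ n) (by omega) hgd
  rw [hn] at hf
  have hf' : ⇑(dbl ^ m * g) = candFun 3 σ b false := by simpa [hg0] using hf
  have hmem : dbl ^ m * g ∈ K := mul_mem (pow_mem hd m) ((u : pairStab K) ^ n).1.2
  refine ⟨_, hmem, ?_⟩
  rcases u_cases σ b hb with ⟨rfl, rfl⟩ | ⟨rfl, rfl⟩ | h
  · exact Or.inl hf'
  · exact Or.inr hf'
  · exfalso
    obtain ⟨e, he, hee⟩ := List.mem_map.1 h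
    obtain ⟨h1, h2, h3⟩ := uBad_ok e he
    rw [hee] at h2 h3
    exact false_of_bad hK (gs := [mShift, dbl ^ m * g]) (by simp [hx, hmem]) (by simp [coe_mShift, hf']) h1 h2 h3

include hK hT hx in
theorem eq_M24_of_cand {u : Equiv.Perm GolayPt} (huK : u ∈ K) (hu : ⇑u = candFun 3 false 10 false) : K = M24 := by
  classical
  haveI : Fact (Nat.Prime 11) := ⟨by norm_num⟩
  have hd := dbl_mem hK hx
  have hyo := orderOf_dblT hd
  have hdblcoe : (⇑dbl : GolayPt → GolayPt) = Option.map ((2 : ZMod 23) * ·) := rfl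
  have hu3 : u * dbl = dbl ^ 3 * u := Equiv.ext fun p => by
    rw [Equiv.Perm.mul_apply, Equiv.Perm.mul_apply, Equiv.Perm.coe_pow, hu, hdblcoe]
    exact cand_dbl p
  obtain ⟨a, haK, ha⟩ := hT (some 0)
  obtain ⟨i, hi⟩ : ∃ i, a⁻¹ none = some i := by
    cases hv : a⁻¹ none with
    | none =>
      have := congrArg a hv
      rw [Equiv.Perm.inv_def, Equiv.apply_symm_apply, ha] at this
      cases this
    | some i => exact ⟨i, rfl⟩
  set g := mShift ^ (23 - i.val) * a⁻¹ with hg
  have hgK : g ∈ K := mul_mem (pow_mem hx _) (inv_mem haK)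
  have hg1 : g none = some 0 := by
    rw [hg, Equiv.Perm.mul_apply, hi, mShift_pow_apply, Nat.cast_sub i.val_lt.le, ZMod.natCast_self,
      ZMod.natCast_zmod_val]
    simp
  have hg2 : g (some 0) = none := by
    rw [hg, Equiv.Perm.mul_apply, show a⁻¹ (some 0) = none by rw [Equiv.Perm.inv_eq_iff_eq, ha], mShift_pow_none]
  have hgi1 : g⁻¹ none = some 0 := by rw [Equiv.Perm.inv_eq_iff_eq, hg2]
  have hgi2 : g⁻¹ (some 0) = none := by rw [Equiv.Perm.inv_eq_iff_eq, hg1]
  let gK : K := ⟨g, hgK⟩
  let z : pairStab K := ⟨gK * ⟨dbl, hd⟩ * gK⁻¹, by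
    constructor
    · show g (dbl (g⁻¹ none)) = none
      rw [hgi1, show dbl (some 0) = some 0 by decide +kernel, hg2]
    · show g (dbl (g⁻¹ (some 0))) = some 0
      rw [hgi2, show dbl none = none from rfl, hg1]⟩
  have hzo : orderOf z = 11 := by
    rw [← Subgroup.orderOf_coe, show (z : K) = MulAut.conj gK ⟨dbl, hd⟩ from rfl, MulEquiv.orderOf_eq,
      Subgroup.orderOf_mk, orderOf_dbl]
  have hfact : (Nat.card (pairStab K)).factorization 11 = 1 := by
    rw [card_pairStab hK hT hx, show 443520 = 11 * 40320 from rfl, Nat.factorization_mul (by norm_num) (by norm_num),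
      Finsupp.add_apply, Nat.Prime.factorization_self (by norm_num),
      Nat.factorization_eq_zero_of_not_dvd (by norm_num)]
  let Pz : Sylow 11 (pairStab K) := Sylow.ofCard (Subgroup.zpowers z) (by rw [Nat.card_zpowers, hzo, hfact, pow_one])
  let Py : Sylow 11 (pairStab K) := Sylow.ofCard (Subgroup.zpowers (dblT hd)) (by
    rw [Nat.card_zpowers, hyo, hfact, pow_one])
  obtain ⟨τ, hτ⟩ := MulAction.exists_smul_eq (pairStab K) Pz Py
  have hmem : τ * z * τ⁻¹ ∈ Subgroup.zpowers (dblT hd) := by
    have h1 : τ * z * τ⁻¹ ∈ ((τ • Pz : Sylow 11 (pairStab K)) : Subgroup (pairStab K)) := by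
      rw [Sylow.coe_subgroup_smul]
      exact Subgroup.smul_mem_pointwise_smul z (MulAut.conj τ) _ (Subgroup.mem_zpowers z)
    rw [hτ] at h1
    exact h1
  obtain ⟨k, hk⟩ := mem_powers_iff_mem_zpowers.2 hmem
  change (dblT hd) ^ k = τ * z * τ⁻¹ at hk
  set t0 := (((τ : K) : Equiv.Perm GolayPt)) with ht0
  have hgd : (t0 * g) * dbl = dbl ^ k * (t0 * g) := by
    have := congrArg (fun a : pairStab K => ((a : K) : Equiv.Perm GolayPt)) hk
    push_cast at this
    rw [show dbl ^ k = t0 * (g * dbl * g⁻¹) * t0⁻¹ from this]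
    group
  have hk0 : k % 11 ≠ 0 := by
    intro h0
    have h1 : (dblT hd) ^ k = 1 := by rw [← pow_mod_orderOf, hyo, h0, pow_zero]
    have h2 : z = 1 := by
      have := hk.symm.trans h1
      rw [mul_inv_eq_one] at this
      exact mul_left_cancel (this.trans (mul_one τ).symm)
    rw [h2, orderOf_one] at hzo
    norm_num at hzo
  have key : ∀ r < 11, r ≠ 0 → ∃ j < 5, (3 ^ j * r) % 11 = 1 ∨ (3 ^ j * r) % 11 = 10 := by decide +kernel
  obtain ⟨j, -, hj⟩ := key (k % 11) (Nat.mod_lt _ (by norm_num)) hk0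
  rw [Nat.mul_mod, Nat.mod_mod, ← Nat.mul_mod] at hj
  have hu3j := pow_conj_pow hu3 j
  set t := u ^ j * (t0 * g) with ht
  have htd : t * dbl = dbl ^ (3 ^ j * k) * t := by
    have h' : ∀ m : ℕ, u ^ j * dbl ^ m = dbl ^ (3 ^ j * m) * u ^ j := by
      intro m
      induction m with
      | zero => simp
      | succ m ihm => rw [pow_succ, ← mul_assoc, ihm, mul_assoc, hu3j, ← mul_assoc, ← pow_add, Nat.mul_succ]
    rw [ht, mul_assoc, hgd, ← mul_assoc, h', mul_assoc]
  have htK : t ∈ K := mul_mem (pow_mem huK j) (mul_mem (τ : K).2 hgK)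
  have hu0 : ∀ m, (u ^ m) (some 0) = some 0 := by
    intro m
    induction m with
    | zero => rfl
    | succ m ih => rw [pow_succ', Equiv.Perm.mul_apply, ih, hu]; rfl
  have ht1 : t none ≠ none := by
    rw [ht, Equiv.Perm.mul_apply, Equiv.Perm.mul_apply, hg1, show t0 (some 0) = some 0 from τ.2.2, hu0]
    simp
  obtain ⟨m, σ, b, hb, hf, -, -⟩ := exists_cand (g := t) (k := 3 ^ j * k) (by omega) htd
  have hf' : ⇑(dbl ^ m * t) = candFun ((3 ^ j * k) % 11) σ b true := by simpa [ht1] using hf
  have htm : dbl ^ m * t ∈ K := mul_mem (pow_mem hd m) htK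
  rcases t_cases ((3 ^ j * k) % 11) (by simpa using hj) σ b hb with ⟨e1, rfl, rfl⟩ | h
  · have hproj : projInv ∈ K := by
      have : projInv = dbl ^ m * t := Equiv.ext fun p => by
        rw [hf', e1, coe_projInv]; rfl
      exact this ▸ htm
    have hcube : cubeTwist ∈ K := by
      have : cubeTwist = dbl ^ 6 * u := Equiv.ext fun p => by
        rw [Equiv.Perm.mul_apply, Equiv.Perm.coe_pow, hu, hdblcoe]
        exact (coe_cubeTwist p).symm
      exact this ▸ mul_mem (pow_mem hd 6) huK
    refine (Subgroup.eq_of_le_of_card_ge ?_ (by rw [hK, card_M24])).symm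
    rw [← M24_eq_closure, Subgroup.closure_le]
    rintro a (rfl | rfl | rfl)
    · exact hx
    · exact hproj
    · exact hcube
  · exfalso
    obtain ⟨e, he, hee⟩ := List.mem_map.1 h
    obtain ⟨h1, h2, h3⟩ := tBad_ok e he
    rw [hee] at h2 h3
    exact false_of_bad hK (gs := [mShift, u, dbl ^ m * t]) (by simp [hx, huK, htm])
      (by simp [coe_mShift, hu, hf']) h1 h2 h3

include hK hT hx in
theorem iso_M24 : Nonempty (K ≃* M24) := by
  obtain ⟨u, huK, hu | hu⟩ := exists_u hK hT hx
  · set K' := K.map (MulAut.conj negPt).toMonoidHom with hK'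
    have hinj : Function.Injective (MulAut.conj negPt).toMonoidHom := (MulAut.conj negPt).injective
    have hc : ∀ (a : Equiv.Perm GolayPt) (p : GolayPt), (MulAut.conj negPt).toMonoidHom a p = negPt (a (negPt p)) :=
      fun a p => rfl
    have hK2 : Nat.card K' = 244823040 := by rw [hK', Subgroup.card_map_of_injective hinj, hK]
    have hT2 : ∀ p, ∃ g ∈ K', g none = p := fun p => by
      obtain ⟨g, hgK, hg⟩ := hT (negPt p)
      refine ⟨_, Subgroup.mem_map_of_mem _ hgK, ?_⟩
      rw [hc, show negPt none = none from rfl, hg]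
      exact negPt.left_inv p
    have hx2 : mShift ∈ K' := by
      refine ⟨mShift⁻¹, inv_mem hx, Equiv.ext fun p => ?_⟩
      rw [hc]
      cases p with
      | none => rfl
      | some v =>
        show some (-((-v) + -1)) = some (v + 1)
        rw [← sub_eq_add_neg, neg_shift]
    have hd2 := dbl_mem hK2 hx2
    have hu2 : dbl ^ 10 * (MulAut.conj negPt).toMonoidHom u ∈ K' :=
      mul_mem (pow_mem hd2 10) (Subgroup.mem_map_of_mem _ huK)
    have := eq_M24_of_cand hK2 hT2 hx2 hu2 (funext fun p => by
      rw [Equiv.Perm.mul_apply, Equiv.Perm.coe_pow, hc, hu]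
      exact neg_cand p)
    exact ⟨(K.equivMapOfInjective _ hinj).trans (MulEquiv.subgroupCongr this)⟩
  · exact ⟨MulEquiv.subgroupCongr (eq_M24_of_cand hK hT hx huK hu)⟩

end Group

open scoped Classical in
/-- A simple group of order 244823040 with a subgroup of index 24 is M24. -/
theorem iso_of_index_eq {G : Type*} [Group G] [Finite G] [IsSimpleGroup G] (hcard : Nat.card G = 244823040)
    {H : Subgroup G} (hH : H.index = 24) : Nonempty (G ≃* M24) := by
  haveI : Fact (Nat.Prime 23) := ⟨by norm_num⟩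
  haveI : Fintype (G ⧸ H) := Fintype.ofFinite _
  have hΩ : Nat.card (G ⧸ H) = Nat.card GolayPt := by
    rw [nat_card_golayPt, ← Subgroup.index_eq_card, hH]
  obtain ⟨e⟩ := Finite.card_eq.1 hΩ
  set f : G →* Equiv.Perm GolayPt := e.permCongrHom.toMonoidHom.comp (MulAction.toPermHom G (G ⧸ H)) with hf
  have hfapp : ∀ (g : G) (p : GolayPt), f g p = e (g • e.symm p) := fun g p => rfl
  have htr : ∀ p q : GolayPt, ∃ g : G, f g p = q := fun p q => by
    obtain ⟨g, hg⟩ := MulAction.exists_smul_eq G (e.symm p) (e.symm q)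
    exact ⟨g, by rw [hfapp, hg, Equiv.apply_symm_apply]⟩
  have hfinj : Function.Injective f := by
    rw [← MonoidHom.ker_eq_bot_iff]
    refine (MonoidHom.normal_ker f).eq_bot_or_eq_top.resolve_right fun h => ?_
    obtain ⟨g, hg⟩ := htr none (some 0)
    rw [(MonoidHom.mem_ker).1 (h ▸ Subgroup.mem_top g : g ∈ f.ker)] at hg
    cases hg
  obtain ⟨x, hx⟩ := exists_prime_orderOf_dvd_card' (G := G) 23 (by rw [hcard]; norm_num)
  have ho : orderOf (f x) = 23 := by rw [orderOf_injective f hfinj, hx]
  have hconj : IsConj (f x) mShift := by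
    rw [Equiv.Perm.isConj_iff_cycleType_eq]
    have key : ∀ σ : Equiv.Perm GolayPt, orderOf σ = 23 → σ.cycleType = Multiset.replicate 1 23 := fun σ hσ => by
      obtain ⟨n, hn⟩ := Equiv.Perm.cycleType_prime_order (σ := σ) (by rw [hσ]; norm_num)
      have hs : σ.cycleType.sum ≤ 24 := by
        rw [Equiv.Perm.sum_cycleType, ← nat_card_golayPt, Nat.card_eq_fintype_card]
        exact Finset.card_le_univ _
      rw [hn, Multiset.sum_replicate, hσ, smul_eq_mul] at hs
      rw [hn, hσ, show n = 0 by omega]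
    rw [key _ ho, key _ orderOf_mShift]
  obtain ⟨c, hc⟩ := isConj_iff.1 hconj
  set f' : G →* Equiv.Perm GolayPt := (MulAut.conj c).toMonoidHom.comp f with hf'
  have hf'inj : Function.Injective f' := (MulAut.conj c).injective.comp hfinj
  have hK : Nat.card f'.range = 244823040 := by
    rw [← Nat.card_congr (MonoidHom.ofInjective hf'inj).toEquiv, hcard]
  have hT : ∀ p : GolayPt, ∃ g ∈ f'.range, g none = p := fun p => by
    obtain ⟨g, hg⟩ := htr (c.symm none) (c.symm p)
    refine ⟨f' g, ⟨g, rfl⟩, ?_⟩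
    show c (f g (c.symm none)) = p
    rw [hg, Equiv.apply_symm_apply]
  obtain ⟨i⟩ := iso_M24 hK hT ⟨x, hc⟩
  exact ⟨(MonoidHom.ofInjective hf'inj).trans i⟩

end Cfsg.Lib.MTwentyFour
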