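import Cfsg.Agent.Lib.MEleven.Basic
import Cfsg.Agent.Lib.MTwentyFour.Action

/-!
A simple group of order 244823040 with small 23- and 11-normalisers and a single character of degree 23
has a subgroup of index 24, so is M24.
-/

set_option autoImplicit false
set_option linter.style.haveILetI false
set_option linter.unusedSectionVars false

namespace Cfsg.Lib.MTwentyFour

open Cfsg Cfsg.Lib.Char Cfsg.Lib.Block Cfsg.Lib.MEleven

universe u

noncomputable local instance (priority := high) fintypeSubgroupMTwentyFourIndex {A : Type u}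
    [Group A] [Fintype A] (H : Subgroup A) : Fintype H := Fintype.ofFinite H

variable {G : Type u} [Group G] [Fintype G]

/-- The product of a subgroup with a subgroup it normalises. -/
def normProd (A K : Subgroup G) (h : ∀ a ∈ A, ∀ k ∈ K, a * k * a⁻¹ ∈ K) : Subgroup G where
  carrier := {g | ∃ a ∈ A, a⁻¹ * g ∈ K}
  one_mem' := ⟨1, one_mem _, by simp [one_mem]⟩
  mul_mem' := by
    rintro g g' ⟨a, ha, hk⟩ ⟨b, hb, hk'⟩
    refine ⟨a * b, mul_mem ha hb, ?_⟩
    have e : (a * b)⁻¹ * (g * g') = b⁻¹ * (a⁻¹ * g) * b⁻¹⁻¹ * (b⁻¹ * g') := by group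
    rw [e]
    exact mul_mem (h _ (inv_mem hb) _ hk) hk'
  inv_mem' := by
    rintro g ⟨a, ha, hk⟩
    refine ⟨a⁻¹, inv_mem ha, ?_⟩
    have e : a⁻¹⁻¹ * g⁻¹ = a * (a⁻¹ * g)⁻¹ * a⁻¹ := by group
    rw [e]
    exact h a ha _ (inv_mem hk)

theorem exists_coprime_lift {p m j : ℕ} (hp : p.Prime) (hm : ¬ p ∣ m) (hj : ¬ p ∣ j) :
    ∃ k : ℕ, k.Coprime (p * m) ∧ k ≡ j [MOD p] := by
  have hc : p.Coprime m := hp.coprime_iff_not_dvd.2 hm
  obtain ⟨k, hk1, hk2⟩ := Nat.chineseRemainder hc j 1
  refine ⟨k, Nat.Coprime.mul_right ?_ ?_, hk1⟩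
  · exact (hp.coprime_iff_not_dvd.2 fun h => hj ((hk1.dvd_iff dvd_rfl).1 h)).symm
  · have := hk2.gcd_eq
    rwa [Nat.gcd_one_left] at this

/-- Values of a Galois invariant character on the powers of an element of prime order. -/
theorem sum_zpowers_prime (χ : IrrCharacter G) (hinv : ∀ k : ℕ, k.Coprime (Nat.card G) → ∀ g : G,
      (χ : G → ℂ) (g ^ k) = (χ : G → ℂ) g)
    {p m : ℕ} (hp : p.Prime) (hm : ¬ p ∣ m) (hcard : Nat.card G = p * m) {g : G} (hg : orderOf g = p) :
    (∀ a ∈ Subgroup.zpowers g, a ≠ 1 → (χ : G → ℂ) a = (χ : G → ℂ) g) ∧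
      ∑ a : Subgroup.zpowers g, (χ : G → ℂ) a = (deg χ : ℂ) + ((p - 1 : ℕ) : ℂ) * (χ : G → ℂ) g := by
  classical
  have h1 : ∀ a ∈ Subgroup.zpowers g, a ≠ 1 → (χ : G → ℂ) a = (χ : G → ℂ) g := by
    intro a ha ha1
    obtain ⟨j, rfl⟩ := mem_powers_iff_mem_zpowers.2 ha
    simp only at ha1 ⊢
    have hj : ¬ p ∣ j := fun h => ha1 (orderOf_dvd_iff_pow_eq_one.1 (hg ▸ h))
    obtain ⟨k, hk, hkj⟩ := exists_coprime_lift hp hm hj
    rw [show g ^ j = g ^ k from pow_eq_pow_iff_modEq.2 (hg ▸ hkj.symm)]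
    exact hinv k (hcard ▸ hk) g
  refine ⟨h1, ?_⟩
  rw [Fintype.sum_eq_add_sum_compl (1 : Subgroup.zpowers g), OneMemClass.coe_one, MEleven.apply_one,
    Finset.sum_congr rfl fun (a : Subgroup.zpowers g) ha => h1 a a.2 fun e => by simp [Subtype.ext_iff, e] at ha,
    Finset.sum_const, Finset.card_compl, Finset.card_singleton, ← Nat.card_eq_fintype_card,
    Nat.card_zpowers, hg, nsmul_eq_mul]

theorem card_eq_mul (k : ℕ) (h : k ∣ 967680) : ∃ a < 11, ∃ b < 4, ∃ c < 2, ∃ d < 2,
    k = 2 ^ a * 3 ^ b * 5 ^ c * 7 ^ d := by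
  obtain ⟨k₁, k₄, hk₁, hk₄, rfl⟩ := Nat.dvd_mul.1 (show k ∣ 2 ^ 10 * 3 ^ 3 * 5 ^ 1 * 7 ^ 1 by norm_num; exact h)
  obtain ⟨k₅, k₃, hk₅, hk₃, rfl⟩ := Nat.dvd_mul.1 hk₁
  obtain ⟨k₆, k₂, hk₆, hk₂, rfl⟩ := Nat.dvd_mul.1 hk₅
  obtain ⟨a, ha, rfl⟩ := (Nat.dvd_prime_pow Nat.prime_two).1 hk₆
  obtain ⟨b, hb, rfl⟩ := (Nat.dvd_prime_pow Nat.prime_three).1 hk₂
  obtain ⟨c, hc, rfl⟩ := (Nat.dvd_prime_pow Nat.prime_five).1 hk₃
  obtain ⟨d, hd, rfl⟩ := (Nat.dvd_prime_pow (show Nat.Prime 7 by norm_num)).1 hk₄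
  exact ⟨a, by omega, b, by omega, c, by omega, d, by omega, rfl⟩

def kOk (k : ℕ) : Bool :=
  !(k % 23 == 1 && k % 5 == 0 && (253 * k / 55 % 11 == 1 || 253 * k / 110 % 11 == 1)) || k == 40320 || k == 967680

theorem k_cases : ∀ a < 11, ∀ b < 4, ∀ c < 2, ∀ d < 2, kOk (2 ^ a * 3 ^ b * 5 ^ c * 7 ^ d) = true := by
  decide +kernel

/-- The number of Sylow subgroups inside a subgroup containing the normaliser part. -/
theorem index_modEq_one {p : ℕ} [Fact p.Prime] (hG : ¬ p * p ∣ Nat.card G) {x : G} (hx : orderOf x = p)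
    (H : Subgroup G) (hxH : x ∈ H) {n : ℕ}
    (hn : Nat.card ↥(Subgroup.normalizer ((Subgroup.zpowers x : Subgroup G) : Set G) ⊓ H) = n) :
    n ∣ Nat.card H ∧ (Nat.card H / n) % p = 1 := by
  classical
  set x' : H := ⟨x, hxH⟩
  have hx' : orderOf x' = p := by rw [Subgroup.orderOf_mk, hx]
  have hcard : Nat.card (Subgroup.zpowers x') = p ^ (Nat.card H).factorization p := by
    have hH : ¬ p * p ∣ Nat.card H := fun h => hG (h.trans (Subgroup.card_subgroup_dvd_card H))
    have hd : p ∣ Nat.card H := hx' ▸ orderOf_dvd_natCard x'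
    have h1 : (Nat.card H).factorization p = 1 := by
      have ha := (Fact.out : p.Prime).factorization_pos_of_dvd Nat.card_pos.ne' hd
      by_contra hne
      refine hH (((pow_two p).symm ▸ ?_ : p * p ∣ Nat.card H))
      exact ((Fact.out : p.Prime).pow_dvd_iff_le_factorization Nat.card_pos.ne').2 (by omega)
    rw [Nat.card_zpowers, hx', h1, pow_one]
  set P : Sylow p H := Sylow.ofCard (Subgroup.zpowers x') hcard
  have h1 : Nat.card (Sylow p H) % p = 1 := by
    have := card_sylow_modEq_one p H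
    rwa [Nat.ModEq, Nat.mod_eq_of_lt (a := 1) (Fact.out : p.Prime).one_lt] at this
  have hN : (Subgroup.normalizer (((P : Subgroup H)) : Set H)).map H.subtype =
      Subgroup.normalizer ((Subgroup.zpowers x : Subgroup G) : Set G) ⊓ H := by
    have hmem : ∀ a : H, a ∈ Subgroup.zpowers x' ↔ (a : G) ∈ Subgroup.zpowers x := by
      intro a
      simp only [Subgroup.mem_zpowers_iff, Subtype.ext_iff, Subgroup.coe_zpow, x']
    ext g
    constructor
    · rintro ⟨a, ha, rfl⟩
      refine ⟨Subgroup.mem_normalizer_iff.2 fun y => ?_, a.2⟩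
      constructor
      · intro hy
        have hyH : y ∈ H := (Subgroup.zpowers_le.2 hxH) hy
        exact (hmem _).1 ((Subgroup.mem_normalizer_iff.1 ha ⟨y, hyH⟩).1 ((hmem _).2 hy))
      · intro hy
        have hyH : y ∈ H := by
          have := (Subgroup.zpowers_le.2 hxH) hy
          have h2 := mul_mem (mul_mem (inv_mem a.2) this) a.2
          simpa [mul_assoc] using h2
        exact (hmem _).1 ((Subgroup.mem_normalizer_iff.1 ha ⟨y, hyH⟩).2 ((hmem _).2 hy))
    · rintro ⟨hg, hgH⟩
      refine ⟨⟨g, hgH⟩, Subgroup.mem_normalizer_iff.2 fun a => ?_, rfl⟩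
      show a ∈ Subgroup.zpowers x' ↔ ⟨g, hgH⟩ * a * ⟨g, hgH⟩⁻¹ ∈ Subgroup.zpowers x'
      rw [hmem, hmem]
      exact Subgroup.mem_normalizer_iff.1 hg a
  have hNn : Nat.card (Subgroup.normalizer (((P : Subgroup H)) : Set H)) = n := by
    rw [← hn, ← hN, Subgroup.card_map_of_injective H.subtype_injective]
  have h2 := Subgroup.card_mul_index (Subgroup.normalizer (((P : Subgroup H)) : Set H))
  rw [hNn] at h2
  have h3 : (Subgroup.normalizer (((P : Subgroup H)) : Set H)).index = Nat.card (Sylow p H) :=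
    (Sylow.card_eq_index_normalizer P).symm
  rw [h3] at h2
  refine ⟨⟨_, h2.symm⟩, ?_⟩
  rwa [← h2, Nat.mul_div_cancel_left _ (hn ▸ Nat.card_pos)]

variable [IsSimpleGroup G] (hcard : Nat.card G = 244823040)

include hcard

theorem exists_index_eq {x : G} (hx : orderOf x = 23)
    (hxC : Subgroup.centralizer ({x} : Set G) = Subgroup.zpowers x)
    (hxN : Nat.card (Subgroup.normalizer ((Subgroup.zpowers x : Subgroup G) : Set G)) = 253)
    (h11 : ∀ y : G, orderOf y = 11 → Subgroup.centralizer ({y} : Set G) = Subgroup.zpowers y ∧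
      Nat.card (Subgroup.normalizer ((Subgroup.zpowers y : Subgroup G) : Set G)) = 110)
    {χ : IrrCharacter G} (hχ : deg χ = 23) (huniq : ∀ ψ : IrrCharacter G, deg ψ = 23 → ψ = χ) :
    ∃ H : Subgroup G, H.index = 24 := by
  classical
  haveI : Fact (Nat.Prime 23) := ⟨by norm_num⟩
  haveI : Fact (Nat.Prime 11) := ⟨by norm_num⟩
  have hinv : ∀ k : ℕ, k.Coprime (Nat.card G) → ∀ g : G, (χ : G → ℂ) (g ^ k) = (χ : G → ℂ) g := by
    intro k hk g
    have he : (⟨_, isIrrCharacter_comp_pow hk χ.2⟩ : IrrCharacter G) = χ := by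
      refine huniq _ ?_
      have h := (isIrrCharacter_comp_pow hk χ.2).apply_one_eq_charDegree
      simp only [one_pow, MEleven.apply_one, hχ] at h
      exact_mod_cast h.symm
    exact congrFun (congrArg Subtype.val he) g
  have hne : χ ≠ trivChar G := fun e => by
    rw [e] at hχ
    have : deg (trivChar G) = 1 := charDegree_eq_of_apply_one (by rw [trivChar_coe, Nat.cast_one])
    rw [this] at hχ
    norm_num at hχ
  have hval11 : ∀ g : G, orderOf g = 11 → (χ : G → ℂ) g = 1 := by
    intro g hg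
    obtain ⟨c, hc⟩ := exists_int_of_pow_invariant χ.2.isCharacter g (fun k hk => hinv k hk g)
    obtain ⟨n, hn⟩ := exists_nat_sum χ (Subgroup.zpowers g)
    rw [(sum_zpowers_prime χ hinv (m := 22256640) (by norm_num : Nat.Prime 11) (by norm_num)
      (by rw [hcard]) hg).2, Nat.card_zpowers, hg, hc, hχ] at hn
    have hn' : (23 : ℤ) + 10 * c = 11 * n := by
      have : ((23 + 10 * c : ℤ) : ℂ) = ((11 * n : ℤ) : ℂ) := by push_cast at hn ⊢; exact hn
      exact_mod_cast this
    have h := sum_column_normSq g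
    rw [(h11 g hg).1, Nat.card_zpowers, hg] at h
    have hle := Finset.single_le_sum (f := fun ψ : IrrCharacter G => ‖(ψ : G → ℂ) g‖ ^ 2)
      (fun _ _ => sq_nonneg _) (Finset.mem_univ χ)
    rw [h, hc, Complex.norm_intCast, sq_abs] at hle
    have hle' : c ^ 2 ≤ 11 := by exact_mod_cast hle
    have hb1 : -3 ≤ c := by nlinarith
    have hb2 : c ≤ 3 := by nlinarith
    rw [hc]
    norm_num
    omega
  -- the normaliser of the 23-element
  set A := Subgroup.normalizer ((Subgroup.zpowers x : Subgroup G) : Set G) with hA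
  have hsA : ∑ g : A, (χ : G → ℂ) g = ((Nat.card A * 1 : ℕ) : ℂ) := by
    have hv : ∀ g : A, (χ : G → ℂ) g = if (g : G) = 1 then 23 else if (g : G) ∈ Subgroup.zpowers x then 0 else 1 := by
      intro g
      by_cases h1 : (g : G) = 1
      · rw [if_pos h1, h1, MEleven.apply_one, hχ]; norm_num
      rw [if_neg h1]
      by_cases h2 : (g : G) ∈ Subgroup.zpowers x
      · rw [if_pos h2]
        refine apply_eq_zero_of_defectZero (p := 23) χ ?_ ?_
        · rw [hχ, hcard, show 244823040 = 23 * 10644480 from rfl,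
            Nat.factorization_mul (by norm_num) (by norm_num), Finsupp.add_apply,
            Nat.factorization_eq_zero_of_not_dvd (show ¬ 23 ∣ 10644480 by norm_num), add_zero]
        · have hd : orderOf (g : G) ∣ 23 := hx ▸ orderOf_dvd_of_mem_zpowers h2
          rcases (Nat.dvd_prime (by norm_num)).1 hd with e | e
          · exact absurd (orderOf_eq_one_iff.1 e) h1
          · rw [e]
      · rw [if_neg h2]
        refine hval11 _ ?_
        have hd : orderOf (g : G) ∣ 23 * 11 := by
          have := Subgroup.orderOf_dvd_natCard A g.2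
          rwa [hxN] at this
        have h23 : ¬ 23 ∣ orderOf (g : G) := by
          intro h
          obtain ⟨j, hj⟩ := h
          have ho : orderOf ((g : G) ^ j) = 23 := by
            rw [orderOf_pow' _ (fun e => by rw [e, mul_zero] at hj; exact (orderOf_pos _).ne' hj),
              hj, Nat.gcd_eq_right (Dvd.intro_left 23 rfl), Nat.mul_div_cancel _
              (Nat.pos_of_ne_zero fun e => by rw [e, mul_zero] at hj; exact (orderOf_pos _).ne' hj)]
          set y : A := g ^ j with hy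
          have hyo : orderOf y = 23 := by
            rw [← Subgroup.orderOf_coe, hy, Subgroup.coe_pow, ho]
          haveI : (Subgroup.zpowers x).subgroupOf A |>.Normal := Subgroup.normal_in_normalizer
          set Z := (Subgroup.zpowers x).subgroupOf A
          have hZ : Nat.card Z = 23 := by
            rw [Nat.card_congr (Subgroup.subgroupOfEquivOfLe Subgroup.le_normalizer).toEquiv, Nat.card_zpowers, hx]
          have hZi : Z.index = 11 := by
            have := Z.card_mul_index
            rw [hZ, hxN] at this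
            omega
          have hyZ : y ∈ Z := by
            by_contra hyn
            have h1 : orderOf (QuotientGroup.mk' Z y) ∣ 23 := hyo ▸ orderOf_map_dvd _ _
            have h2 : orderOf (QuotientGroup.mk' Z y) ∣ 11 := by
              have := orderOf_dvd_natCard (QuotientGroup.mk' Z y)
              rwa [← Subgroup.index_eq_card, hZi] at this
            have h3 := Nat.dvd_gcd h1 h2
            rw [show Nat.gcd 23 11 = 1 from rfl, Nat.dvd_one, orderOf_eq_one_iff] at h3
            exact hyn ((QuotientGroup.eq_one_iff y).1 h3)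
          have hgC : (g : G) ∈ Subgroup.centralizer ({x} : Set G) := by
            have hyx : ((g : G) ^ j) ∈ Subgroup.zpowers x := hyZ
            have hgen : Subgroup.zpowers ((g : G) ^ j) = Subgroup.zpowers x :=
              Subgroup.eq_of_le_of_card_ge (Subgroup.zpowers_le.2 hyx)
                (by rw [Nat.card_zpowers, Nat.card_zpowers, hx, ho])
            have hxg : x ∈ Subgroup.zpowers (g : G) :=
              (Subgroup.zpowers_le.2 (Subgroup.pow_mem _ (Subgroup.mem_zpowers _) j))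
                (hgen ▸ Subgroup.mem_zpowers x)
            obtain ⟨i, hi⟩ := Subgroup.mem_zpowers_iff.1 hxg
            rw [Subgroup.mem_centralizer_singleton_iff, ← hi]
            exact (Commute.self_zpow (g : G) i).eq
          rw [hxC] at hgC
          exact h2 hgC
        have h' : orderOf (g : G) ∣ 11 :=
          ((Nat.Prime.coprime_iff_not_dvd (by norm_num)).2 h23).symm.dvd_of_dvd_mul_left hd
        rcases (Nat.dvd_prime (by norm_num)).1 h' with e | e
        · exact absurd (orderOf_eq_one_iff.1 e) h1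
        · exact e
    rw [Finset.sum_congr rfl fun g _ => hv g, mul_one]
    have hone : ∀ g : A, (if (g : G) = 1 then (23 : ℂ) else if (g : G) ∈ Subgroup.zpowers x then 0 else 1) =
        (if g = 1 then (23 : ℂ) else 0) + (1 - if (g : G) ∈ Subgroup.zpowers x then 1 else 0) := by
      intro g
      by_cases h1 : g = 1
      · subst h1; simp [one_mem]
      · have : (g : G) ≠ 1 := fun e => h1 (Subtype.ext e)
        simp only [this, h1, if_false]
        split_ifs <;> ring
    rw [Finset.sum_congr rfl fun g _ => hone g, Finset.sum_add_distrib, Finset.sum_ite_eq' Finset.univ,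
      if_pos (Finset.mem_univ _), Finset.sum_sub_distrib, Finset.sum_boole]
    have hZ : (Finset.univ.filter fun g : A => (g : G) ∈ Subgroup.zpowers x).card = 23 := by
      rw [← Fintype.card_subtype, ← Nat.card_eq_fintype_card]
      refine (Nat.card_congr (Subgroup.subgroupOfEquivOfLe (H := Subgroup.zpowers x) (K := A)
        Subgroup.le_normalizer).toEquiv).trans ?_
      rw [Nat.card_zpowers, hx]
    rw [hZ, Finset.sum_const, Finset.card_univ, ← Nat.card_eq_fintype_card, hxN, nsmul_eq_mul]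
    norm_num
  -- an 11-element of `A`
  obtain ⟨y', hy'⟩ := exists_prime_orderOf_dvd_card' (G := A) 11 (by rw [hxN]; norm_num)
  set y : G := (y' : G)
  have hy : orderOf y = 11 := by rw [show y = (y' : G) from rfl, Subgroup.orderOf_coe, hy']
  obtain ⟨hyC, hyN⟩ := h11 y hy
  set Y := Subgroup.zpowers y with hYdef
  set NY := Subgroup.normalizer ((Subgroup.zpowers y : Subgroup G) : Set G) with hNY
  haveI : Fact (Nat.Prime 5) := ⟨Nat.prime_five⟩
  obtain ⟨u', hu'⟩ := exists_prime_orderOf_dvd_card' (G := NY) 5 (by rw [hyN]; norm_num)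
  set u : G := (u' : G)
  have hu : orderOf u = 5 := by rw [show u = (u' : G) from rfl, Subgroup.orderOf_coe, hu']
  obtain ⟨c, hc⟩ := exists_int_of_pow_invariant χ.2.isCharacter u (fun k hk => hinv k hk u)
  obtain ⟨hUval, hUsum⟩ := sum_zpowers_prime χ hinv (m := 48964608) Nat.prime_five (by norm_num)
    (by rw [hcard]) hu
  obtain ⟨-, hYsum⟩ := sum_zpowers_prime χ hinv (m := 22256640) (by norm_num : Nat.Prime 11) (by norm_num)
    (by rw [hcard]) hy
  set U := Subgroup.zpowers u with hUdef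
  have hnorm : ∀ a ∈ U, ∀ k ∈ Y, a * k * a⁻¹ ∈ Y := fun a ha k hk =>
    (Subgroup.mem_normalizer_iff.1 ((Subgroup.zpowers_le.2 u'.2) ha) k).1 hk
  set B := normProd U Y hnorm
  have hdisj : ∀ a ∈ U, a ∈ Y → a = 1 := by
    intro a ha ha'
    refine orderOf_eq_one_iff.1 (Nat.dvd_one.1 ?_)
    have h1 := orderOf_dvd_of_mem_zpowers ha
    have h2 := orderOf_dvd_of_mem_zpowers ha'
    rw [hu] at h1
    rw [hy] at h2
    exact (Nat.dvd_gcd h1 h2).trans (by norm_num)
  let f : U × Y → B := fun q => ⟨(q.1 : G) * q.2, q.1, q.1.2, by rw [inv_mul_cancel_left]; exact q.2.2⟩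
  have hf : Function.Bijective f := by
    constructor
    · rintro ⟨a, k⟩ ⟨a', k'⟩ e
      have e' : (a : G) * k = a' * k' := congrArg Subtype.val e
      have h : (a' : G)⁻¹ * a = k' * (k : G)⁻¹ := by
        rw [eq_mul_inv_iff_mul_eq, mul_assoc, e', inv_mul_cancel_left]
      have := hdisj _ (mul_mem (inv_mem a'.2) a.2) (h ▸ mul_mem k'.2 (inv_mem k.2))
      have ha : (a : G) = a' := (inv_mul_eq_one.1 this).symm
      rw [ha, mul_right_inj] at e'
      exact Prod.ext (Subtype.ext ha) (Subtype.ext e')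
    · rintro ⟨g, a, ha, hg⟩
      exact ⟨(⟨a, ha⟩, ⟨a⁻¹ * g, hg⟩), Subtype.ext (mul_inv_cancel_left a g)⟩
  have hB55 : Nat.card B = 55 := by
    rw [← Nat.card_eq_of_bijective f hf, Nat.card_prod, Nat.card_zpowers, Nat.card_zpowers, hu, hy]
  have hsY : ∑ k : Y, (χ : G → ℂ) k = ((Nat.card Y * 3 : ℕ) : ℂ) := by
    rw [hYsum, hval11 y hy, hχ, Nat.card_zpowers, hy]
    norm_num
  have hcoset : ∀ a : U, a ≠ 1 → ∑ k : Y, (χ : G → ℂ) ((a : G) * k) = 11 * (c : ℂ) := by
    intro a ha
    have ha' : (a : G) ≠ 1 := fun e => ha (Subtype.ext e)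
    have hfix : ∀ k ∈ Y, (a : G) * k = k * a → k = 1 := by
      intro k hk hcomm
      by_contra hk1
      have hk11 : orderOf k = 11 := by
        have hd := orderOf_dvd_of_mem_zpowers hk
        rw [hy] at hd
        exact ((Nat.dvd_prime (by norm_num)).1 hd).resolve_left fun e => hk1 (orderOf_eq_one_iff.1 e)
      have : (a : G) ∈ Subgroup.zpowers k := by
        rw [← (h11 k hk11).1, Subgroup.mem_centralizer_singleton_iff]
        exact hcomm
      exact ha' (hdisj _ a.2 ((Subgroup.zpowers_le.2 hk) this))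
    have hn : ∀ k : Y, (a : G)⁻¹ * (k : G)⁻¹ * a * k ∈ Y := fun k => by
      refine mul_mem ?_ k.2
      have := hnorm _ (inv_mem a.2) _ (inv_mem k.2)
      rwa [inv_inv] at this
    have hinj : Function.Injective fun k : Y => (⟨(a : G)⁻¹ * (k : G)⁻¹ * a * k, hn k⟩ : Y) := by
      intro s t e
      have e' : (a : G)⁻¹ * (s : G)⁻¹ * a * s = (a : G)⁻¹ * (t : G)⁻¹ * a * t := congrArg Subtype.val e
      apply Subtype.ext
      refine mul_inv_eq_one.1 (hfix _ (mul_mem s.2 (inv_mem t.2)) ?_)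
      calc (a : G) * ((s : G) * (t : G)⁻¹) = (s : G) * a * ((a : G)⁻¹ * (s : G)⁻¹ * a * s) * (t : G)⁻¹ := by group
        _ = (s : G) * a * ((a : G)⁻¹ * (t : G)⁻¹ * a * t) * (t : G)⁻¹ := by rw [e']
        _ = (s : G) * (t : G)⁻¹ * a := by group
    rw [← (Finite.injective_iff_bijective.1 hinj).sum_comp fun k : Y => (χ : G → ℂ) ((a : G) * k)]
    have hv : ∀ k : Y, (χ : G → ℂ) ((a : G) * ((a : G)⁻¹ * (k : G)⁻¹ * a * k)) = c := by
      intro k
      rw [show (a : G) * ((a : G)⁻¹ * (k : G)⁻¹ * a * k) = (k : G)⁻¹ * a * (k : G)⁻¹⁻¹ by group,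
        χ.2.isClassFunction, hUval a a.2 ha', hc]
    simp only [hv, Finset.sum_const, Finset.card_univ, nsmul_eq_mul, ← Nat.card_eq_fintype_card,
      Nat.card_zpowers, hy, hYdef]
    norm_num
  obtain ⟨b, hb⟩ := exists_nat_sum χ B
  have hb' : (33 : ℤ) + 44 * c = 55 * b := by
    have hB : ∑ g : B, (χ : G → ℂ) g = 33 + 44 * (c : ℂ) := by
      rw [← hf.sum_comp fun g : B => (χ : G → ℂ) g, Fintype.sum_prod_type,
        Fintype.sum_eq_add_sum_compl (1 : U), Finset.sum_congr rfl fun a ha => hcoset a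
          (by simpa using ha)]
      simp only [f, OneMemClass.coe_one, one_mul]
      rw [hsY, Finset.sum_const, Finset.card_compl, Finset.card_singleton, ← Nat.card_eq_fintype_card,
        Nat.card_zpowers, Nat.card_zpowers, hu, hy, nsmul_eq_mul]
      norm_num
      ring
    rw [hB, hB55] at hb
    have : ((33 + 44 * c : ℤ) : ℂ) = ((55 * b : ℤ) : ℂ) := by push_cast at hb ⊢; exact hb
    exact_mod_cast this
  have hb3 : 3 ≤ b := by omega
  have hYA : Y ≤ A := Subgroup.zpowers_le.2 y'.2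
  have hYB : Y ≤ B := fun k hk => ⟨1, one_mem _, by rwa [inv_one, one_mul]⟩
  have hprop := sup_ne_top hne A B Y hYA hYB hsA hb hsY (by omega)
  set H := A ⊔ B with hH
  have hAH : A ≤ H := le_sup_left
  have hBH : B ≤ H := le_sup_right
  obtain ⟨k, hk⟩ : 253 ∣ Nat.card H := hxN ▸ Subgroup.card_dvd_of_le hAH
  have hkN : k ∣ 967680 := by
    have h := Subgroup.card_subgroup_dvd_card H
    rw [hk, hcard] at h
    exact Nat.dvd_of_mul_dvd_mul_left (by norm_num : 0 < 253) h
  obtain ⟨h23a, h23⟩ := index_modEq_one (p := 23) (by rw [hcard]; norm_num) hx H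
    (hAH (Subgroup.le_normalizer (Subgroup.mem_zpowers x))) (n := 253) (by
      rw [inf_eq_left.2 hAH, hxN])
  rw [hk, Nat.mul_div_cancel_left _ (by norm_num : 0 < 253)] at h23
  have h5 : 5 ∣ k := by
    have h55 : 55 ∣ 253 * k := hk ▸ hB55 ▸ Subgroup.card_dvd_of_le hBH
    omega
  have hBN : B ≤ NY := fun g ⟨a, ha, hg⟩ => by
    have := mul_mem ((Subgroup.zpowers_le.2 u'.2) ha) (Subgroup.le_normalizer hg)
    rwa [mul_inv_cancel_left] at this
  set n := Nat.card ↥(NY ⊓ H) with hn
  have hn55 : 55 ∣ n := hB55 ▸ Subgroup.card_dvd_of_le (le_inf hBN hBH)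
  have hn110 : n ∣ 110 := hyN ▸ Subgroup.card_dvd_of_le inf_le_left
  obtain ⟨hnd, h11'⟩ := index_modEq_one (p := 11) (by rw [hcard]; norm_num) hy H (hBH (hYB (Subgroup.mem_zpowers y)))
    hn.symm
  have hn2 : n = 55 ∨ n = 110 := by
    obtain ⟨m, hm⟩ := hn55
    rw [hm, show 110 = 55 * 2 from rfl] at hn110
    have := Nat.le_of_dvd (by norm_num) (Nat.dvd_of_mul_dvd_mul_left (by norm_num : 0 < 55) hn110)
    have : 0 < m := Nat.pos_of_ne_zero fun e => Nat.card_pos.ne' (hn ▸ e ▸ hm)
    omega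
  obtain ⟨a, ha, b', hb'', c', hc', d, hd, hkeq⟩ := card_eq_mul k hkN
  have hcases := k_cases a ha b' hb'' c' hc' d hd
  rw [← hkeq] at hcases
  refine ⟨H, ?_⟩
  have hidx := H.card_mul_index
  rw [hk, hcard] at hidx
  have hor : 253 * k / 55 % 11 = 1 ∨ 253 * k / 110 % 11 = 1 := by
    rcases hn2 with e | e <;> rw [e, hk] at h11'
    · exact Or.inl h11'
    · exact Or.inr h11'
  have h5' : k % 5 = 0 := Nat.mod_eq_zero_of_dvd h5
  have hor' : k = 40320 ∨ k = 967680 := by
    rcases hor with e' | e' <;>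
      simpa [kOk, h23, h5', e'] using hcases
  rcases hor' with e | e
  · rw [e] at hidx; omega
  · refine absurd (Subgroup.card_eq_iff_eq_top H |>.1 ?_) hprop
    rw [hk, hcard, e]

/-- Recognition of M24 by the normalisers at 23 and 11 and a single character of degree 23. -/
theorem iso_of_degree {x : G} (hx : orderOf x = 23)
    (hxC : Subgroup.centralizer ({x} : Set G) = Subgroup.zpowers x)
    (hxN : Nat.card (Subgroup.normalizer ((Subgroup.zpowers x : Subgroup G) : Set G)) = 253)
    (h11 : ∀ y : G, orderOf y = 11 → Subgroup.centralizer ({y} : Set G) = Subgroup.zpowers y ∧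
      Nat.card (Subgroup.normalizer ((Subgroup.zpowers y : Subgroup G) : Set G)) = 110)
    {χ : IrrCharacter G} (hχ : deg χ = 23) (huniq : ∀ ψ : IrrCharacter G, deg ψ = 23 → ψ = χ) :
    Nonempty (G ≃* Cfsg.M24) := by
  obtain ⟨H, hH⟩ := exists_index_eq hcard hx hxC hxN h11 hχ huniq
  exact iso_of_index_eq hcard hH

end Cfsg.Lib.MTwentyFour
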