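import Cfsg.Agent.Lib.MTwentyFour.CensusCheck
import Cfsg.Agent.Lib.MTwentyFour.Counts
import Cfsg.Agent.Lib.MTwentyFour.Degrees
import Cfsg.Agent.Lib.MTwentyFour.Index
import Cfsg.Agent.Lib.NseMathieu.Mathieu
import Cfsg.Agent.Lib.Order175560.Local

/-!
A group with the order and the element-order counts of M24 is isomorphic to it.
-/

set_option autoImplicit false
set_option linter.style.haveILetI false
set_option linter.unusedSectionVars false
set_option maxHeartbeats 4000000

namespace Cfsg.Lib.MTwentyFour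

open Cfsg Cfsg.Lib.NseMathieu Cfsg.Lib.MathieuBlock Cfsg.Lib.Concrete

universe u

local notation "C[" P "]" => Subgroup.centralizer (SetLike.coe P)

def cnt23 : List (ℕ × ℕ) := [(1, 1), (23, 22)]
def cnt11 : List (ℕ × ℕ) := [(1, 1), (11, 10)]
def cnt7' : List (ℕ × ℕ) := [(1, 1), (2, 3), (3, 2), (7, 6), (14, 18), (21, 12)]
def cnt5' : List (ℕ × ℕ) := [(1, 1), (2, 3), (3, 8), (5, 4), (10, 12), (15, 32)]

/-- The table entry at an order. -/
def resid (cnt : List (ℕ × ℕ)) (n : ℕ) : ℕ := ((cnt.find? fun e => Nat.beq e.1 n).map Prod.snd).getD 0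

theorem resid_cases (cnt : List (ℕ × ℕ)) (n : ℕ) :
    resid cnt n = 0 ∨ ∃ e ∈ cnt, n = e.1 ∧ resid cnt n = e.2 := by
  unfold resid
  cases h : cnt.find? fun e => Nat.beq e.1 n with
  | none => exact Or.inl rfl
  | some e => exact Or.inr ⟨e, List.mem_of_find?_eq_some h,
      (Nat.eq_of_beq_eq_true (by simpa using List.find?_some h)).symm, rfl⟩

theorem m24_census {p : ℕ} [hp : Fact p.Prime] {c : NormCert} (hc : c.Good) (hr : c.r = p)
    {cnt : List (ℕ × ℕ)} (h : censusCheck c cnt = true) :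
    (∃ y : M24, orderOf y = p ∧
      Nat.card (Subgroup.normalizer ((Subgroup.zpowers y : Subgroup M24) : Set M24)) = c.n) ∧
    ∀ n, ordCount M24 n % p = resid cnt n % p := by
  subst hr
  obtain ⟨x, hx, hxn, h0, h1⟩ := census_sound hc h
  refine ⟨⟨x, hx, hxn⟩, fun n => ?_⟩
  refine Eq.trans (ordCount_modEq hx n) ?_
  unfold resid
  cases he : cnt.find? fun e => Nat.beq e.1 n with
  | none =>
    rw [h0 n fun e hem e' => by
      have := List.find?_eq_none.1 he e hem
      rw [e', Nat.beq_refl] at this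
      exact this rfl]
    rfl
  | some e =>
    have hen : e.1 = n := Nat.eq_of_beq_eq_true (by simpa using List.find?_some he)
    rw [← hen, h1 e (List.mem_of_find?_eq_some he)]
    rfl

variable {G : Type u} [Group G] [Finite G]

/-- Every count is zero or a count of M24. -/
def Transfer (G : Type u) [Group G] : Prop := ∀ n, ordCount G n = 0 ∨ ∃ k, ordCount G n = ordCount M24 k

theorem transfer_of_nse (h : nse G = nse M24) : Transfer G := fun n => by
  rcases Nat.eq_zero_or_pos (ordCount G n) with h0 | h0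
  · exact Or.inl h0
  · obtain ⟨-, k, hk⟩ := (h ▸ ⟨h0, n, rfl⟩ : ordCount G n ∈ nse M24)
    exact Or.inr ⟨k, hk⟩

variable (hcard : Nat.card G = 244823040) (ht : Transfer G)

include hcard ht in
theorem prime_data {p : ℕ} [hp : Fact p.Prime] {c : NormCert} (hc : c.Good) (hr : c.r = p)
    {cnt : List (ℕ × ℕ)} (h : censusCheck c cnt = true) (hd : p ∣ 244823040) (hnd : ¬ p * p ∣ 244823040)
    (hkey : ∀ e ∈ cnt, e.2 % p = p - 1 → e.1 = p) :
    ordCount G p = ordCount M24 p ∧ ∀ z : G, orderOf z = p →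
      Nat.card (Subgroup.normalizer ((Subgroup.zpowers z : Subgroup G) : Set G)) = c.n := by
  obtain ⟨⟨y, hy, hyn⟩, hres⟩ := m24_census hc hr h
  obtain ⟨z₀, hz₀⟩ := exists_prime_orderOf_dvd_card' (G := G) p (hcard ▸ hd)
  have hpos : 0 < ordCount G p := ordCount_pos (hcard ▸ hd)
  have h1 : ordCount G p % p = p - 1 := Eq.trans (count_prime (hcard ▸ hnd) hz₀)
    (Nat.mod_eq_of_lt (Nat.sub_lt hp.1.pos one_pos))
  have heq : ordCount G p = ordCount M24 p := by
    rcases ht p with h0 | ⟨k, hk⟩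
    · omega
    rw [hk] at h1 ⊢
    rw [hres k] at h1
    rcases resid_cases cnt k with h0 | ⟨e, he, hke, hke'⟩
    · rw [h0, Nat.zero_mod] at h1
      have := hp.1.two_le
      omega
    · rw [hke' ] at h1
      rw [hke, hkey e he h1]
  refine ⟨heq, fun z hz => ?_⟩
  have h2 := ordCount_eq (hcard ▸ hnd : ¬ p * p ∣ Nat.card G) hz
  have h3 := ordCount_eq (card_M24 ▸ hnd : ¬ p * p ∣ Nat.card M24) hy
  rw [hyn, ← heq, card_M24, ← hcard, ← h2] at h3
  exact (Nat.eq_of_mul_eq_mul_left hpos h3).symm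

theorem two_not_dvd_ordCount_two (h : 2 ∣ Nat.card G) : ¬ 2 ∣ ordCount G 2 := by
  intro h2
  have hs := sum_ordCount (G := G)
  have h1 : 1 ∈ (Nat.card G).divisors := Nat.one_mem_divisors.2 Nat.card_pos.ne'
  rw [← Finset.add_sum_erase _ _ h1, ordCount_one] at hs
  have : 2 ∣ ∑ d ∈ (Nat.card G).divisors.erase 1, ordCount G d := Finset.dvd_sum fun d hd => by
    obtain ⟨hd1, hd'⟩ := Finset.mem_erase.1 hd
    have := Nat.pos_of_mem_divisors hd'
    rcases eq_or_ne d 2 with rfl | hd2
    · exact h2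
    · exact two_dvd_ordCount (by omega)
  omega

theorem ordCount_of_prime_card {q : ℕ} [hq : Fact q.Prime] (h : Nat.card G = q) : ordCount G q = q - 1 := by
  haveI := isCyclic_of_prime_card h
  refine ordCount_of_comm (fun hh => ?_) (dvd_of_eq h.symm) fun a b => IsCyclic.commGroup.mul_comm a b
  have := Nat.le_of_dvd hq.1.pos (h ▸ hh : q * q ∣ q)
  nlinarith [hq.1.two_le]

theorem exists_sylow {p : ℕ} [Fact p.Prime] (hd : p ∣ Nat.card G) (hnd : ¬ p * p ∣ Nat.card G) :
    ∃ (z : G) (P : Sylow p G), orderOf z = p ∧ (P : Subgroup G) = Subgroup.zpowers z := by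
  obtain ⟨z, hz⟩ := exists_prime_orderOf_dvd_card' (G := G) p hd
  obtain ⟨P, hP⟩ := Small.exists_sylow_eq_zpowers (fun P => Order175560.sylow_card_eq hd hnd P) hz
  exact ⟨z, P, hz, hP⟩

/-- A group with the order and counts of M24 is isomorphic to it. -/
theorem iso_of_transfer [IsSimpleGroup G] (hcard : Nat.card G = 244823040) (ht : Transfer G) :
    Nonempty (G ≃* M24) := by
  classical
  haveI h23 : Fact (Nat.Prime 23) := ⟨by norm_num⟩
  haveI h11 : Fact (Nat.Prime 11) := ⟨by norm_num⟩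
  haveI h7 : Fact (Nat.Prime 7) := ⟨by norm_num⟩
  haveI h5 : Fact (Nat.Prime 5) := ⟨by norm_num⟩
  haveI : Fact (Nat.Prime 2) := ⟨Nat.prime_two⟩
  haveI : Fact (Nat.Prime 3) := ⟨Nat.prime_three⟩
  have hne : ∀ {p : ℕ}, p ≤ 23 → Nat.card G ≠ p := fun {p} hp => by rw [hcard]; omega
  have hdiv : ∀ {p : ℕ}, p ∣ 244823040 → p ∣ Nat.card G := fun {p} h => hcard ▸ h
  have hsq : ∀ {p : ℕ}, ¬ p * p ∣ 244823040 → ¬ p * p ∣ Nat.card G := fun {p} h => hcard ▸ h
  obtain ⟨-, r23⟩ := m24_census m24Good23 rfl census_twentythree (p := 23)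
  obtain ⟨-, r11⟩ := m24_census m24Good11 rfl census_eleven (p := 11)
  obtain ⟨-, r7⟩ := m24_census m24Good7 rfl census_seven (p := 7)
  obtain ⟨-, r5⟩ := m24_census m24Good5 rfl census_five (p := 5)
  obtain ⟨-, n23⟩ := prime_data hcard ht m24Good23 rfl census_twentythree (p := 23) (by norm_num) (by norm_num)
    (by decide)
  obtain ⟨-, n11⟩ := prime_data hcard ht m24Good11 rfl census_eleven (p := 11) (by norm_num) (by norm_num)
    (by decide)
  obtain ⟨-, n7⟩ := prime_data hcard ht m24Good7 rfl census_seven (p := 7) (by norm_num) (by norm_num)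
    (by decide)
  obtain ⟨e5, n5⟩ := prime_data hcard ht m24Good5 rfl census_five (p := 5) (by norm_num) (by norm_num)
    (by decide)
  have hcomp : ¬ (Nat.card G).Prime := by rw [hcard]; norm_num
  -- involutions
  have e2 : ordCount G 2 = ordCount M24 2 := by
    have hodd := two_not_dvd_ordCount_two (hdiv (p := 2) (by norm_num))
    have hne1 := ordCount_two_ne_one hcomp
    rcases ht 2 with h0 | ⟨k, hk⟩
    · exact absurd (h0 ▸ dvd_zero 2) hodd
    rcases Nat.lt_or_ge k 3 with hk3 | hk3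
    · interval_cases k
      · have : ordCount M24 0 = 0 := by
          haveI : IsEmpty {g : M24 // orderOf g = 0} := ⟨fun g => (orderOf_pos g.1).ne' g.2⟩
          exact Nat.card_of_isEmpty
        omega
      · rw [ordCount_one] at hk; exact absurd hk hne1
      · exact hk
    · exact absurd (hk ▸ two_dvd_ordCount hk3) hodd
  -- the prime 23
  have d23 : ∀ (z : G) (P : Sylow 23 G), orderOf z = 23 → (P : Subgroup G) = Subgroup.zpowers z →
      Nat.card C[(P : Subgroup G)] = 23 ∧
        (C[(P : Subgroup G)]).relIndex (Subgroup.normalizer ((P : Subgroup G) : Set G)) = 11 := by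
    intro z P hz hP
    obtain ⟨v, e, hv, he, hve, hed, he1, -⟩ :=
      local_data (hsq (by norm_num)) hz P hP (hne le_rfl) (n := 11) (n23 z hz)
    have : e ∣ 11 := hve ▸ dvd_mul_left e v
    rcases (Nat.dvd_prime (by norm_num)).1 this with rfl | rfl
    · omega
    · exact ⟨by rw [hv]; omega, he⟩
  -- the prime 11
  have d11 : ∀ (z : G) (P : Sylow 11 G), orderOf z = 11 → (P : Subgroup G) = Subgroup.zpowers z →
      Nat.card C[(P : Subgroup G)] = 11 ∧
        (C[(P : Subgroup G)]).relIndex (Subgroup.normalizer ((P : Subgroup G) : Set G)) = 10 := by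
    intro z P hz hP
    obtain ⟨v, e, hv, he, hve, hed, he1, hV⟩ :=
      local_data (hsq (by norm_num)) hz P hP (hne (by norm_num)) (n := 10) (n11 z hz)
    have hle := Nat.le_of_dvd (by norm_num) hed
    interval_cases e <;> norm_num at hed
    · exfalso
      have hv5 : v = 5 := by omega
      have h := ordCount_modEq_quot (hsq (by norm_num)) hz P hP (k := 5) (by norm_num)
      rw [ordCount_of_prime_card (hV.trans hv5), Nat.ModEq, e5, r11 5] at h
      exact absurd h (by decide)
    · exfalso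
      have hv2 : v = 2 := by omega
      have h := ordCount_modEq_quot (hsq (by norm_num)) hz P hP (k := 2) (by norm_num)
      rw [ordCount_of_prime_card (hV.trans hv2), Nat.ModEq, e2, r11 2] at h
      exact absurd h (by decide)
    · exact ⟨by rw [hv]; omega, he⟩
  -- the prime 7
  obtain ⟨z₇, P₇, hz₇, hP₇⟩ := exists_sylow (p := 7) (hdiv (by norm_num)) (hsq (by norm_num))
  obtain ⟨v, e, hv, he₇, hve, hed, he1, hV⟩ :=
    local_data (hsq (by norm_num)) hz₇ P₇ hP₇ (hne (by norm_num)) (n := 18) (n7 z₇ hz₇)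
  have hn2 : ordCount (C[(P₇ : Subgroup G)] ⧸ coreC P₇) 2 % 7 = 3 := by
    rw [← ordCount_modEq_quot (hsq (by norm_num)) hz₇ P₇ hP₇ (k := 2) (by norm_num), e2, r7 2]
    decide
  have hv6 : v = 6 ∧ e = 3 := by
    have h2v : 2 ∣ v := by
      by_contra h
      rw [ordCount_eq_zero (hV.symm ▸ h)] at hn2
      omega
    have hle := Nat.le_of_dvd (by norm_num) hed
    interval_cases e <;> norm_num at hed <;> omega
  obtain ⟨rfl, rfl⟩ := hv6
  have hC₇ : Nat.card C[(P₇ : Subgroup G)] = 42 := hv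
  have hnc₇ : ¬ ∀ a b : C[(P₇ : Subgroup G)] ⧸ coreC P₇, a * b = b * a := fun hc => by
    rw [ordCount_of_comm (p := 2) (by rw [hV]; norm_num) (by rw [hV]; norm_num) hc] at hn2
    omega
  have hz7five : ∀ k, ordCount G (5 * k) % 7 = 0 := by
    intro k
    rw [ordCount_modEq hz₇ (5 * k)]
    haveI : IsEmpty {g : G // orderOf g = 5 * k ∧ Commute z₇ g} := ⟨fun g => by
      have h := Subgroup.orderOf_dvd_natCard _ ((mem_centralizer_sylow P₇ hP₇).2 g.2.2)
      rw [g.2.1, hC₇] at h
      exact absurd ((dvd_mul_right 5 k).trans h) (by norm_num)⟩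
    rw [Nat.card_of_isEmpty]
  -- the prime 5
  obtain ⟨z₅, P₅, hz₅, hP₅⟩ := exists_sylow (p := 5) (hdiv (by norm_num)) (hsq (by norm_num))
  obtain ⟨v, e, hv₅, he₅, hve₅, hed₅, he1₅, hV₅⟩ :=
    local_data (hsq (by norm_num)) hz₅ P₅ hP₅ (hne (by norm_num)) (n := 48) (n5 z₅ hz₅)
  set V := C[(P₅ : Subgroup G)] ⧸ coreC P₅
  have hset : ∀ k, 2 ≤ k → k.Coprime 5 → ordCount V k % 5 = 0 ∨ ordCount V k % 5 = 3 := by
    intro k hk hk5
    have h1 : ordCount G k % 5 = ordCount V k % 5 :=
      ordCount_modEq_quot (hsq (by norm_num)) hz₅ P₅ hP₅ hk5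
    have h2 : ordCount G (5 * k) % 5 = (5 - 1) * ordCount V k % 5 :=
      ordCount_mul_modEq_quot (hsq (by norm_num)) hz₅ P₅ hP₅ hk5
    have h3 := hz7five k
    have hne1 : ordCount V k % 5 ≠ 1 := by
      intro h
      rw [h] at h1
      rcases ht k with h0 | ⟨m, hm⟩
      · omega
      rw [hm, r5 m] at h1
      rcases resid_cases cnt5' m with h0 | ⟨e', he', hme, hme'⟩
      · exact absurd ((congrArg (· % 5) h0).symm.trans h1) (by norm_num)
      · have hm1 : m = 1 := by
          have hall : ∀ e ∈ cnt5', e.2 % 5 = 1 → e.1 = 1 := by decide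
          exact hme.trans (hall e' he' ((congrArg (· % 5) hme').symm.trans h1))
        rw [hm1, ordCount_one] at hm
        rcases eq_or_lt_of_le hk with rfl | hk3
        · exact ordCount_two_ne_one hcomp hm
        · exact absurd (hm ▸ two_dvd_ordCount (G := G) (n := k) hk3) (by norm_num)
    have h4 : ordCount V k % 5 = 0 ∨ ordCount V k % 5 = 1 ∨ ordCount V k % 5 = 3 := by
      rcases ht (5 * k) with h0 | ⟨m, hm⟩
      · omega
      rw [hm, r5 m] at h2
      rw [hm, r7 m] at h3
      have h2' : resid cnt5' m % 5 = (5 - 1) * ordCount V k % 5 := h2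
      have h3' : resid cnt7' m % 7 = 0 := h3
      rcases resid_cases cnt5' m with h0 | ⟨e', he', rfl, hme'⟩
      · rw [h0] at h2'; omega
      · have hall : ∀ e ∈ cnt5', resid cnt7' e.1 % 7 = 0 → e.2 % 5 = 4 ∨ e.2 % 5 = 2 := by decide
        have := hall e' he' h3'
        rw [hme'] at h2'
        omega
    omega
  have hb2 : ordCount V 2 % 5 = 3 := by
    rw [← ordCount_modEq_quot (hsq (by norm_num)) hz₅ P₅ hP₅ (k := 2) (by norm_num), e2, r5 2]
    decide
  have hV3 : ∀ w, Nat.card V = w → w ∈ [12, 24] → ordCount V 3 = 8 := by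
    intro w hw hmem
    have hd3 : 3 ∣ Nat.card V := by simp at hmem; rcases hmem with rfl | rfl <;> rw [hw] <;> norm_num
    have hnd3 : ¬ 3 * 3 ∣ Nat.card V := by simp at hmem; rcases hmem with rfl | rfl <;> rw [hw] <;> norm_num
    obtain ⟨y, hy⟩ := exists_prime_orderOf_dvd_card' (G := V) 3 hd3
    have hc := count_prime hnd3 hy
    have he := ordCount_eq hnd3 hy
    have hpos := ordCount_pos (G := V) hd3
    have hd : ordCount V 3 ∣ Nat.card V * 2 := ⟨_, he.symm⟩
    have h35 := hset 3 (by norm_num) (by norm_num)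
    rw [hw] at hd
    have hle := Nat.le_of_dvd (by simp at hmem; omega) hd
    simp only [Nat.ModEq] at hc
    simp at hmem
    rcases hmem with rfl | rfl <;> (generalize ordCount V 3 = a at *; interval_cases a <;> omega)
  have hsum := sum_ordCount (G := V)
  have hev := fun (d : ℕ) (hd : 3 ≤ d) => two_dvd_ordCount (G := V) hd
  have hv12 : v = 12 ∧ e = 4 := by
    have hle := Nat.le_of_dvd (by norm_num) hed₅
    interval_cases e <;> norm_num at hed₅
    · exfalso
      have hv24 : v = 24 := by omega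
      have h3 := hV3 24 (hV₅.trans hv24) (by simp)
      rw [hV₅, hv24, show Nat.divisors 24 = {1, 2, 3, 4, 6, 8, 12, 24} by decide] at hsum
      simp [ordCount_one, h3] at hsum
      have a4 := hset 4 (by norm_num) (by norm_num)
      have a6 := hset 6 (by norm_num) (by norm_num)
      have a8 := hset 8 (by norm_num) (by norm_num)
      have a12 := hset 12 (by norm_num) (by norm_num)
      have a24 := hset 24 (by norm_num) (by norm_num)
      have b4 := hev 4 (by norm_num)
      have b6 := hev 6 (by norm_num)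
      have b8 := hev 8 (by norm_num)
      have b12 := hev 12 (by norm_num)
      have b24 := hev 24 (by norm_num)
      omega
    · exact ⟨by omega, rfl⟩
  obtain ⟨rfl, rfl⟩ := hv12
  have h38 := hV3 12 hV₅ (by simp)
  have hV9 : ¬ 3 * 3 ∣ Nat.card V := by rw [hV₅]; norm_num
  have hnc₅ : ¬ ∀ a b : V, a * b = b * a := fun hc => by
    rw [ordCount_of_comm hV9 (by rw [hV₅]; norm_num) hc] at h38
    omega
  have h4 : (commutator V).index ≠ 4 := fun h => by
    have hc := Subgroup.card_mul_index (commutator V)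
    rw [h, hV₅] at hc
    obtain ⟨⟨y, hym⟩, hy⟩ := exists_prime_orderOf_dvd_card' (G := commutator V) 3 ⟨1, by omega⟩
    rw [Subgroup.orderOf_mk] at hy
    have heq : Subgroup.zpowers y = commutator V :=
      Subgroup.eq_of_le_of_card_ge (Subgroup.zpowers_le.2 hym) (by rw [Nat.card_zpowers, hy]; omega)
    rw [ordCount_of_normal hV9 hy (heq ▸ inferInstance)] at h38
    omega
  -- conclusion
  obtain ⟨z₂₃, P₂₃, hz₂₃, hP₂₃⟩ := exists_sylow (p := 23) (hdiv (by norm_num)) (hsq (by norm_num))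
  obtain ⟨z₁₁, P₁₁, hz₁₁, hP₁₁⟩ := exists_sylow (p := 11) (hdiv (by norm_num)) (hsq (by norm_num))
  obtain ⟨c23, i23⟩ := d23 z₂₃ P₂₃ hz₂₃ hP₂₃
  obtain ⟨c11, i11⟩ := d11 z₁₁ P₁₁ hz₁₁ hP₁₁
  cases nonempty_fintype G
  obtain ⟨χ, hχ, huniq⟩ := exists_unique_degree hcard P₂₃ c23 i23 P₁₁ c11 i11 P₇ hC₇ he₇ hnc₇ P₅ hv₅ he₅ hnc₅ h4
  have hcent : ∀ {p : ℕ} [Fact p.Prime] (z : G) (P : Sylow p G), orderOf z = p →
      (P : Subgroup G) = Subgroup.zpowers z → Nat.card C[(P : Subgroup G)] = p →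
      Subgroup.centralizer ({z} : Set G) = Subgroup.zpowers z := by
    intro p _ z P hz hP hc
    have hPC : (P : Subgroup G) = C[(P : Subgroup G)] := by
      refine Subgroup.eq_of_le_of_card_ge (fun g hg => (mem_centralizer_sylow P hP).2 ?_) ?_
      · rw [hP] at hg
        obtain ⟨k, rfl⟩ := Subgroup.mem_zpowers_iff.1 hg
        exact (Commute.refl z).zpow_right k
      · rw [hc, hP, Nat.card_zpowers, hz]
    rw [← Small.centralizer_zpowers, ← hP]
    exact hPC.symm
  refine iso_of_degree hcard hz₂₃ (hcent z₂₃ P₂₃ hz₂₃ hP₂₃ c23) (n23 z₂₃ hz₂₃) (fun y hy => ?_) hχ huniq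
  obtain ⟨P, hP⟩ := Small.exists_sylow_eq_zpowers
    (fun P => Order175560.sylow_card_eq (hdiv (by norm_num)) (hsq (by norm_num)) P) hy
  exact ⟨hcent y P hy hP (d11 y P hy hP).1, n11 y hy⟩

end Cfsg.Lib.MTwentyFour
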