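import Cfsg.Agent.Lib.MathieuBlock.Main
import Cfsg.Agent.Lib.NseMathieu.Basic

/-!
The normalisers of elements of order 5 and 7 in M24 and the element orders in their centralizers.
-/

set_option autoImplicit false
set_option linter.style.haveILetI false
set_option linter.unusedSectionVars false

namespace Cfsg.Lib.MTwentyFour

open Cfsg Cfsg.Lib.Concrete Cfsg.Lib.MathieuBlock Cfsg.Lib.NseMathieu

/-- The listed normaliser. -/
def normL (c : NormCert) : List ℕ :=
  (List.range c.r).flatMap fun k => if Nat.beq k 0 then [] else c.list k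

def fixesAll (p n : ℕ) : Bool := bits24.all fun i => Nat.beq (piter p n i) i

/-- The least positive exponent below 25 killing a packed permutation. -/
def ordP (p : ℕ) : ℕ := ((List.range 25).find? fun n => Nat.ble 1 n && fixesAll p n).getD 0

def allDiff : List ℕ → Bool
  | [] => true
  | a :: l => l.all (fun b => !(bits24.all fun i => Nat.beq (pget a i) (pget b i))) && allDiff l

/-- The checks on the listed normaliser and on the orders in the centralizer. -/
def censusCheck (c : NormCert) (cnt : List (ℕ × ℕ)) : Bool :=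
  let L := normL c
  let C := c.list 1
  Nat.beq c.k0 0 && Nat.beq L.length c.n && allDiff L && allDiff C &&
    (L.all fun p => L.any fun q => elemCheck 0 16777215 p q) &&
    (C.all fun p => !Nat.beq (ordP p) 0 && cnt.any fun e => Nat.beq e.1 (ordP p)) &&
    (cnt.all fun e => Nat.beq (C.countP fun p => Nat.beq (ordP p) e.1) e.2)

theorem allDiff_nodup : ∀ {l : List ℕ}, allDiff l = true → l.Nodup
  | [], _ => List.nodup_nil
  | a :: l, h => by
    rw [allDiff, Bool.and_eq_true, List.all_eq_true] at h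
    refine List.nodup_cons.2 ⟨fun hm => ?_, allDiff_nodup h.2⟩
    have := h.1 a hm
    simp at this

theorem allDiff_ext : ∀ {l : List ℕ}, allDiff l = true → ∀ {p q : ℕ}, p ∈ l → q ∈ l →
    (∀ i < 24, pget p i = pget q i) → p = q
  | [], _, _, _, hp, _, _ => absurd hp List.not_mem_nil
  | a :: l, h, p, q, hp, hq, he => by
    rw [allDiff, Bool.and_eq_true, List.all_eq_true] at h
    have key : ∀ b ∈ l, (∀ i < 24, pget a i = pget b i) → False := fun b hb hab => by
      have h1 := h.1 b hb
      simp only [Bool.not_eq_true', List.all_eq_false, Nat.beq_eq] at h1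
      obtain ⟨i, hi, hne⟩ := h1
      exact hne (hab i (mem_bits24.1 hi))
    rcases List.mem_cons.1 hp with rfl | hp' <;> rcases List.mem_cons.1 hq with rfl | hq'
    · rfl
    · exact (key q hq' he).elim
    · exact (key p hp' fun i hi => (he i hi).symm).elim
    · exact allDiff_ext h.2 hp' hq' he

theorem rep_unique {g : Equiv.Perm GolayPt} {p q : ℕ} (hp : Rep g p) (hq : Rep g q) :
    ∀ i < 24, pget p i = pget q i := fun i hi => by
  rw [← hp.apply ⟨i, hi⟩, ← hq.apply ⟨i, hi⟩]

theorem ordP_eq {g : Equiv.Perm GolayPt} {p : ℕ} (hg : Rep g p) (h0 : ordP p ≠ 0) : orderOf g = ordP p := by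
  have hfix : ∀ n, fixesAll p n = true ↔ g ^ n = 1 := by
    intro n
    simp only [fixesAll, List.all_eq_true, Nat.beq_eq]
    constructor
    · intro h
      exact Equiv.ext fun y => gidx_injective (Fin.ext (by
        rw [piter_eq hg, Equiv.Perm.one_apply]; exact h _ (mem_bits24.2 (gidx y).isLt)))
    · intro h i hi
      have := piter_eq hg n (gpt ⟨i, mem_bits24.1 hi⟩)
      rw [h, Equiv.Perm.one_apply, gidx_gpt] at this
      exact this.symm
  unfold ordP at h0 ⊢
  cases hf : (List.range 25).find? fun n => Nat.ble 1 n && fixesAll p n with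
  | none => rw [hf] at h0; exact absurd rfl h0
  | some n =>
    rw [Option.getD_some]
    have h1 := List.find?_some hf
    simp only [Bool.and_eq_true, hfix, Nat.ble_eq] at h1
    rw [List.find?_range_eq_some] at hf
    refine (orderOf_eq_iff (by omega)).2 ⟨h1.2, fun m hm hm0 hgm => ?_⟩
    have h2 := hf.2.2 m hm
    rw [(hfix m).2 hgm] at h2
    have hb : Nat.ble 1 m = true := by rw [Nat.ble_eq]; omega
    rw [hb] at h2
    exact absurd h2 (by decide)

theorem census_sound {c : NormCert} (hc : c.Good) {cnt : List (ℕ × ℕ)} (h : censusCheck c cnt = true)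
    [Fact c.r.Prime] :
    ∃ x : M24, orderOf x = c.r ∧
      Nat.card (Subgroup.normalizer ((Subgroup.zpowers x : Subgroup M24) : Set M24)) = c.n ∧
      (∀ n, (∀ e ∈ cnt, e.1 ≠ n) → Nat.card {g : M24 // orderOf g = n ∧ Commute x g} = 0) ∧
      ∀ e ∈ cnt, Nat.card {g : M24 // orderOf g = e.1 ∧ Commute x g} = e.2 := by
  classical
  simp only [censusCheck, Bool.and_eq_true, List.all_eq_true, List.any_eq_true, Nat.beq_eq,
    Bool.not_eq_true'] at h
  obtain ⟨⟨⟨⟨⟨⟨hk0, hlen⟩, hnd⟩, hndC⟩, helem⟩, hord⟩, hcnt⟩ := h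
  obtain ⟨x₀, hxM, hxr, hxp, hx1⟩ := exists_x hc
  have hM : ∀ g, g ∈ fixB c.k0 ↔ g ∈ M24 := fun g => by rw [hk0, ← m24_eq_fixB]
  set x : M24 := ⟨x₀, (hM x₀).1 hxM⟩
  have hxo : orderOf x = c.r := by
    rw [← Subgroup.orderOf_coe]; exact orderOf_eq_prime hxp hx1
  have hxpow : x ^ c.r = 1 := Subtype.ext hxp
  have hk1 : x ≠ 1 := fun e => hx1 (congrArg Subtype.val e)
  -- listed elements
  have hback : ∀ k, ∀ p ∈ c.list k, k < c.r → k ≠ 0 → ∃ g : M24, Rep (g : Equiv.Perm GolayPt) p ∧
      g * x * g⁻¹ = x ^ k := by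
    intro k p hp hkr hk
    have hpL : p ∈ normL c :=
      List.mem_flatMap.2 ⟨k, List.mem_range.2 hkr, by rw [if_neg (fun e => hk (Nat.eq_of_beq_eq_true e))]; exact hp⟩
    obtain ⟨q, -, hq⟩ := helem p hpL
    obtain ⟨g, hg, hgr, -⟩ := exists_of_elemCheck (by norm_num) hq
    refine ⟨⟨g, hg.1.1⟩, hgr, ?_⟩
    rw [mul_inv_eq_iff_eq_mul]
    refine Subtype.ext (Equiv.ext fun y => gidx_injective (Fin.ext ?_))
    have h5 := (List.mem_filter.1 hp).2
    simp only [List.all_eq_true, Nat.beq_eq] at h5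
    have h6 := h5 _ (mem_bits24.2 (gidx y).isLt)
    show (gidx (g (x₀ y))).val = (gidx (((x ^ k : M24) : Equiv.Perm GolayPt) (g y))).val
    rw [SubgroupClass.coe_pow, piter_eq hxr, hgr, hxr, hgr]
    exact h6
  have hfwd : ∀ (g : M24) (k : ℕ), k < c.r → g * x * g⁻¹ = x ^ k →
      ∃ p ∈ c.list k, Rep (g : Equiv.Perm GolayPt) p := by
    intro g k hkr hg
    have hgx : ∀ e : ℕ, ∀ y : GolayPt, (gidx ((g : Equiv.Perm GolayPt) ((x₀ ^ e) y))).val =
        piter c.x (k * e % c.r) (gidx ((g : Equiv.Perm GolayPt) y)).val := by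
      intro e y
      have h1 : g * x ^ e * g⁻¹ = x ^ (k * e % c.r) := by
        rw [← conj_pow, hg, ← pow_mul, pow_eq_pow_mod _ hxpow]
      have h2 : g * x ^ e = x ^ (k * e % c.r) * g := by rw [← h1, inv_mul_cancel_right]
      have h3 := congrArg (fun z : M24 => (z : Equiv.Perm GolayPt) y) h2
      simp only [Subgroup.coe_mul, SubgroupClass.coe_pow, Equiv.Perm.mul_apply] at h3
      rw [h3, piter_eq hxr]
    obtain ⟨p, hp, hpr⟩ := exists_mem_enumAll (ok := c.ok k) (fun j _ f f' h => ok_congr hc k j f f' h)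
      g.2 (fun j hj => by
        unfold NormCert.ok
        simp only [Bool.and_eq_true, Bool.or_eq_true, List.all_eq_true]
        refine ⟨Or.inl ?_, fun t ht => ?_⟩
        · rw [hk0]; rfl
        · obtain ⟨h1, h2, h3⟩ := hc.links t ht
          by_cases htj : t.1 = j
          · right
            subst htj
            have e : (x₀ ^ t.2.2) (bp t.2.1) = bp t.1 :=
              gidx_injective (Fin.ext (by rw [piter_eq hxr, gidx_bp' (by omega), h3, gidx_bp' h1]))
            have h4 := hgx t.2.2 (bp t.2.1)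
            rw [e] at h4
            rw [bImg, bImg, h4]
            exact Nat.beq_refl _
          · left; left
            have : Nat.beq t.1 j = false := by
              by_contra hb
              exact htj (Nat.eq_of_beq_eq_true (by simpa using hb))
            simp [this])
    refine ⟨p, List.mem_filter.2 ⟨hp, List.all_eq_true.2 fun i hi => ?_⟩, hpr⟩
    have h5 := hgx 1 (gpt ⟨i, mem_bits24.1 hi⟩)
    rw [pow_one, hpr, hxr.apply, hpr.apply, mul_one, Nat.mod_eq_of_lt hkr] at h5
    rw [h5]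
    exact Nat.beq_refl _
  have hr1 : 1 < c.r := hc.one_lt
  have hne0 : ∀ (g : M24) (k : ℕ), g * x * g⁻¹ = x ^ k → k % c.r ≠ 0 := fun g k hg h => hk1 (by
    rw [pow_eq_pow_mod _ hxpow, h, pow_zero, conj_eq_one_iff] at hg
    exact hg)
  have hLback : ∀ p ∈ normL c, ∃ g : M24, Rep (g : Equiv.Perm GolayPt) p ∧
      g ∈ Subgroup.normalizer ((Subgroup.zpowers x : Subgroup M24) : Set M24) := by
    intro p hp
    obtain ⟨k, hk, hpk⟩ := List.mem_flatMap.1 hp
    rw [List.mem_range] at hk
    by_cases hk0' : k = 0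
    · subst hk0'
      rw [if_pos (show Nat.beq 0 0 = true from rfl)] at hpk
      exact absurd hpk List.not_mem_nil
    rw [if_neg (fun e => hk0' (Nat.eq_of_beq_eq_true e))] at hpk
    obtain ⟨g, hg, hgk⟩ := hback k p hpk hk hk0'
    refine ⟨g, hg, ?_⟩
    have hmap : (Subgroup.zpowers x).map (MulAut.conj g).toMonoidHom = Subgroup.zpowers x := by
      rw [MonoidHom.map_zpowers]
      show Subgroup.zpowers (g * x * g⁻¹) = _
      rw [hgk]
      refine Subgroup.eq_of_le_of_card_ge (Subgroup.zpowers_le.2 (Subgroup.pow_mem _ (Subgroup.mem_zpowers x) k)) ?_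
      rw [Nat.card_zpowers, Nat.card_zpowers, orderOf_pow, hxo,
        Nat.Coprime.gcd_eq_one ((Fact.out : c.r.Prime).coprime_iff_not_dvd.2 fun h => hk0'
          (Nat.eq_zero_of_dvd_of_lt h hk)), Nat.div_one]
    refine Subgroup.mem_normalizer_iff.2 fun w => ⟨fun hw => ?_, fun hw => ?_⟩
    · rw [← hmap]; exact ⟨w, hw, rfl⟩
    · rw [← hmap] at hw
      obtain ⟨v, hv, e⟩ := hw
      rwa [← (MulAut.conj g).injective (e : (MulAut.conj g) v = (MulAut.conj g) w)]
  choose F hF using hLback
  have hinj : Function.Injective (fun p : {p // p ∈ normL c} => (⟨F p.1 p.2, (hF p.1 p.2).2⟩ :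
      Subgroup.normalizer ((Subgroup.zpowers x : Subgroup M24) : Set M24))) := by
    intro p q e
    have e' : F p.1 p.2 = F q.1 q.2 := congrArg Subtype.val e
    have hu := rep_unique (hF p.1 p.2).1 (e' ▸ (hF q.1 q.2).1)
    exact Subtype.ext (allDiff_ext hnd p.2 q.2 hu)
  refine ⟨x, hxo, le_antisymm ?_ ?_, ?_, ?_⟩
  · refine le_trans (Nat.card_le_card_of_injective (β := {g : M24 // ∃ k : ℕ, g * x * g⁻¹ = x ^ k})
      (fun g => ⟨g.1, ?_⟩) fun a b e => by
        have e' := congrArg Subtype.val e; exact Subtype.ext e')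
      (card_norm_le hc M24 (fun g hg => (hM g).2 hg) x hxr hxpow hk1)
    have h := (Subgroup.mem_normalizer_iff.1 g.2 x).1 (Subgroup.mem_zpowers x)
    obtain ⟨k, hk⟩ := mem_powers_iff_mem_zpowers.2 h
    exact ⟨k, hk.symm⟩
  · rw [← hlen, ← (normL c).toFinset_card_of_nodup (allDiff_nodup hnd)]
    refine le_trans (le_of_eq ?_) (Nat.card_le_card_of_injective _ hinj)
    rw [Nat.card_eq_fintype_card, Fintype.card_of_subtype (normL c).toFinset fun p => List.mem_toFinset]
  · intro n hn
    rw [Nat.card_eq_zero]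
    left
    refine ⟨fun g => ?_⟩
    obtain ⟨p, hp, hpr⟩ := hfwd g.1 1 hr1 (by rw [pow_one, g.2.2.symm.eq, mul_inv_cancel_right])
    obtain ⟨h0, e, he, hee⟩ := hord p hp
    refine hn e he ?_
    rw [hee, ← ordP_eq hpr (by intro h; rw [h] at h0; simp at h0), Subgroup.orderOf_coe, g.2.1]
  · intro e he
    rw [← hcnt e he, List.countP_eq_length_filter,
      ← ((c.list 1).filter _).toFinset_card_of_nodup ((allDiff_nodup hndC).filter _)]
    have hz : ∀ p ∈ c.list 1, ordP p ≠ 0 := fun p hp h => by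
      have h0 := (hord p hp).1
      rw [h] at h0
      simp at h0
    have hfw : ∀ g : {g : M24 // orderOf g = e.1 ∧ Commute x g},
        ∃ p ∈ ((c.list 1).filter fun p => Nat.beq (ordP p) e.1).toFinset,
          Rep ((g : M24) : Equiv.Perm GolayPt) p := by
      intro g
      obtain ⟨p, hp, hpr⟩ := hfwd g.1 1 hr1 (by rw [pow_one, g.2.2.symm.eq, mul_inv_cancel_right])
      refine ⟨p, List.mem_toFinset.2 (List.mem_filter.2 ⟨hp, ?_⟩), hpr⟩
      rw [← ordP_eq hpr (hz p hp), Subgroup.orderOf_coe, g.2.1]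
      exact Nat.beq_refl _
    choose A hA hA' using hfw
    have hbj : Function.Bijective
        (fun g => (⟨A g, hA g⟩ : {p // p ∈ ((c.list 1).filter fun p => Nat.beq (ordP p) e.1).toFinset})) := by
      constructor
      · intro a b h
        have h' : A a = A b := congrArg Subtype.val h
        exact Subtype.ext (Subtype.ext ((hA' a).ext (h' ▸ hA' b)))
      · rintro ⟨p, hp⟩
        obtain ⟨hpC, hpe⟩ := List.mem_filter.1 (List.mem_toFinset.1 hp)
        obtain ⟨g, hgr, hgx⟩ := hback 1 p hpC hr1 one_ne_zero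
        rw [pow_one, mul_inv_eq_iff_eq_mul] at hgx
        refine ⟨⟨g, by rw [← Subgroup.orderOf_coe, ordP_eq hgr (hz p hpC)]; exact Nat.eq_of_beq_eq_true hpe,
          hgx.symm⟩, Subtype.ext ?_⟩
        show A _ = p
        set w : {g : M24 // orderOf g = e.1 ∧ Commute x g} :=
          ⟨g, by rw [← Subgroup.orderOf_coe, ordP_eq hgr (hz p hpC)]; exact Nat.eq_of_beq_eq_true hpe, hgx.symm⟩
        obtain ⟨hwC, -⟩ := List.mem_filter.1 (List.mem_toFinset.1 (hA w))
        exact allDiff_ext hndC hwC hpC (rep_unique (hA' w) hgr)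
    rw [Nat.card_eq_of_bijective _ hbj, Nat.card_eq_fintype_card, Fintype.card_coe]

end Cfsg.Lib.MTwentyFour
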