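import Cfsg.Agent.Lib.MTwentyFour.Census

/-!
The kernel checks of the censuses at 7 and 5 in M24.
-/

set_option autoImplicit false

namespace Cfsg.Lib.MTwentyFour

open Cfsg Cfsg.Lib.Concrete Cfsg.Lib.MathieuBlock

theorem census_seven : censusCheck m24Norm7 [(1, 1), (2, 3), (3, 2), (7, 6), (14, 18), (21, 12)] = true := by
  decide +kernel

theorem census_five : censusCheck m24Norm5 [(1, 1), (2, 3), (3, 8), (5, 4), (10, 12), (15, 32)] = true := by
  decide +kernel

theorem census_eleven : censusCheck m24Norm11 [(1, 1), (11, 10)] = true := by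
  decide +kernel

theorem census_twentythree : censusCheck m24Norm23 [(1, 1), (23, 22)] = true := by
  decide +kernel

end Cfsg.Lib.MTwentyFour
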