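import Cfsg.Agent.Lib.MEleven.Basic
import Cfsg.Agent.Lib.MTwentyFour.Roots
import Cfsg.Agent.Lib.MTwentyFour.Search.Sound

/-!
The columns at elements of order 23 and 11, the translation of a block into search data, and the two
sums at an element of order 7.
-/

set_option autoImplicit false
set_option linter.style.haveILetI false
set_option linter.unusedSectionVars false

namespace Cfsg.Lib.MTwentyFour

open Cfsg Cfsg.Lib.Block Cfsg.Lib.MTwentyFour.Search
open scoped ComplexConjugate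

universe u

noncomputable local instance (priority := high) fintypeSubgroupColumns {A : Type u}
    [Group A] [Fintype A] (H : Subgroup A) : Fintype H := Fintype.ofFinite H

local notation "C[" P "]" => Subgroup.centralizer (SetLike.coe P)

variable {p : ℕ} [Fact p.Prime] {G : Type u} [Group G] [Fintype G]

/-- The degree. -/
noncomputable abbrev dg (χ : IrrCharacter G) : ℕ := charDegree (χ : G → ℂ)

theorem pPt_mem_of_cent (P : Sylow p G) (c : C[(P : Subgroup G)]) : pPt p (c : G) ∈ (P : Subgroup G) := by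
  have hc : pPt p (c : G) ∈ C[(P : Subgroup G)] :=
    Subgroup.zpowers_le.2 c.2 (pPt_mem_zpowers (c : G))
  have hN : Subgroup.zpowers (pPt p (c : G)) ≤ Subgroup.normalizer ((P : Subgroup G) : Set G) :=
    Subgroup.zpowers_le.2 (Subgroup.centralizer_le_normalizer _ hc)
  have hpg : IsPGroup p (Subgroup.zpowers (pPt p (c : G))) := by
    obtain ⟨k, hk⟩ := exists_orderOf_pPt (p := p) (c : G)
    exact IsPGroup.of_card (n := k) (by rw [Nat.card_zpowers, hk])
  have hsup := P.3 (hpg.to_sup_of_normal_right' P.2 hN) le_sup_right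
  exact hsup.le (Subgroup.mem_sup_left (Subgroup.mem_zpowers _))

theorem pPt_of_order {z : G} (hz : orderOf z = p) : pPt p z = z :=
  (eq_pPt (p := p) (mul_one z) (Commute.one_right z) (k := 1) (by rw [pow_one, hz])
    (by simp [(Fact.out : p.Prime).ne_one])).symm

section Prime

variable {M : Ideal AlgInt} (hM : IsPModular p M) (P : Sylow p G)

theorem value_zero (hfac : (Nat.card G).factorization p = 1) (χ : IrrCharacter G) (hd : p ∣ dg χ) {g : G}
    (hg : p ∣ orderOf g) : (χ : G → ℂ) g = 0 := by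
  refine MEleven.apply_eq_zero_of_defectZero χ ?_ hg
  have h1 := Nat.Prime.factorization_pos_of_dvd (Fact.out : p.Prime) (Block.charDegree_pos χ).ne' hd
  have h2 := (Nat.factorization_le_iff_dvd (Block.charDegree_pos χ).ne' Nat.card_pos.ne').2
    (Block.charDegree_dvd_card χ) p
  show (dg χ).factorization p = _
  rw [hfac]
  refine le_antisymm ?_ h1
  rw [← hfac]
  exact h2

include hM in
/-- With a self-centralizing Sylow subgroup of order `p` one block holds all degrees prime to `p`. -/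
theorem exists_principal_block (hcard : Nat.card (P : Subgroup G) = p)
    (hC : Nat.card C[(P : Subgroup G)] = p) {e : ℕ}
    (he : (C[(P : Subgroup G)]).relIndex (Subgroup.normalizer ((P : Subgroup G) : Set G)) = e) :
    ∃ R : RootBlock p M (P : Subgroup G) (trivRoot P).1 e 1,
      ∀ χ, χ ∈ R.X ∪ R.Y ↔ ¬ p ∣ dg χ := by
  classical
  have htriv : ∀ θ : TrivOn (P : Subgroup G), θ = trivRoot P := by
    intro θ
    obtain ⟨ψ, rfl⟩ := (rootEquiv P).surjective θ
    rw [← rootEquiv_triv]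
    congr 1
    have hQ : Nat.card (C[(P : Subgroup G)] ⧸ coreC P) = 1 := by
      have h := (coreC P).card_eq_card_quotient_mul_card_subgroup
      rw [Nat.card_congr (Subgroup.subgroupOfEquivOfLe (le_centralizer_self hcard)).toEquiv, hcard, hC] at h
      exact (Nat.mul_eq_right (Fact.out : p.Prime).ne_zero).1 h.symm
    have h := sum_deg_sq (V := C[(P : Subgroup G)] ⧸ coreC P)
    rw [hQ] at h
    by_contra hne
    have := Finset.sum_le_sum_of_subset_of_nonneg
      (f := fun χ : IrrCharacter (C[(P : Subgroup G)] ⧸ coreC P) => charDegree (χ : C[(P : Subgroup G)] ⧸ coreC P → ℂ) ^ 2)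
      (Finset.subset_univ {ψ, trivChar _}) fun _ _ _ => Nat.zero_le _
    rw [h, Finset.sum_pair hne, deg_triv] at this
    have := Block.charDegree_pos ψ
    nlinarith
  obtain ⟨R⟩ := exists_rootBlock_fixed P hcard hM (trivRoot P) (fun g hg => conjRoot_triv P hg) he
  refine ⟨R, fun χ => ⟨fun h => R.not_dvd χ ((R.mem_block χ).2 (Finset.mem_union.1 h)), fun h => ?_⟩⟩
  obtain ⟨θ, hθ⟩ := exists_root hM P hcard h
  rw [htriv θ] at hθ
  exact Finset.mem_union.2 ((R.mem_block χ).1 (mem_block_of_root P hcard hM R hθ))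

end Prime

theorem trivRoot_apply (P : Sylow p G) (c : C[(P : Subgroup G)]) :
    ((trivRoot P).1 : C[(P : Subgroup G)] → ℂ) c = 1 := rfl

theorem deg_trivRoot (P : Sylow p G) :
    charDegree ((trivRoot P).1 : C[(P : Subgroup G)] → ℂ) = 1 := deg_triv

theorem sign_eq_v11 {d : ℕ} {s : ℤ} (hs : s = 1 ∨ s = -1) (h : (d : ℤ) ≡ s [ZMOD 11]) : v11 d = s := by
  rw [Int.modEq_iff_dvd] at h
  rcases hs with rfl | rfl
  · have : d % 11 = 1 := by omega
    simp [v11, this]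
  · have : d % 11 = 10 := by omega
    simp [v11, this]

/-- The column at an element of order 11. -/
theorem column_eleven [Fact (Nat.Prime 11)] (P : Sylow 11 G) (hfac : (Nat.card G).factorization 11 = 1)
    (hcard : Nat.card (P : Subgroup G) = 11) (hC : Nat.card C[(P : Subgroup G)] = 11)
    (he : (C[(P : Subgroup G)]).relIndex (Subgroup.normalizer ((P : Subgroup G) : Set G)) = 10)
    {y : G} (hy : y ∈ (P : Subgroup G)) (hy1 : orderOf y = 11) :
    (∀ χ : IrrCharacter G, (χ : G → ℂ) y = (v11 (dg χ) : ℂ)) ∧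
      (Finset.univ.filter fun χ : IrrCharacter G => ¬ 11 ∣ dg χ).card = 11 ∧
      ∀ χ : IrrCharacter G, dg χ % 11 = 0 ∨ dg χ % 11 = 1 ∨ dg χ % 11 = 10 := by
  classical
  obtain ⟨M, hM⟩ := exists_isPModular (Fact.out : Nat.Prime 11)
  obtain ⟨R, hR⟩ := exists_principal_block hM P hcard hC he
  have hk : pPt 11 y ∈ (P : Subgroup G) := by rw [pPt_of_order hy1]; exact hy
  have hyC : y ∈ C[(P : Subgroup G)] := le_centralizer_self hcard hy
  have hd : (11 : ℕ) ∣ orderOf y := hy1 ▸ dvd_rfl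
  have hX : ∀ χ ∈ R.X, (dg χ : ℤ) ≡ R.s χ [ZMOD 11] := fun χ hχ => by
    have := R.congX χ hχ
    rw [deg_trivRoot] at this
    simpa using this
  have hY : ∀ χ ∈ R.Y, (dg χ : ℤ) ≡ R.t [ZMOD 11] := fun χ hχ => by
    have h := R.congY χ hχ
    rw [deg_trivRoot] at h
    refine h.trans (Int.modEq_iff_dvd.2 ⟨R.t, by push_cast; ring⟩)
  have hcY : R.Y.card = 1 := by rw [R.card_Y]
  refine ⟨fun χ => ?_, ?_, fun χ => ?_⟩
  · by_cases h : 11 ∣ dg χ
    · rw [value_zero hfac χ h hd, v11, if_neg (by simp; omega), if_neg (by simp; omega)]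
      norm_num
    · rcases Finset.mem_union.1 ((hR χ).2 h) with hχ | hχ
      · rw [R.val rfl χ hχ ⟨y, hyC⟩ hk hd, trivRoot_apply, mul_one, sign_eq_v11 (R.sign χ hχ) (hX χ hχ)]
      · obtain ⟨ψ, hψ⟩ := Finset.card_eq_one.1 hcY
        have hs := R.sumY rfl ⟨y, hyC⟩ hk hd
        rw [hψ, Finset.mem_singleton] at hχ
        subst hχ
        rw [hψ, Finset.sum_singleton, trivRoot_apply, mul_one] at hs
        rw [hs, sign_eq_v11 R.sign_t (hY χ (hψ ▸ Finset.mem_singleton_self χ))]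
  · rw [show (Finset.univ.filter fun χ : IrrCharacter G => ¬ 11 ∣ dg χ) = R.X ∪ R.Y by
      ext χ; simp [hR χ], Finset.card_union_of_disjoint R.disj, R.card_X, hcY]
  · by_cases h : 11 ∣ dg χ
    · left; omega
    · right
      rcases Finset.mem_union.1 ((hR χ).2 h) with hχ | hχ
      · have := Int.modEq_iff_dvd.1 (hX χ hχ)
        rcases R.sign χ hχ with e | e <;> rw [e] at this <;> omega
      · have := Int.modEq_iff_dvd.1 (hY χ hχ)
        rcases R.sign_t with e | e <;> rw [e] at this <;> omega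

/-- The column at an element of order 23. -/
structure ExcPair (x : G) (ψ₁ ψ₂ : IrrCharacter G) : Prop where
  ne : ψ₁ ≠ ψ₂
  iff : ∀ χ : IrrCharacter G, isExc (dg χ) = true ↔ χ = ψ₁ ∨ χ = ψ₂
  deg : dg ψ₁ = dg ψ₂
  sum : (ψ₁ : G → ℂ) x + (ψ₂ : G → ℂ) x = (w23 (dg ψ₁) : ℂ)
  val_ne : (ψ₁ : G → ℂ) x ≠ (ψ₂ : G → ℂ) x
  irr₁ : ∀ m : ℤ, 2 * (ψ₁ : G → ℂ) x ≠ (m : ℂ)
  irr₂ : ∀ m : ℤ, 2 * (ψ₂ : G → ℂ) x ≠ (m : ℂ)
  other : ∀ χ : IrrCharacter G, χ ≠ ψ₁ → χ ≠ ψ₂ → 2 * (χ : G → ℂ) x = (w23 (dg χ) : ℂ)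

theorem half_ne {t : ℤ} (ht : t = 1 ∨ t = -1) {a b : ℂ} (hsum : a + b = t) (hsq : ‖a‖ ^ 2 + ‖b‖ ^ 2 = 12)
    (m : ℤ) : 2 * a ≠ (m : ℂ) := by
  intro h
  have ha : a = (((m : ℝ) / 2 : ℝ) : ℂ) := by push_cast; rw [← h]; ring
  have hb : b = (((t : ℝ) - (m : ℝ) / 2 : ℝ) : ℂ) := by
    push_cast; rw [← hsum, ← h]; ring
  rw [ha, hb, Complex.norm_real, Complex.norm_real, Real.norm_eq_abs, Real.norm_eq_abs, sq_abs, sq_abs] at hsq
  have h' : ((m : ℝ) - t) ^ 2 = 23 := by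
    rcases ht with e | e <;> rw [e] at hsq ⊢ <;> push_cast at hsq ⊢ <;> nlinarith
  have h'' : (m - t) ^ 2 = 23 := by exact_mod_cast h'
  have h5 : -4 ≤ m - t ∧ m - t ≤ 4 := by constructor <;> nlinarith
  obtain ⟨h6, h7⟩ := h5
  generalize m - t = j at h'' h6 h7
  interval_cases j <;> norm_num at h''

theorem column_big [Fact (Nat.Prime 23)] (P : Sylow 23 G) (hfac : (Nat.card G).factorization 23 = 1)
    (hcard : Nat.card (P : Subgroup G) = 23) (hC : Nat.card C[(P : Subgroup G)] = 23)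
    (he : (C[(P : Subgroup G)]).relIndex (Subgroup.normalizer ((P : Subgroup G) : Set G)) = 11)
    {x : G} (hx : x ∈ (P : Subgroup G)) (hx1 : orderOf x = 23)
    (hxC : Nat.card (Subgroup.centralizer ({x} : Set G)) = 23) :
    (∃ ψ₁ ψ₂, ExcPair x ψ₁ ψ₂) ∧
      (Finset.univ.filter fun χ : IrrCharacter G => cnt23 (dg χ) = true).card = 11 ∧
      ∀ χ : IrrCharacter G, dg χ % 23 = 0 ∨ dg χ % 23 = 1 ∨ dg χ % 23 = 22 ∨ dg χ % 23 = 11 ∨ dg χ % 23 = 12 := by
  classical
  obtain ⟨M, hM⟩ := exists_isPModular (Fact.out : Nat.Prime 23)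
  obtain ⟨R, hR⟩ := exists_principal_block hM P hcard hC he
  have hk : pPt 23 x ∈ (P : Subgroup G) := by rw [pPt_of_order hx1]; exact hx
  have hxC' : x ∈ C[(P : Subgroup G)] := le_centralizer_self hcard hx
  have hd : (23 : ℕ) ∣ orderOf x := hx1 ▸ dvd_rfl
  have hX : ∀ χ ∈ R.X, (R.s χ = 1 ∧ dg χ % 23 = 1) ∨ (R.s χ = -1 ∧ dg χ % 23 = 22) := fun χ hχ => by
    have h := R.congX χ hχ
    rw [deg_trivRoot] at h
    have h' : (23 : ℤ) ∣ R.s χ - (dg χ : ℤ) := by simpa using Int.modEq_iff_dvd.1 h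
    rcases R.sign χ hχ with e | e <;> rw [e] at h'
    · exact Or.inl ⟨e, by omega⟩
    · exact Or.inr ⟨e, by omega⟩
  have hY : ∀ χ ∈ R.Y, (R.t = -1 ∧ dg χ % 23 = 11) ∨ (R.t = 1 ∧ dg χ % 23 = 12) := fun χ hχ => by
    have h := R.congY χ hχ
    rw [deg_trivRoot] at h
    have h' : (23 : ℤ) ∣ -(11 * R.t) - (dg χ : ℤ) := by simpa using Int.modEq_iff_dvd.1 h
    rcases R.sign_t with e | e <;> rw [e] at h'
    · exact Or.inr ⟨e, by omega⟩
    · exact Or.inl ⟨e, by omega⟩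
  have hdvd : ∀ χ, dg χ % 23 = 0 ∨ χ ∈ R.X ∨ χ ∈ R.Y := fun χ => by
    by_cases h : 23 ∣ dg χ
    · left; omega
    · exact Or.inr (Finset.mem_union.1 ((hR χ).2 h))
  have hexc : ∀ χ, isExc (dg χ) = true ↔ χ ∈ R.Y := fun χ => by
    constructor
    · intro h
      simp only [isExc, Bool.or_eq_true, beq_iff_eq] at h
      rcases hdvd χ with e | e | e
      · omega
      · rcases hX χ e with ⟨-, e'⟩ | ⟨-, e'⟩ <;> omega
      · exact e
    · intro h
      rcases hY χ h with ⟨-, e⟩ | ⟨-, e⟩ <;> simp [isExc, e]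
  obtain ⟨ψ₁, ψ₂, h12, hYe⟩ := Finset.card_eq_two.1 (show R.Y.card = 2 by rw [R.card_Y])
  have hm₁ : ψ₁ ∈ R.Y := by rw [hYe]; simp
  have hm₂ : ψ₂ ∈ R.Y := by rw [hYe]; simp
  have hdeg : dg ψ₁ = dg ψ₂ := by
    have h := R.agree ψ₁ hm₁ ψ₂ hm₂ 1 (by simp)
    rw [apply_one_eq_charDegree, apply_one_eq_charDegree] at h
    exact_mod_cast h
  have hsum : (ψ₁ : G → ℂ) x + (ψ₂ : G → ℂ) x = (R.t : ℂ) := by
    have h := R.sumY rfl ⟨x, hxC'⟩ hk hd
    rwa [hYe, Finset.sum_pair h12, trivRoot_apply, mul_one] at h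
  have hw : w23 (dg ψ₁) = R.t := by
    rcases hY ψ₁ hm₁ with ⟨e, e'⟩ | ⟨e, e'⟩ <;> simp [w23, e, e']
  have hone : ∀ χ ∈ R.X, ‖(χ : G → ℂ) x‖ ^ 2 = 1 := fun χ hχ => by
    rw [R.val rfl χ hχ ⟨x, hxC'⟩ hk hd, trivRoot_apply, mul_one]
    rcases R.sign χ hχ with e | e <;> simp [e]
  have hsq : ‖(ψ₁ : G → ℂ) x‖ ^ 2 + ‖(ψ₂ : G → ℂ) x‖ ^ 2 = 12 := by
    have h := MEleven.sum_column_normSq x
    rw [hxC, ← Finset.sum_subset (Finset.subset_univ (R.X ∪ R.Y)) (fun χ _ hχ => by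
      rw [value_zero hfac χ (not_not.1 fun h => hχ ((hR χ).2 h)) hd, norm_zero, zero_pow two_ne_zero]),
      Finset.sum_union R.disj, hYe, Finset.sum_pair h12,
      Finset.sum_congr rfl hone,
      Finset.sum_const, R.card_X, nsmul_eq_mul, mul_one] at h
    push_cast at h
    linarith
  refine ⟨⟨ψ₁, ψ₂, ?_⟩, ?_, fun χ => ?_⟩
  · refine ⟨h12, fun χ => by rw [hexc, hYe]; simp, hdeg, by rw [hsum, hw], fun e => ?_,
      half_ne R.sign_t hsum hsq,
      half_ne R.sign_t (by rw [add_comm]; exact hsum) (by rw [add_comm]; exact hsq), fun χ h1 h2 => ?_⟩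
    · refine half_ne R.sign_t hsum hsq R.t ?_
      rw [← hsum, ← e]; ring
    · rcases hdvd χ with e | e | e
      · rw [value_zero hfac χ (Nat.dvd_of_mod_eq_zero e) hd, mul_zero, w23]
        simp [e]
      · rw [R.val rfl χ e ⟨x, hxC'⟩ hk hd, trivRoot_apply, mul_one]
        rcases hX χ e with ⟨a, b⟩ | ⟨a, b⟩ <;> simp [w23, a, b]
      · rw [hYe] at e; simp [h1, h2] at e
  · rw [show (Finset.univ.filter fun χ : IrrCharacter G => cnt23 (dg χ) = true) = R.X by
      ext χ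
      simp only [Finset.mem_filter, Finset.mem_univ, true_and, cnt23, Bool.and_eq_true, Bool.not_eq_true',
        beq_eq_false_iff_ne, ← Bool.not_eq_true, hexc]
      constructor
      · rintro ⟨h0, h⟩
        rcases hdvd χ with e | e | e
        · simp_all
        · exact e
        · exact absurd e h
      · intro h
        refine ⟨?_, fun h' => Finset.disjoint_left.1 R.disj h h'⟩
        rcases hX χ h with ⟨-, e⟩ | ⟨-, e⟩ <;> simp [e], R.card_X]
  · rcases hdvd χ with e | e | e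
    · exact Or.inl e
    · rcases hX χ e with ⟨-, e'⟩ | ⟨-, e'⟩ <;> omega
    · rcases hY χ e with ⟨-, e'⟩ | ⟨-, e'⟩ <;> omega

section Data

theorem excAt_eq {e : ℕ} {c : ℤ} (h : 2 * (e : ℤ) ≡ c [ZMOD p]) (hc : 2 * c.natAbs < p) : excAt p e = c := by
  have hp := (Fact.out : p.Prime).pos
  obtain ⟨j, hj⟩ := Int.modEq_iff_dvd.1 h
  have hdm : ((2 * e % p : ℕ) : ℤ) + (p : ℤ) * ((2 * e / p : ℕ) : ℤ) = 2 * (e : ℤ) := by
    exact_mod_cast Nat.mod_add_div (2 * e) p
  have hlt : 2 * e % p < p := Nat.mod_lt _ hp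
  rw [excAt]
  generalize 2 * e % p = r at hdm hlt ⊢
  set q : ℤ := ((2 * e / p : ℕ) : ℤ) with hq
  split_ifs with hr
  · rw [Nat.ble_eq] at hr
    have hd : (p : ℤ) ∣ (r : ℤ) - c := ⟨-q - j, by linear_combination hdm - hj⟩
    have := Int.eq_zero_of_dvd_of_natAbs_lt_natAbs hd (by rw [Int.natAbs_natCast]; omega)
    omega
  · rw [Nat.ble_eq] at hr
    have hd : (p : ℤ) ∣ (r : ℤ) - p - c := ⟨-q - j - 1, by linear_combination hdm - hj⟩
    have := Int.eq_zero_of_dvd_of_natAbs_lt_natAbs hd (by rw [Int.natAbs_natCast]; omega)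
    omega

theorem sgnAt_eq {f d : ℕ} (hf : 0 < f) (hfp : f < p) (h2f : 2 * f ≠ p) {s : ℤ} (hs : s = 1 ∨ s = -1)
    (h : (d : ℤ) ≡ (f : ℤ) * s [ZMOD p]) :
    sgnAt p f d = (f : ℤ) * s ∧ (d % p = f % p ∨ d % p = p - f % p) := by
  have hp := (Fact.out : p.Prime).pos
  rw [Nat.mod_eq_of_lt hfp]
  have hdm : ((d % p : ℕ) : ℤ) + (p : ℤ) * ((d / p : ℕ) : ℤ) = (d : ℤ) := by exact_mod_cast Nat.mod_add_div d p
  have hlt : d % p < p := Nat.mod_lt _ hp
  obtain ⟨j, hj⟩ := Int.modEq_iff_dvd.1 h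
  have hff : f % p = f := Nat.mod_eq_of_lt (by omega)
  rcases hs with rfl | rfl
  · have hd : (p : ℤ) ∣ ((d % p : ℕ) : ℤ) - f := ⟨-j - ((d / p : ℕ) : ℤ), by linear_combination hdm - hj⟩
    have h0 := Int.eq_zero_of_dvd_of_natAbs_lt_natAbs hd (by rw [Int.natAbs_natCast]; omega)
    have he : d % p = f := by omega
    exact ⟨by rw [sgnAt, hff, he, if_pos (beq_self_eq_true _)]; ring, Or.inl he⟩
  · have hd : (p : ℤ) ∣ ((d % p : ℕ) : ℤ) - ((p : ℤ) - f) :=
      ⟨-j - ((d / p : ℕ) : ℤ) - 1, by linear_combination hdm - hj⟩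
    have h0 := Int.eq_zero_of_dvd_of_natAbs_lt_natAbs hd (by rw [Int.natAbs_natCast]; omega)
    have he : d % p = p - f := by omega
    exact ⟨by rw [sgnAt, hff, he, if_neg (by simp; omega)]; ring, Or.inr he⟩

variable {x y : G} {ψ₁ ψ₂ : IrrCharacter G}

/-- A block gives search data. -/
theorem blockData_of (hx : ExcPair x ψ₁ ψ₂) (hy : ∀ χ : IrrCharacter G, (χ : G → ℂ) y = (v11 (dg χ) : ℂ))
    {f : ℕ} (hf : 0 < f) (hfp : f < p) (h2f : 2 * f ≠ p) (S : Finset (IrrCharacter G)) (σ : IrrCharacter G → ℤ)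
    (hσ : ∀ χ ∈ S, σ χ = 1 ∨ σ χ = -1) (hcong : ∀ χ ∈ S, (dg χ : ℤ) ≡ (f : ℤ) * σ χ [ZMOD p])
    {e' : ℕ} {t : ℤ} (hexc : excAt p e' * e' = (f : ℤ) * t * e' ∧ excAt p e' * v11 e' = (f : ℤ) * t * v11 e' ∧
      excAt p e' * w23 e' = (f : ℤ) * t * w23 e') (u : G → ℂ)
    (hu1 : u 1 = (e' : ℂ)) (huy : u y = (v11 e' : ℂ)) (hux : 2 * u x = (w23 e' : ℂ))
    (hrel : ∀ g ∈ ({1, y, x} : Set G), ∑ χ ∈ S, (σ χ : ℂ) * (χ : G → ℂ) g + (t : ℂ) * u g = 0) :
    BlockData p f (S.val.map dg) e' := by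
  classical
  have hsg : ∀ χ ∈ S, sgnAt p f (dg χ) = (f : ℤ) * σ χ := fun χ h => (sgnAt_eq hf hfp h2f (hσ χ h) (hcong χ h)).1
  have hlin : ∀ g : ℕ → ℤ, ((S.val.map dg).map fun d => sgnAt p f d * g d).sum =
      (f : ℤ) * ∑ χ ∈ S, σ χ * g (dg χ) := fun g => by
    rw [Multiset.map_map, Finset.mul_sum]
    exact Finset.sum_congr rfl fun χ hχ => by simp [hsg χ hχ, mul_assoc]
  have hpairS : ψ₁ ∈ S ↔ ψ₂ ∈ S := by
    have key : ∀ a b : IrrCharacter G, (∀ m : ℤ, 2 * (a : G → ℂ) x ≠ (m : ℂ)) → a ∈ S → b ∉ S →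
        (∀ χ, χ ≠ a → χ ≠ b → 2 * (χ : G → ℂ) x = (w23 (dg χ) : ℂ)) → False := by
      intro a b ha haS hbS hoth
      have h := hrel x (by simp)
      rw [← Finset.add_sum_erase _ _ haS] at h
      have hrest : ∑ χ ∈ S.erase a, (σ χ : ℂ) * (2 * (χ : G → ℂ) x) =
          ((∑ χ ∈ S.erase a, σ χ * w23 (dg χ) : ℤ) : ℂ) := by
        push_cast
        refine Finset.sum_congr rfl fun χ hχ => ?_
        rw [hoth χ (Finset.mem_erase.1 hχ).1 fun e => hbS (e ▸ (Finset.mem_erase.1 hχ).2)]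
      have h2 : (σ a : ℂ) * (2 * (a : G → ℂ) x) =
          ((-(∑ χ ∈ S.erase a, σ χ * w23 (dg χ)) - t * w23 e' : ℤ) : ℂ) := by
        rw [Int.cast_sub, Int.cast_neg, ← hrest, Int.cast_mul, ← hux,
          Finset.sum_congr rfl fun χ _ => mul_left_comm (σ χ : ℂ) (2 : ℂ) ((χ : G → ℂ) x), ← Finset.mul_sum]
        linear_combination 2 * h
      rcases hσ a haS with e | e <;> rw [e] at h2
      · exact ha _ (by rw [Int.cast_one, one_mul] at h2; exact h2)
      · refine ha (-(-(∑ χ ∈ S.erase a, σ χ * w23 (dg χ)) - t * w23 e')) ?_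
        rw [Int.cast_neg, ← h2]; push_cast; ring
    constructor
    · intro h; by_contra h'; exact key ψ₁ ψ₂ hx.irr₁ h h' hx.other
    · intro h; by_contra h'; exact key ψ₂ ψ₁ hx.irr₂ h h' fun χ a b => hx.other χ b a
  refine ⟨?_, ?_, ?_, ?_, ?_⟩
  · intro d hd
    obtain ⟨χ, hχ, rfl⟩ := Multiset.mem_map.1 hd
    exact (sgnAt_eq hf hfp h2f (hσ χ hχ) (hcong χ hχ)).2
  · rw [hlin, hexc.1, mul_assoc, ← mul_add]
    have h := hrel 1 (by simp)
    rw [hu1] at h
    simp only [apply_one_eq_charDegree] at h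
    have h' : (∑ χ ∈ S, σ χ * (dg χ : ℤ)) + t * (e' : ℤ) = 0 := by exact_mod_cast h
    rw [h', mul_zero]
  · rw [hlin, hexc.2.1, mul_assoc, ← mul_add]
    have h := hrel y (by simp)
    rw [huy] at h
    simp only [hy] at h
    have h' : (∑ χ ∈ S, σ χ * v11 (dg χ)) + t * v11 e' = 0 := by exact_mod_cast h
    rw [h', mul_zero]
  · rw [hlin, hexc.2.2, mul_assoc, ← mul_add]
    have h := hrel x (by simp)
    have h2 : ∑ χ ∈ S, (σ χ : ℂ) * (2 * (χ : G → ℂ) x) = ∑ χ ∈ S, (σ χ : ℂ) * (w23 (dg χ) : ℂ) := by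
      have hsupp : ∀ χ ∈ S, χ ∉ ({ψ₁, ψ₂} : Finset (IrrCharacter G)) →
          (σ χ : ℂ) * (2 * (χ : G → ℂ) x - (w23 (dg χ) : ℂ)) = 0 := fun χ _ hn => by
        simp only [Finset.mem_insert, Finset.mem_singleton, not_or] at hn
        rw [hx.other χ hn.1 hn.2, sub_self, mul_zero]
      have hz : ∑ χ ∈ S, (σ χ : ℂ) * (2 * (χ : G → ℂ) x - (w23 (dg χ) : ℂ)) = 0 := by
        by_cases hm : ψ₁ ∈ S
        · have hm₂ := hpairS.1 hm
          have hs : σ ψ₂ = σ ψ₁ := by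
            have e1 := hsg ψ₁ hm
            rw [hx.deg, hsg ψ₂ hm₂] at e1
            exact mul_left_cancel₀ (by exact_mod_cast hf.ne') e1
          rw [← Finset.sum_subset (s₁ := {ψ₁, ψ₂}) (by simp [Finset.insert_subset_iff, hm, hm₂]) hsupp,
            Finset.sum_pair hx.ne, hs, ← hx.deg]
          linear_combination 2 * (σ ψ₁ : ℂ) * hx.sum
        · refine Finset.sum_eq_zero fun χ hχ => hsupp χ hχ ?_
          simp only [Finset.mem_insert, Finset.mem_singleton, not_or]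
          exact ⟨fun e => hm (e ▸ hχ), fun e => hm (hpairS.2 (e ▸ hχ))⟩
      rw [← sub_eq_zero, ← Finset.sum_sub_distrib, ← hz]
      exact Finset.sum_congr rfl fun χ _ => by ring
    have h3 : ((∑ χ ∈ S, σ χ * w23 (dg χ)) + t * w23 e' : ℤ) = 0 := by
      have : (((∑ χ ∈ S, σ χ * w23 (dg χ)) + t * w23 e' : ℤ) : ℂ) = 0 := by
        push_cast
        rw [← h2, Finset.sum_congr rfl fun χ _ => mul_left_comm (σ χ : ℂ) (2 : ℂ) ((χ : G → ℂ) x),
          ← Finset.mul_sum, ← hux]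
        linear_combination 2 * h
      exact_mod_cast this
    rw [h3, mul_zero]
  · rw [Multiset.filter_map]
    by_cases hm : ψ₁ ∈ S
    · refine Or.inr ⟨dg ψ₁, ?_⟩
      have he : S.filter (fun χ => isExc (dg χ) = true) = {ψ₁, ψ₂} := by
        ext χ
        simp only [Finset.mem_filter, hx.iff, Finset.mem_insert, Finset.mem_singleton]
        exact ⟨fun h => h.2, fun h => ⟨by rcases h with rfl | rfl; exacts [hm, hpairS.1 hm], h⟩⟩
      have hv := congrArg (fun F : Finset (IrrCharacter G) => F.val.map dg) he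
      simp only [Finset.filter_val] at hv
      rw [show Multiset.filter ((fun d => isExc d = true) ∘ dg) S.val =
        Multiset.filter (fun χ => isExc (dg χ) = true) S.val from rfl, hv,
        Finset.insert_val_of_notMem (by simp [hx.ne]), Finset.singleton_val, Multiset.map_cons,
        Multiset.map_singleton, ← hx.deg]
      rfl
    · refine Or.inl ?_
      rw [Multiset.map_eq_zero, Multiset.filter_eq_nil]
      intro χ hχ h
      rcases (hx.iff χ).1 h with rfl | rfl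
      exacts [hm hχ, hm (hpairS.2 hχ)]

end Data

/-- The two quadratic sums of a conjugate pair of values. -/
theorem pair_values {a b : ℂ} {f t : ℤ} (hf : f ≠ 0) (ht : t = 1 ∨ t = -1) (hs : a + b = ((t * f : ℤ) : ℂ))
    (hq : a * a + b * b = ((-3 * f * f : ℤ) : ℂ)) : a * conj a + b * conj b = ((4 * f * f : ℤ) : ℂ) := by
  have h1 := congrArg Complex.re hs
  have h2 := congrArg Complex.im hs
  have h3 := congrArg Complex.re hq
  have h4 := congrArg Complex.im hq
  simp only [Complex.add_re, Complex.add_im, Complex.mul_re, Complex.mul_im, Complex.intCast_re,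
    Complex.intCast_im] at h1 h2 h3 h4
  push_cast at h1 h3
  have hbi : b.im = -a.im := by linarith
  rw [hbi] at h3 h4
  have hf' : (0 : ℝ) < (f : ℝ) * f := mul_self_pos.2 (by exact_mod_cast hf)
  have hai : a.im ≠ 0 := fun e => by rw [e] at h3; nlinarith
  have hre : a.re = b.re := by
    have h5 : (a.re - b.re) * a.im = 0 := by linarith
    rcases mul_eq_zero.1 h5 with e | e
    · linarith
    · exact absurd e hai
  have ht2 : (t : ℝ) * t = 1 := by rcases ht with e | e <;> simp [e]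
  have hare : a.re = (t : ℝ) * f / 2 := by linarith
  have hre2 : a.re * a.re = (f : ℝ) * f / 4 := by
    rw [hare]; linear_combination (f : ℝ) * f / 4 * ht2
  rw [← hre] at h3
  apply Complex.ext
  · simp only [Complex.add_re, Complex.mul_re, Complex.conj_re, Complex.conj_im, Complex.intCast_re, hbi, ← hre]
    push_cast
    linarith
  · simp only [Complex.add_im, Complex.mul_im, Complex.conj_re, Complex.conj_im, Complex.intCast_im]
    ring

end Cfsg.Lib.MTwentyFour
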