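import Cfsg.Agent.Lib.MTwentyFour.LocalTwentyThree
import Cfsg.Agent.Lib.MTwentyFour.Columns
import Cfsg.Agent.Lib.MTwentyFour.Degrees

/-!
In a simple group of order 244823040 no element of order 7 commutes with an element of order 11.
-/

set_option autoImplicit false
set_option linter.style.haveILetI false
set_option linter.unusedSectionVars false
set_option maxHeartbeats 2000000
set_option maxRecDepth 8000

namespace Cfsg.Lib.MTwentyFour

open Cfsg Cfsg.Lib

universe u

local notation "C[" P "]" => Subgroup.centralizer (SetLike.coe P)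

noncomputable local instance (priority := high) fintypeSubgroupSevenEleven {A : Type u}
    [Group A] [Fintype A] (H : Subgroup A) : Fintype H := Fintype.ofFinite H

/-- The divisors of `3179520`. -/
def divs77 : List ℕ :=
  (List.range 11).flatMap fun a => (List.range 4).flatMap fun b => [1, 5].flatMap fun c =>
    [1, 23].map fun d => 2 ^ a * (3 ^ b * (c * d))

theorem mem_divs77 {n : ℕ} (h : n ∣ 3179520) : n ∈ divs77 := by
  rw [show 3179520 = 2 ^ 10 * (3 ^ 3 * (5 * 23)) by norm_num] at h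
  obtain ⟨a, x, ha, hx, rfl⟩ := Nat.dvd_mul.1 h
  obtain ⟨b, y, hb, hy, rfl⟩ := Nat.dvd_mul.1 hx
  obtain ⟨c, d, hc, hd, rfl⟩ := Nat.dvd_mul.1 hy
  obtain ⟨i, hi, rfl⟩ := (Nat.dvd_prime_pow Nat.prime_two).1 ha
  obtain ⟨j, hj, rfl⟩ := (Nat.dvd_prime_pow Nat.prime_three).1 hb
  simp only [divs77, List.mem_flatMap, List.mem_map, List.mem_range]
  refine ⟨i, by omega, j, by omega, c, ?_, d, ?_, rfl⟩
  · simpa using (Nat.dvd_prime Nat.prime_five).1 hc
  · simpa using (Nat.dvd_prime (by norm_num)).1 hd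

/-- The possible degrees of members of the principal family at 7. -/
def cand77 : List ℕ :=
  divs77.filter fun d => Nat.ble 14 d && Nat.ble (d * d + 1) 244823040 && [0, 1, 11, 12, 22].contains (d % 23)

/-- The signed degree of a member congruent to `1`, shifted by `20000`. -/
def enc77 (d : ℕ) : ℕ := if d % 7 == 1 then 20000 + d else 20000 - d

/-- The candidates congruent to `±1` without full `r`-part. -/
def mem77 (r : ℕ) : List ℕ :=
  ((cand77.filter fun d => d % 7 == 1 || d % 7 == 6).filter fun d => !(d % r == 0)).map enc77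

theorem le_of_mem_cand77 {d : ℕ} (h : d ∈ cand77) : d ≤ 20000 := by
  have h' := (List.mem_filter.1 h).2
  simp only [Bool.and_eq_true, Nat.ble_eq] at h'
  by_contra hd
  have := Nat.mul_le_mul (Nat.le_of_not_le hd) (Nat.le_of_not_le hd)
  omega

theorem six_three : Search.allComb 6 (mem77 27) (fun l => !(l.sum + 1 == 120000)) = true := by
  decide +kernel

theorem six_five : Search.allComb 6 (mem77 5) (fun l => !(l.sum + 1 == 120000)) = true := by
  decide +kernel

/-- The automizer of order three leaves a member of degree 69. -/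
def threeTest : Bool :=
  cand77.all fun a => cand77.all fun b => cand77.all fun c =>
    !((a % 7 == 1 || a % 7 == 6) && (b % 7 == 1 || b % 7 == 6) && (c % 7 == 3 || c % 7 == 4)) ||
      !(enc77 a + enc77 b + (if c % 7 == 4 then 20000 + c else 20000 - c) + 1 == 60000) || a == 69 || b == 69

theorem three_check : threeTest = true := by decide +kernel

/-- No pair for an automizer of order two. -/
def twoTest : Bool :=
  cand77.all fun a => cand77.all fun c =>
    !((a % 7 == 1 || a % 7 == 6) && (c % 7 == 2 || c % 7 == 5)) ||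
      !(enc77 a + (if c % 7 == 5 then 20000 + c else 20000 - c) + 1 == 40000)

theorem two_check : twoTest = true := by decide +kernel

/-- The possible cofactors for an automizer of order six. -/
def cofTest : Bool :=
  divs77.all fun w => !(529920 % w == 0) || !(529920 / w % 7 == 1) || w % 3 == 0 || w % 5 == 0

theorem cof_check : cofTest = true := by decide +kernel

variable {G : Type u} [Group G] [Fintype G]

/-- The sum over a cyclic subgroup as a sum over exponents. -/
theorem sum_zpowers_range (χ : IrrCharacter G) {b : G} {r : ℕ} (hb : orderOf b = r) :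
    ∑ v : Subgroup.zpowers b, (χ : G → ℂ) v = ∑ i ∈ Finset.range r, (χ : G → ℂ) (b ^ i) := by
  subst hb
  rw [Finset.sum_range]
  exact (Fintype.sum_equiv (finEquivZPowers (isOfFinOrder_of_finite b)) _ _ fun i => rfl).symm

/-- The fixed vectors of a subgroup are fixed by any smaller subgroup. -/
theorem fix_mono (χ : IrrCharacter G) {A D : Subgroup G} (hDA : D ≤ A) {a d : ℕ}
    (ha : ∑ g : A, (χ : G → ℂ) g = ((Nat.card A * a : ℕ) : ℂ))
    (hd : ∑ g : D, (χ : G → ℂ) g = ((Nat.card D * d : ℕ) : ℂ)) : a ≤ d := by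
  classical
  obtain ⟨n, ρ, hρ, hc⟩ := χ.2
  have hdim : ∀ (H : Subgroup G) [Fintype H] (m : ℕ), ∑ g : H, (χ : G → ℂ) g = ((Nat.card H * m : ℕ) : ℂ) →
      Module.finrank ℂ (Representation.invariants (ρ.comp H.subtype)) = m := by
    intro H _ m hm
    letI : Invertible (Fintype.card H : ℂ) := invertibleOfNonzero (Nat.cast_ne_zero.2 Fintype.card_ne_zero)
    have htr := (Representation.isProj_averageMap (ρ.comp H.subtype)).trace
    have hav : Representation.averageMap (ρ.comp H.subtype) =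
        ⅟ (Fintype.card H : ℂ) • ∑ z : H, ρ (z : G) := by
      simp [Representation.averageMap, GroupAlgebra.average, map_sum]
    rw [hav, map_smul, map_sum, smul_eq_mul] at htr
    have e : ∀ z : H, LinearMap.trace ℂ (Fin n → ℂ) (ρ (z : G)) = (χ : G → ℂ) z := fun z => by
      rw [← hc]; rfl
    simp only [e] at htr
    rw [hm, Nat.card_eq_fintype_card] at htr
    push_cast at htr
    rw [← mul_assoc, invOf_mul_self, one_mul] at htr
    exact_mod_cast htr.symm
  have hle : Representation.invariants (ρ.comp A.subtype) ≤ Representation.invariants (ρ.comp D.subtype) :=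
    fun v hv g => hv ⟨g, hDA g.2⟩
  have h := Submodule.finrank_mono hle
  rwa [hdim A a ha, hdim D d hd] at h

/-- A power map without fixed points on the nonidentity elements of a group of order 11 cannot preserve
a character whose sum over them is `-3`. -/
theorem no_invariant_sum (χ : IrrCharacter G) {b : G} (hb : orderOf b = 11) {j : ℕ} (hj0 : j % 11 ≠ 0)
    (hj1 : j % 11 ≠ 1) (hinv : ∀ i : ℕ, (χ : G → ℂ) (b ^ (i * j)) = (χ : G → ℂ) (b ^ i))
    (hsum : ∑ i ∈ Finset.range 11, (χ : G → ℂ) (b ^ i) = (χ : G → ℂ) 1 - 3) : False := by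
  have hpow : ∀ (m i : ℕ), (χ : G → ℂ) (b ^ (i * j ^ m)) = (χ : G → ℂ) (b ^ i) := by
    intro m
    induction m with
    | zero => intro i; simp
    | succ m ih => intro i; rw [pow_succ, ← mul_assoc, hinv, ih]
  have hmod : ∀ a c : ℕ, a % 11 = c % 11 → b ^ a = b ^ c := fun a c h => by
    rw [← pow_mod_orderOf b a, ← pow_mod_orderOf b c, hb, h]
  have hcases : ∀ r < 11, r ≠ 0 → r ≠ 1 → (∃ m < 11, r ^ m % 11 = 10) ∨ (∃ m < 11, r ^ m % 11 = 3) := by
    decide
  have hint : ∀ i, IsIntegral ℤ ((χ : G → ℂ) (b ^ i)) := fun i => χ.2.isCharacter.isIntegral _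
  simp only [Finset.sum_range_succ, Finset.sum_range_zero, zero_add, pow_zero] at hsum
  have key : ∀ (q : ℕ) (z : ℂ), 2 ≤ q → IsIntegral ℤ z → (q : ℂ) * z = -3 → q = 3 := by
    intro q z hq hz hqz
    have hz' : z = ((-3 / q : ℚ) : ℂ) := by
      push_cast
      rw [eq_div_iff (Nat.cast_ne_zero.2 (by omega : q ≠ 0)), mul_comm]
      exact hqz
    obtain ⟨k, hk⟩ := Char.exists_int_of_isIntegral_rat (hz' ▸ hz)
    rw [hz', hk] at hqz
    have h : (q : ℤ) * k = -3 := by exact_mod_cast hqz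
    have h3 : q ∣ 3 := by
      have : (q : ℤ) ∣ (3 : ℤ) := ⟨-k, by linarith⟩
      exact_mod_cast this
    exact ((Nat.dvd_prime Nat.prime_three).1 h3).resolve_left (by omega)
  rcases hcases (j % 11) (Nat.mod_lt _ (by norm_num)) hj0 hj1 with ⟨m, -, hm⟩ | ⟨m, -, hm⟩
  · have hf : ∀ a c : ℕ, a * 10 % 11 = c → (χ : G → ℂ) (b ^ c) = (χ : G → ℂ) (b ^ a) := fun a c h => by
      rw [← hpow m a, hmod c (a * j ^ m) ?_]
      rw [Nat.mul_mod a, Nat.pow_mod, hm, ← h, Nat.mod_mod, Nat.mul_mod a 10]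
    rw [hf 1 10 rfl, hf 2 9 rfl, hf 3 8 rfl, hf 4 7 rfl, hf 5 6 rfl] at hsum
    have := key 2 _ le_rfl ((((hint 1).add (hint 2)).add (hint 3)).add (hint 4) |>.add (hint 5))
      (by push_cast; linear_combination hsum)
    omega
  · have hf : ∀ a c : ℕ, a * 3 % 11 = c → (χ : G → ℂ) (b ^ c) = (χ : G → ℂ) (b ^ a) := fun a c h => by
      rw [← hpow m a, hmod c (a * j ^ m) ?_]
      rw [Nat.mul_mod a, Nat.pow_mod, hm, ← h, Nat.mod_mod, Nat.mul_mod a 3]
    rw [hf 5 4 rfl, hf 9 5 rfl, hf 3 9 rfl, hf 1 3 rfl, hf 8 2 rfl, hf 10 8 rfl, hf 7 10 rfl,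
      hf 6 7 rfl, hf 2 6 rfl] at hsum
    have := key 5 _ (by norm_num) ((hint 1).add (hint 2)) (by push_cast; linear_combination hsum)
    omega

variable [IsSimpleGroup G]

/-- The fixed vectors of an element of order 11 in a character of degree 69. -/
theorem fix_sixtyNine [Fact (Nat.Prime 11)] (hcard : Nat.card G = 244823040) {χ : IrrCharacter G}
    (hχ : MEleven.deg χ = 69) {b : G} (hb : orderOf b = 11) {k : ℕ}
    (hk : ∑ v : Subgroup.zpowers b, (χ : G → ℂ) v = ((11 * k : ℕ) : ℂ)) : 6 ≤ k ∧ k ≤ 9 := by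
  classical
  haveI : Fact (Nat.Prime 23) := ⟨by norm_num⟩
  obtain ⟨P⟩ : Nonempty (Sylow 23 G) := inferInstance
  obtain ⟨hC, he⟩ := local_twentyThree hcard P
  set X := (P : Subgroup G) with hX
  set H := Subgroup.normalizer (X : Set G) with hH
  have hXc : Nat.card X = 23 := Order175560.sylow_card_eq (hcard ▸ by norm_num) (hcard ▸ by norm_num) P
  have hHc : Nat.card H = 253 := by
    have h := Subgroup.relIndex_mul_relIndex ⊥ C[X] H bot_le (Subgroup.centralizer_le_normalizer _)
    rw [Subgroup.relIndex_bot_left, Subgroup.relIndex_bot_left, hC, he] at h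
    omega
  obtain ⟨⟨c₀, hc₀H⟩, hc₀⟩ := exists_prime_orderOf_dvd_card' (G := H) 11 (by rw [hHc]; norm_num)
  rw [Subgroup.orderOf_mk] at hc₀
  have hfac : (Nat.card G).factorization 11 = 1 := by
    rw [hcard, show 244823040 = 11 ^ 1 * 22256640 by norm_num,
      factorization_eq (by norm_num) (by norm_num) (by norm_num)]
  obtain ⟨g, hg⟩ := MulAction.exists_smul_eq G
    (Sylow.ofCard (Subgroup.zpowers c₀) (by rw [Nat.card_zpowers, hc₀, hfac, pow_one]) : Sylow 11 G)
    (Sylow.ofCard (Subgroup.zpowers b) (by rw [Nat.card_zpowers, hb, hfac, pow_one]))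
  have hbmem : b ∈ (g • (Sylow.ofCard (Subgroup.zpowers c₀) (by rw [Nat.card_zpowers, hc₀, hfac, pow_one]) :
      Sylow 11 G) : Sylow 11 G).1 := by rw [hg]; exact Subgroup.mem_zpowers b
  obtain ⟨c, hc, hcb⟩ : ∃ c ∈ Subgroup.zpowers c₀, g * c * g⁻¹ = b := by
    obtain ⟨c, hc, hcb⟩ := hbmem
    exact ⟨c, hc, by simpa using hcb⟩
  have hco : orderOf c = 11 := by
    have h : orderOf (MulAut.conj g c) = orderOf b := congrArg orderOf hcb
    rw [(MulAut.conj g).orderOf_eq, hb] at h
    exact h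
  have hcH : c ∈ H := Subgroup.zpowers_le.2 hc₀H hc
  have hsb : ∑ i ∈ Finset.range 11, (χ : G → ℂ) (c ^ i) = ((11 * k : ℕ) : ℂ) := by
    rw [← hk, sum_zpowers_range χ hb]
    refine Finset.sum_congr rfl fun i _ => ?_
    rw [← hcb, conj_pow, χ.2.isClassFunction]
  -- the sum over the Sylow normalizer
  have hdz : (MEleven.deg χ).factorization 23 = (Nat.card G).factorization 23 := by
    rw [hχ, hcard, show 69 = 23 ^ 1 * 3 by norm_num, factorization_eq (by norm_num) (by norm_num) (by norm_num),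
      show 244823040 = 23 ^ 1 * 10644480 by norm_num,
      factorization_eq (by norm_num) (by norm_num) (by norm_num)]
  have hXsum : ∑ u : X, (χ : G → ℂ) u = 69 := by
    rw [← Finset.add_sum_erase _ _ (Finset.mem_univ (1 : X)), Finset.sum_eq_zero fun u hu => ?_, add_zero,
      OneMemClass.coe_one, MEleven.apply_one, hχ]
    · norm_num
    · refine MEleven.apply_eq_zero_of_defectZero χ hdz ?_
      rcases (Nat.dvd_prime (by norm_num : Nat.Prime 23)).1 (hXc ▸ orderOf_dvd_natCard u) with h | h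
      · exact absurd (orderOf_eq_one_iff.1 h) (Finset.ne_of_mem_erase hu)
      · exact dvd_of_eq (by rw [Subgroup.orderOf_coe, h])
  have hCX : ∀ w ∈ C[X], w ^ 23 = 1 := fun w hw => by
    have h := pow_card_eq_one' (x := (⟨w, hw⟩ : C[X]))
    rw [hC] at h
    exact congrArg Subtype.val h
  have hfree : ∀ i : ℕ, i < 11 → i ≠ 0 → ∀ u ∈ X, Commute u (c ^ i) → u = 1 := by
    intro i hi hi0 u hu hcomm
    by_contra h1
    have hz := Small.zpowers_eq_of_prime_card hXc hu h1
    have hmem : c ^ i ∈ C[X] := by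
      rw [← hz, Small.centralizer_zpowers, Subgroup.mem_centralizer_singleton_iff]
      exact hcomm.symm
    have h := orderOf_dvd_of_pow_eq_one (hCX _ hmem)
    rw [(Nat.Coprime.orderOf_pow (by rw [hco]; exact ((Nat.Prime.coprime_iff_not_dvd (by norm_num)).2
      fun h => hi0 (Nat.eq_zero_of_dvd_of_lt h hi)))), hco] at h
    norm_num at h
  let f : X × Fin 11 → H := fun q => ⟨(q.1 : G) * c ^ (q.2 : ℕ),
    mul_mem (Subgroup.le_normalizer q.1.2) (pow_mem hcH _)⟩
  have hfi : Function.Injective f := by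
    rintro ⟨u, i⟩ ⟨u', i'⟩ h
    have h' : (u : G) * c ^ (i : ℕ) = u' * c ^ (i' : ℕ) := congrArg Subtype.val h
    have h2 : (u' : G)⁻¹ * u = c ^ (i' : ℕ) * (c ^ (i : ℕ))⁻¹ := by
      rw [eq_mul_inv_iff_mul_eq, mul_assoc, h', inv_mul_cancel_left]
    have h3 : (u' : G)⁻¹ * u = 1 := orderOf_eq_one_iff.1 (Nat.eq_one_of_dvd_coprimes
      (show Nat.Coprime 23 11 by norm_num)
      (hXc ▸ Subgroup.orderOf_dvd_natCard X (mul_mem (inv_mem u'.2) u.2))
      (hco ▸ orderOf_dvd_of_mem_zpowers (h2 ▸ mul_mem (Subgroup.npow_mem_zpowers c i')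
        (inv_mem (Subgroup.npow_mem_zpowers c i)))))
    obtain rfl : u' = u := Subtype.ext (inv_mul_eq_one.1 h3)
    have h4 := pow_inj_mod.1 (mul_left_cancel h')
    rw [hco, Nat.mod_eq_of_lt i.2, Nat.mod_eq_of_lt i'.2] at h4
    obtain rfl := Fin.ext h4
    rfl
  have hfb : Function.Bijective f := (Fintype.bijective_iff_injective_and_card f).2 ⟨hfi, by
    simp only [← Nat.card_eq_fintype_card, Nat.card_prod, hXc, hHc, Nat.card_fin]⟩
  have hrow : ∀ i : Fin 11, ∑ u : X, (χ : G → ℂ) ((u : G) * c ^ (i : ℕ)) =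
      if (i : ℕ) = 0 then 69 else 23 * (χ : G → ℂ) (c ^ (i : ℕ)) := by
    intro i
    split_ifs with h0
    · rw [h0]; simpa using hXsum
    · have hn : c ^ (i : ℕ) ∈ H := pow_mem hcH _
      let t : X → X := fun u => ⟨(u : G) * (c ^ (i : ℕ) * (u : G)⁻¹ * (c ^ (i : ℕ))⁻¹),
        mul_mem u.2 ((Subgroup.mem_normalizer_iff.1 hn _).1 (inv_mem u.2))⟩
      have hti : Function.Injective t := by
        intro u u' h
        have h' : (u : G) * (c ^ (i : ℕ) * (u : G)⁻¹ * (c ^ (i : ℕ))⁻¹) =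
            u' * (c ^ (i : ℕ) * (u' : G)⁻¹ * (c ^ (i : ℕ))⁻¹) := congrArg Subtype.val h
        have hcm : Commute ((u' : G)⁻¹ * u) (c ^ (i : ℕ)) := by
          have := congrArg (fun y => (u' : G)⁻¹ * y * c ^ (i : ℕ) * u) h'
          simpa [mul_assoc, Commute, SemiconjBy] using this
        exact (Subtype.ext (inv_mul_eq_one.1
          (hfree i i.2 h0 _ (mul_mem (inv_mem u'.2) u.2) hcm))).symm
      rw [← (Finite.injective_iff_bijective.1 hti).sum_comp fun u : X => (χ : G → ℂ) ((u : G) * c ^ (i : ℕ)),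
        Finset.sum_congr rfl fun u _ => show (χ : G → ℂ) ((t u : G) * c ^ (i : ℕ)) = (χ : G → ℂ) (c ^ (i : ℕ)) by
          show (χ : G → ℂ) ((u : G) * (c ^ (i : ℕ) * (u : G)⁻¹ * (c ^ (i : ℕ))⁻¹) * c ^ (i : ℕ)) = _
          rw [show (u : G) * (c ^ (i : ℕ) * (u : G)⁻¹ * (c ^ (i : ℕ))⁻¹) * c ^ (i : ℕ) =
            (u : G) * c ^ (i : ℕ) * (u : G)⁻¹ by group]
          exact χ.2.isClassFunction _ _,
        Finset.sum_const, Finset.card_univ, ← Nat.card_eq_fintype_card, hXc, nsmul_eq_mul]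
      norm_num
  obtain ⟨n, hn⟩ := MEleven.exists_nat_sum χ H
  have hn3 : n ≤ 3 := fix_mono χ Subgroup.le_normalizer hn (by rw [hXsum, hXc]; norm_num)
  rw [hHc, ← Fintype.sum_bijective f hfb (fun q => (χ : G → ℂ) ((q.1 : G) * c ^ (q.2 : ℕ))) _ (fun q => rfl),
    Fintype.sum_prod_type, Finset.sum_comm, Finset.sum_congr rfl fun i _ => hrow i,
    Fin.sum_univ_eq_sum_range (fun i : ℕ => if i = 0 then (69 : ℂ) else 23 * (χ : G → ℂ) (c ^ i)) 11] at hn
  simp only [Finset.sum_range_succ, Finset.sum_range_zero, zero_add, pow_zero, MEleven.apply_one, hχ] at hsb hn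
  norm_num at hn hsb
  have h : ((253 * n + 1518 : ℕ) : ℂ) = ((253 * k : ℕ) : ℂ) := by
    push_cast
    push_cast at hsb
    linear_combination (-1 : ℂ) * hn + 23 * hsb
  have h' : 253 * n + 1518 = 253 * k := Nat.cast_injective h
  omega

/-- No element of order 7 commutes with an element of order 11. -/
theorem not_commute_seven_eleven (hcard : Nat.card G = 244823040) {a b : G} (ha : orderOf a = 7)
    (hb : orderOf b = 11) : ¬ Commute a b := by
  classical
  intro hab
  haveI : Fact (Nat.Prime 7) := ⟨by norm_num⟩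
  haveI : Fact (Nat.Prime 11) := ⟨by norm_num⟩
  haveI : Fact (Nat.Prime 23) := ⟨by norm_num⟩
  have hsq7 : ¬ 7 * 7 ∣ Nat.card G := hcard ▸ by norm_num
  have hf7 : (Nat.card G).factorization 7 = 1 := by
    rw [hcard, show 244823040 = 7 ^ 1 * 34974720 by norm_num,
      factorization_eq (by norm_num) (by norm_num) (by norm_num)]
  let P : Sylow 7 G := Sylow.ofCard (Subgroup.zpowers a) (by rw [Nat.card_zpowers, ha, hf7, pow_one])
  have hPa : (P : Subgroup G) = Subgroup.zpowers a := Sylow.coe_ofCard _ _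
  have hP : Nat.card (P : Subgroup G) = 7 := by rw [hPa, Nat.card_zpowers, ha]
  have hbC : b ∈ C[(P : Subgroup G)] := (mem_centralizer_sylow P hPa).2 hab
  set N := Subgroup.normalizer ((P : Subgroup G) : Set G) with hN
  obtain ⟨n, hn⟩ : 7 ∣ Nat.card N :=
    hP ▸ Subgroup.card_dvd_of_le (Subgroup.le_normalizer (H := (P : Subgroup G)))
  obtain ⟨v, e, hv, he, hve, hed, he1, -⟩ :=
    local_data hsq7 ha P hPa (by rw [hcard]; norm_num) (n := n) (by rw [← hPa]; exact hn)
  have h11 : 11 ∣ v := by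
    have h := Subgroup.orderOf_dvd_natCard _ hbC
    rw [hb, hv] at h
    exact (Nat.Coprime.dvd_of_dvd_mul_left (by norm_num) h)
  have hmul : Nat.card (Sylow 7 G) * n = 34974720 := by
    have h := Small.card_normalizer_mul P
    rw [← hN, hn, hcard] at h
    nlinarith
  have hmod : Nat.card (Sylow 7 G) % 7 = 1 :=
    (Small.sylow_facts (G := G) (p := 7) 1 34974720 (by rw [hcard]; norm_num) (by norm_num)).2
  obtain ⟨S⟩ := Small.exists_shape (p := 7) (by norm_num) P hP he he1
  have hncyc : ¬ IsCyclic G := Small.not_isCyclic_of_card (by rw [hcard]; norm_num)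
  have hf23 : (Nat.card G).factorization 23 = 1 := by
    rw [hcard, show 244823040 = 23 ^ 1 * 10644480 by norm_num,
      factorization_eq (by norm_num) (by norm_num) (by norm_num)]
  obtain ⟨P23⟩ : Nonempty (Sylow 23 G) := inferInstance
  obtain ⟨hC23, he23⟩ := local_twentyThree hcard P23
  have hP23 : Nat.card (P23 : Subgroup G) = 23 :=
    Order175560.sylow_card_eq (hcard ▸ by norm_num) (hcard ▸ by norm_num) P23
  obtain ⟨⟨x, hxP⟩, hx⟩ := exists_prime_orderOf_dvd_card' (G := (P23 : Subgroup G)) 23 (by rw [hP23])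
  rw [Subgroup.orderOf_mk] at hx
  have hxz : Subgroup.zpowers x = (P23 : Subgroup G) :=
    Small.zpowers_eq_of_prime_card hP23 hxP fun h => by rw [h, orderOf_one] at hx; norm_num at hx
  obtain ⟨-, -, hr23⟩ := column_big P23 hf23 hP23 hC23 he23 hxP hx
    (by rw [centralizer_zpowers hxz, hC23])
  have hfac11 : ∀ {d : ℕ}, d ∣ 34974720 → 11 ∣ d → d.factorization 11 = (Nat.card G).factorization 11 := by
    intro d hd h
    obtain ⟨m, rfl⟩ := h
    rw [hcard, show 244823040 = 11 ^ 1 * 22256640 by norm_num,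
      factorization_eq (by norm_num) (by norm_num) (by norm_num), show 11 * m = 11 ^ 1 * m by norm_num,
      factorization_eq (by norm_num) (fun h11 => ?_) (by rintro rfl; norm_num at hd)]
    have : 121 ∣ 34974720 := (Nat.mul_dvd_mul_left 11 h11).trans hd
    norm_num at this
  have h11n : ∀ χ ∈ S.Z, ¬ 11 ∣ MEleven.deg χ := fun χ hχ h =>
    not_full_part S (by norm_num) (by decide) hbC hb hχ (hfac11 (S.deg_dvd (by rw [hcard]) hχ) h)
  have hone : ∀ χ ∈ S.Z, χ ≠ Small.one' G → MEleven.deg χ ∈ cand77 := by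
    intro χ hχ h1
    have hd : MEleven.deg χ ∣ 3179520 := by
      refine (Nat.Coprime.dvd_of_dvd_mul_left ((Nat.Prime.coprime_iff_not_dvd (by norm_num)).2 (h11n χ hχ)).symm
        (?_ : MEleven.deg χ ∣ 11 * 3179520))
      exact (show 34974720 = 11 * 3179520 by norm_num) ▸ S.deg_dvd (by rw [hcard]) hχ
    refine List.mem_filter.2 ⟨mem_divs77 hd, ?_⟩
    have hsq : MEleven.deg χ * MEleven.deg χ + 1 ≤ 244823040 := by
      have h' := MEleven.sum_sq_deg_le {χ, Small.one' G}
      rw [Finset.sum_pair h1, hcard] at h'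
      have h1d : MEleven.deg (Small.one' G) = 1 := deg_triv
      rw [h1d] at h'
      nlinarith
    have h14 : 14 ≤ MEleven.deg χ := by
      by_contra hlt
      have h := S.small hncyc (by rw [pow_two]; exact hsq7) hχ h1 (by show MEleven.deg χ < 2 * 7; omega)
      rw [hv] at h
      have h11' := Nat.le_of_dvd (by omega) h11
      omega
    have h23 : MEleven.deg χ % 23 = 0 ∨ MEleven.deg χ % 23 = 1 ∨ MEleven.deg χ % 23 = 22 ∨
        MEleven.deg χ % 23 = 11 ∨ MEleven.deg χ % 23 = 12 := hr23 χ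
    simp only [Bool.and_eq_true, Nat.ble_eq, List.contains_eq_mem, decide_eq_true_eq, List.mem_cons,
      List.not_mem_nil, or_false]
    exact ⟨⟨h14, hsq⟩, by omega⟩
  have hsign : ∀ χ ∈ S.X, ((MEleven.deg χ % 7 = 1 ∨ MEleven.deg χ % 7 = 6) ∧
      (χ ≠ Small.one' G → (enc77 (MEleven.deg χ) : ℤ) = 20000 + S.σ χ * MEleven.deg χ)) := by
    intro χ hχ
    have h := S.cong χ hχ
    unfold Int.ModEq at h
    have hs := S.sign χ (S.mem_Z.2 (Or.inr hχ))
    refine ⟨by rcases hs with hs | hs <;> rw [hs] at h <;> simp only [MEleven.deg] <;> omega, fun h1 => ?_⟩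
    have hle : MEleven.deg χ ≤ 20000 := by
      exact le_of_mem_cand77 (hone χ (S.mem_Z.2 (Or.inr hχ)) h1)
    rcases hs with hs | hs <;> rw [hs] at h ⊢
    · have : MEleven.deg χ % 7 = 1 := by simp only [MEleven.deg]; omega
      simp [enc77, this]
    · have : MEleven.deg χ % 7 = 6 := by simp only [MEleven.deg]; omega
      simp [enc77, this, Nat.cast_sub hle]
      ring
  have hrel : ∑ χ ∈ S.Z, S.σ χ * (MEleven.deg χ : ℤ) = 0 := S.rel_deg
  rw [← Finset.add_sum_erase _ _ S.one_mem, S.sign_one, show MEleven.deg (Small.one' G) = 1 from deg_triv] at hrel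
  set R := S.Z.erase (Small.one' G) with hR
  have hRc : R.card = e := by rw [hR, Finset.card_erase_of_mem S.one_mem, S.card_Z]; rfl
  have hRmem : ∀ χ ∈ R, χ ∈ S.Z ∧ χ ≠ Small.one' G := fun χ h =>
    ⟨Finset.mem_of_mem_erase h, Finset.ne_of_mem_erase h⟩
  have he236 : e = 2 ∨ e = 3 ∨ e = 6 := by
    have h := Nat.mem_divisors.2 ⟨hed, by norm_num⟩
    rw [show Nat.divisors (7 - 1) = ({1, 2, 3, 6} : Finset ℕ) from by decide] at h
    simp only [Finset.mem_insert, Finset.mem_singleton] at h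
    omega
  have hθone : e ≠ 6 → S.θ ≠ Small.one' G := by
    intro h6 h1
    have h := S.congθ
    rw [h1, S.sign_one, show charDegree (Small.one' G : G → ℂ) = 1 from deg_triv] at h
    unfold Int.ModEq at h
    rcases he236 with rfl | rfl | rfl <;> first | exact absurd rfl h6 | norm_num at h
  have hθc : S.σ S.θ = 1 ∧ MEleven.deg S.θ % 7 = 7 - e % 7 ∨ S.σ S.θ = -1 ∧ MEleven.deg S.θ % 7 = e % 7 := by
    have h := S.congθ
    unfold Int.ModEq at h
    rcases S.sign _ (S.mem_Z.2 (Or.inl rfl)) with hs | hs <;> rw [hs] at h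
    · exact Or.inl ⟨hs, by simp only [MEleven.deg]; rcases he236 with rfl | rfl | rfl <;> omega⟩
    · exact Or.inr ⟨hs, by simp only [MEleven.deg]; rcases he236 with rfl | rfl | rfl <;> omega⟩
  have hRθ : e ≠ 6 → R = insert S.θ (S.X.erase (Small.one' G)) := fun h6 => by
    rw [hR, S.Z_eq, Finset.erase_insert_of_ne (hθone h6)]
  have hXc : e ≠ 6 → (S.X.erase (Small.one' G)).card = e - 1 := fun h6 => by
    rw [Finset.card_erase_of_mem ((S.mem_Z.1 S.one_mem).resolve_left (hθone h6).symm), S.card_X]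
  have hθnot : S.θ ∉ S.X.erase (Small.one' G) := fun h => S.θ_notMem (Finset.mem_of_mem_erase h)
  rcases he236 with rfl | rfl | rfl
  · obtain ⟨χ, hχ⟩ := Finset.card_eq_one.1 (hXc (by norm_num))
    have hχX : χ ∈ S.X ∧ χ ≠ Small.one' G := by
      have : χ ∈ S.X.erase (Small.one' G) := by rw [hχ]; exact Finset.mem_singleton_self χ
      exact ⟨Finset.mem_of_mem_erase this, Finset.ne_of_mem_erase this⟩
    rw [hRθ (by norm_num), Finset.sum_insert hθnot, hχ, Finset.sum_singleton] at hrel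
    have h := List.all_eq_true.1 (List.all_eq_true.1 two_check _ (hone χ (S.mem_Z.2 (Or.inr hχX.1)) hχX.2))
      _ (hone S.θ (S.mem_Z.2 (Or.inl rfl)) (hθone (by norm_num)))
    obtain ⟨hm, henc⟩ := hsign χ hχX.1
    have henc := henc hχX.2
    have hle : MEleven.deg S.θ ≤ 20000 := by
      exact le_of_mem_cand77 (hone S.θ (S.mem_Z.2 (Or.inl rfl)) (hθone (by norm_num)))
    simp only [Bool.or_eq_true, Bool.and_eq_true, Bool.not_eq_true', beq_eq_false_iff_ne, beq_iff_eq,
      Bool.and_eq_false_iff, Bool.or_eq_false_iff, ne_eq] at h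
    rcases hθc with ⟨hs, hc⟩ | ⟨hs, hc⟩ <;> rw [hs] at hrel <;> norm_num [hc] at h hrel <;> omega
  · obtain ⟨χ, ψ, hne, hχψ⟩ := Finset.card_eq_two.1 (hXc (by norm_num))
    have hm2 : ∀ φ, φ = χ ∨ φ = ψ → φ ∈ S.X ∧ φ ≠ Small.one' G := fun φ hφ => by
      have : φ ∈ S.X.erase (Small.one' G) := by rw [hχψ]; simpa using hφ
      exact ⟨Finset.mem_of_mem_erase this, Finset.ne_of_mem_erase this⟩
    obtain ⟨hχX, hχ1⟩ := hm2 χ (Or.inl rfl)
    obtain ⟨hψX, hψ1⟩ := hm2 ψ (Or.inr rfl)
    rw [hRθ (by norm_num), Finset.sum_insert hθnot, hχψ, Finset.sum_pair hne] at hrel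
    have h := List.all_eq_true.1 (List.all_eq_true.1 (List.all_eq_true.1 three_check _
      (hone χ (S.mem_Z.2 (Or.inr hχX)) hχ1)) _ (hone ψ (S.mem_Z.2 (Or.inr hψX)) hψ1))
      _ (hone S.θ (S.mem_Z.2 (Or.inl rfl)) (hθone (by norm_num)))
    obtain ⟨hmχ, hencχ⟩ := hsign χ hχX
    obtain ⟨hmψ, hencψ⟩ := hsign ψ hψX
    have hencχ := hencχ hχ1
    have hencψ := hencψ hψ1
    have hle : MEleven.deg S.θ ≤ 20000 := by
      exact le_of_mem_cand77 (hone S.θ (S.mem_Z.2 (Or.inl rfl)) (hθone (by norm_num)))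
    simp only [Bool.or_eq_true, Bool.and_eq_true, Bool.not_eq_true', beq_eq_false_iff_ne, beq_iff_eq,
      Bool.and_eq_false_iff, Bool.or_eq_false_iff, ne_eq] at h
    have h69 : MEleven.deg χ = 69 ∨ MEleven.deg ψ = 69 := by
      rcases hθc with ⟨hs, hc⟩ | ⟨hs, hc⟩ <;> rw [hs] at hrel <;> norm_num [hc] at h hrel <;> omega
    -- the member of degree 69
    obtain ⟨φ, hφX, hφ⟩ : ∃ φ ∈ S.Z, MEleven.deg φ = 69 := by
      rcases h69 with h | h
      · exact ⟨χ, S.mem_Z.2 (Or.inr hχX), h⟩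
      · exact ⟨ψ, S.mem_Z.2 (Or.inr hψX), h⟩
    obtain ⟨k, hk⟩ := exists_fix φ b
    rw [hb] at hk
    have hmodk := fix_modEq S (by norm_num) (by norm_num) hbC hb hφX hk
    obtain ⟨hk6, hk9⟩ := fix_sixtyNine hcard hφ hb hk
    rw [hφ] at hmodk
    unfold Int.ModEq at hmodk
    obtain rfl : k = 6 := by omega
    -- an element of the normalizer acting on `b`
    have hsq11 : ¬ 11 * 11 ∣ Nat.card G := hcard ▸ by norm_num
    have hf11 : (Nat.card G).factorization 11 = 1 := by
      rw [hcard, show 244823040 = 11 ^ 1 * 22256640 by norm_num,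
        factorization_eq (by norm_num) (by norm_num) (by norm_num)]
    let Q : Sylow 11 G := Sylow.ofCard (Subgroup.zpowers b) (by rw [Nat.card_zpowers, hb, hf11, pow_one])
    have hQb : (Q : Subgroup G) = Subgroup.zpowers b := Sylow.coe_ofCard _ _
    have he11 := (Order175560.relIndex_centralizer (hcard ▸ by norm_num) hsq11 (by rw [hcard]; norm_num) Q).2.1
    obtain ⟨g, hgN, hgC⟩ : ∃ g ∈ Subgroup.normalizer ((Q : Subgroup G) : Set G), g ∉ C[(Q : Subgroup G)] := by
      by_contra hno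
      push Not at hno
      rw [Subgroup.relIndex_eq_one.2 hno] at he11
      omega
    have hgb : g * b * g⁻¹ ∈ (Q : Subgroup G) :=
      (Subgroup.mem_normalizer_iff.1 hgN b).1 (hQb ▸ Subgroup.mem_zpowers b)
    rw [hQb, mem_zpowers_iff_mem_range_orderOf, hb, Finset.mem_image] at hgb
    obtain ⟨j, hj, hjb⟩ := hgb
    rw [Finset.mem_range] at hj
    refine no_invariant_sum φ hb (j := j) ?_ ?_ ?_ ?_
    · rw [Nat.mod_eq_of_lt hj]
      rintro rfl
      rw [pow_zero, eq_comm, mul_inv_eq_one, mul_eq_left] at hjb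
      rw [hjb, orderOf_one] at hb
      norm_num at hb
    · rw [Nat.mod_eq_of_lt hj]
      rintro rfl
      rw [pow_one, eq_comm, mul_inv_eq_iff_eq_mul] at hjb
      exact hgC ((mem_centralizer_sylow Q hQb).2 (show Commute b g from hjb.symm))
    · intro i
      rw [mul_comm i, pow_mul, hjb, conj_pow, φ.2.isClassFunction]
    · rw [← sum_zpowers_range φ hb, hk, MEleven.apply_one, hφ]
      norm_num
  · have hw : ∃ r : ℕ, (r = 3 ∨ r = 5) ∧ r ∣ v := by
      obtain ⟨w, rfl⟩ := h11
      have hw' : Nat.card (Sylow 7 G) * w = 529920 := by rw [← hve] at hmul; nlinarith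
      have hwd : w ∣ 529920 := Dvd.intro_left _ hw'
      have hw0 : 0 < w := Nat.pos_of_dvd_of_pos hwd (by norm_num)
      have h := List.all_eq_true.1 cof_check w (mem_divs77 (hwd.trans (by norm_num)))
      have hq : 529920 / w = Nat.card (Sylow 7 G) := by rw [← hw', Nat.mul_div_cancel _ hw0]
      have hq0 : 529920 % w = 0 := Nat.mod_eq_zero_of_dvd hwd
      simp only [Bool.or_eq_true, Bool.not_eq_true', beq_eq_false_iff_ne, beq_iff_eq, hq, hq0, ne_eq, hmod,
        not_true_eq_false, false_or] at h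
      rcases h with h | h
      · exact ⟨3, Or.inl rfl, dvd_mul_of_dvd_right (Nat.dvd_of_mod_eq_zero h) 11⟩
      · exact ⟨5, Or.inr rfl, dvd_mul_of_dvd_right (Nat.dvd_of_mod_eq_zero h) 11⟩
    obtain ⟨r, hr, hrv⟩ := hw
    haveI : Fact r.Prime := ⟨by rcases hr with rfl | rfl <;> norm_num⟩
    obtain ⟨⟨w, hwC⟩, hwo⟩ := exists_prime_orderOf_dvd_card' (G := C[(P : Subgroup G)]) r
      (hv ▸ dvd_mul_of_dvd_right hrv 7)
    rw [Subgroup.orderOf_mk] at hwo
    have hfull : ∀ χ ∈ S.Z, MEleven.deg χ % (if r = 3 then 27 else 5) ≠ 0 := by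
      intro χ hχ h
      refine not_full_part S (by omega) (by rcases hr with rfl | rfl <;> decide) hwC hwo hχ ?_
      have hd := S.deg_dvd (show Nat.card G = 7 * 34974720 by rw [hcard]) hχ
      rcases hr with rfl | rfl <;> norm_num at h
      · obtain ⟨m, hm⟩ := Nat.dvd_of_mod_eq_zero h
        change MEleven.deg χ ∣ _ at hd
        rw [hm] at hd ⊢
        rw [hcard, show 244823040 = 3 ^ 3 * 9067520 by norm_num,
          factorization_eq (by norm_num) (by norm_num) (by norm_num), show 27 * m = 3 ^ 3 * m by norm_num,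
          factorization_eq (by norm_num) (fun h3 => by
            have : 81 ∣ 34974720 := (Nat.mul_dvd_mul_left 27 h3).trans hd
            norm_num at this) (by rintro rfl; norm_num at hd)]
      · obtain ⟨m, hm⟩ := Nat.dvd_of_mod_eq_zero h
        change MEleven.deg χ ∣ _ at hd
        rw [hm] at hd ⊢
        rw [hcard, show 244823040 = 5 ^ 1 * 48964608 by norm_num,
          factorization_eq (by norm_num) (by norm_num) (by norm_num), show 5 * m = 5 ^ 1 * m by norm_num,
          factorization_eq (by norm_num) (fun h3 => by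
            have : 25 ∣ 34974720 := (Nat.mul_dvd_mul_left 5 h3).trans hd
            norm_num at this) (by rintro rfl; norm_num at hd)]
    have hall : ∀ χ ∈ R, (MEleven.deg χ % 7 = 1 ∨ MEleven.deg χ % 7 = 6) ∧
        (enc77 (MEleven.deg χ) : ℤ) = 20000 + S.σ χ * MEleven.deg χ := by
      intro χ hχ
      obtain ⟨hχZ, hχ1⟩ := hRmem χ hχ
      rcases S.mem_Z.1 hχZ with rfl | hX
      · have hle : MEleven.deg S.θ ≤ 20000 := by
          exact le_of_mem_cand77 (hone S.θ hχZ hχ1)
        rcases hθc with ⟨hs, hc⟩ | ⟨hs, hc⟩ <;> norm_num at hc <;> rw [hs]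
        · exact ⟨Or.inl hc, by simp [enc77, hc]⟩
        · refine ⟨Or.inr hc, ?_⟩
          simp [enc77, hc, Nat.cast_sub hle]
          ring
      · exact ⟨(hsign χ hX).1, (hsign χ hX).2 hχ1⟩
    set T := R.val.map fun χ => enc77 (MEleven.deg χ) with hT
    have hTm : ∀ d ∈ T, d ∈ mem77 (if r = 3 then 27 else 5) := by
      intro d hd
      obtain ⟨χ, hχ, rfl⟩ := Multiset.mem_map.1 hd
      refine List.mem_map.2 ⟨MEleven.deg χ, List.mem_filter.2 ⟨List.mem_filter.2
        ⟨hone χ (hRmem χ hχ).1 (hRmem χ hχ).2, ?_⟩, ?_⟩, rfl⟩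
      · simpa using (hall χ hχ).1
      · simpa using hfull χ (hRmem χ hχ).1
    have hchk : Search.allComb 6 (mem77 (if r = 3 then 27 else 5)) (fun l => !(l.sum + 1 == 120000)) = true := by
      rcases hr with rfl | rfl
      · exact six_three
      · exact six_five
    obtain ⟨l, hl, hls⟩ := Search.allComb_sound 6 _ _ hchk T (by rw [hT, Multiset.card_map]; exact hRc) hTm
    have hsum : (l.sum : ℤ) = 120000 + ∑ χ ∈ R, S.σ χ * (MEleven.deg χ : ℤ) := by
      rw [← Multiset.sum_coe, hl, hT]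
      have h1 : (((R.val.map fun χ => enc77 (MEleven.deg χ)).sum : ℕ) : ℤ) =
          ∑ χ ∈ R, (enc77 (MEleven.deg χ) : ℤ) := by
        exact (Nat.cast_sum R fun χ => enc77 (MEleven.deg χ))
      rw [h1, Finset.sum_congr rfl fun χ hχ => (hall χ hχ).2, Finset.sum_add_distrib, Finset.sum_const, hRc]
      norm_num
    simp only [Bool.not_eq_true', beq_eq_false_iff_ne, ne_eq] at hls
    omega

/-- The centralizer of a Sylow 11-subgroup has order prime to 7. -/
theorem not_seven_dvd [Fact (Nat.Prime 11)] (hcard : Nat.card G = 244823040) (P : Sylow 11 G) :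
    ¬ 7 ∣ Nat.card C[(P : Subgroup G)] := by
  intro h
  haveI : Fact (Nat.Prime 7) := ⟨by norm_num⟩
  obtain ⟨⟨a, haC⟩, ha⟩ := exists_prime_orderOf_dvd_card' (G := C[(P : Subgroup G)]) 7 h
  rw [Subgroup.orderOf_mk] at ha
  have hP : Nat.card (P : Subgroup G) = 11 :=
    Order175560.sylow_card_eq (hcard ▸ by norm_num) (hcard ▸ by norm_num) P
  obtain ⟨⟨b, hbP⟩, hb⟩ := exists_prime_orderOf_dvd_card' (G := (P : Subgroup G)) 11 (by rw [hP])
  rw [Subgroup.orderOf_mk] at hb
  exact not_commute_seven_eleven hcard ha hb (Subgroup.mem_centralizer_iff.1 haC b hbP).symm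

/-- The centralizer of a Sylow 7-subgroup has order prime to 11. -/
theorem not_eleven_dvd [Fact (Nat.Prime 7)] (hcard : Nat.card G = 244823040) (P : Sylow 7 G) :
    ¬ 11 ∣ Nat.card C[(P : Subgroup G)] := by
  intro h
  haveI : Fact (Nat.Prime 11) := ⟨by norm_num⟩
  obtain ⟨⟨b, hbC⟩, hb⟩ := exists_prime_orderOf_dvd_card' (G := C[(P : Subgroup G)]) 11 h
  rw [Subgroup.orderOf_mk] at hb
  have hP : Nat.card (P : Subgroup G) = 7 :=
    Order175560.sylow_card_eq (hcard ▸ by norm_num) (hcard ▸ by norm_num) P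
  obtain ⟨⟨a, haP⟩, ha⟩ := exists_prime_orderOf_dvd_card' (G := (P : Subgroup G)) 7 (by rw [hP])
  rw [Subgroup.orderOf_mk] at ha
  exact not_commute_seven_eleven hcard ha hb (Subgroup.mem_centralizer_iff.1 hbC a haP)

end Cfsg.Lib.MTwentyFour
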