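import Cfsg.Agent.Lib.MEleven.Basic
import Cfsg.Agent.Lib.Small.BlockOrders
import Cfsg.Agent.Lib.MTwentyTwo.Values

/-!
The multiplicity of the trivial character on an element centralizing a Sylow subgroup of prime order
is congruent to the degree for the members of the principal family.
-/

set_option autoImplicit false
set_option linter.style.haveILetI false
set_option linter.unusedSectionVars false

namespace Cfsg.Lib.MTwentyFour

open Cfsg Cfsg.Lib
open scoped Classical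

universe u

noncomputable local instance (priority := high) fintypeSubgroupMult {A : Type u}
    [Group A] [Fintype A] (H : Subgroup A) : Fintype H := Fintype.ofFinite H

variable {G : Type u} [Group G] [Fintype G]

/-- Commuting elements of coprime order: the sum over the product group. -/
theorem exists_nat_sum_mul (χ : IrrCharacter G) {a b : G} (hab : Commute a b)
    (hcop : (orderOf a).Coprime (orderOf b)) :
    ∃ n : ℕ, ∑ u : Subgroup.zpowers a, ∑ v : Subgroup.zpowers b, (χ : G → ℂ) (u * v) =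
      ((orderOf a * orderOf b * n : ℕ) : ℂ) := by
  classical
  set g := a * b with hg
  have hgo : orderOf g = orderOf a * orderOf b := hab.orderOf_mul_eq_mul_orderOf_of_coprime hcop
  have hcard : Nat.card (Subgroup.zpowers g) = orderOf a * orderOf b := by rw [Nat.card_zpowers, hgo]
  obtain ⟨i, hi⟩ := exists_pow_eq_self_of_coprime (x := a) (n := orderOf b) hcop.symm
  obtain ⟨j, hj⟩ := exists_pow_eq_self_of_coprime (x := b) (n := orderOf a) hcop
  have ha : a ∈ Subgroup.zpowers g := by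
    have h1 : (g ^ orderOf b) ^ i = a := by
      rw [hg, hab.mul_pow, pow_orderOf_eq_one, mul_one, hi]
    exact h1 ▸ Subgroup.pow_mem _ (Subgroup.pow_mem _ (Subgroup.mem_zpowers g) _) _
  have hb : b ∈ Subgroup.zpowers g := by
    have h1 : (g ^ orderOf a) ^ j = b := by
      rw [hg, hab.mul_pow, pow_orderOf_eq_one, one_mul, hj]
    exact h1 ▸ Subgroup.pow_mem _ (Subgroup.pow_mem _ (Subgroup.mem_zpowers g) _) _
  let f : Subgroup.zpowers a × Subgroup.zpowers b → Subgroup.zpowers g := fun q =>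
    ⟨(q.1 : G) * q.2, mul_mem (Subgroup.zpowers_le.2 ha q.1.2) (Subgroup.zpowers_le.2 hb q.2.2)⟩
  have hinj : Function.Injective f := by
    rintro ⟨u, v⟩ ⟨u', v'⟩ h
    have h' : (u : G) * v = u' * v' := congrArg Subtype.val h
    have h2 : (u' : G)⁻¹ * u = v' * (v : G)⁻¹ := by
      rw [eq_mul_inv_iff_mul_eq, mul_assoc, h', inv_mul_cancel_left]
    have hu : (u' : G)⁻¹ * u ∈ Subgroup.zpowers a := mul_mem (inv_mem u'.2) u.2
    have hv : (u' : G)⁻¹ * u ∈ Subgroup.zpowers b := h2 ▸ mul_mem v'.2 (inv_mem v.2)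
    have h1 : (u' : G)⁻¹ * u = 1 := orderOf_eq_one_iff.1
      (Nat.eq_one_of_dvd_coprimes hcop (orderOf_dvd_of_mem_zpowers hu) (orderOf_dvd_of_mem_zpowers hv))
    obtain rfl : u' = u := Subtype.ext (inv_mul_eq_one.1 h1)
    obtain rfl : v = v' := Subtype.ext (mul_left_cancel h')
    rfl
  have hbij : Function.Bijective f := (Fintype.bijective_iff_injective_and_card f).2 ⟨hinj, by
    simp only [← Nat.card_eq_fintype_card, Nat.card_prod, Nat.card_zpowers, hgo]⟩
  obtain ⟨n, hn⟩ := MEleven.exists_nat_sum χ (Subgroup.zpowers g)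
  refine ⟨n, ?_⟩
  rw [← hcard, ← hn, ← Fintype.sum_bijective f hbij (fun q => (χ : G → ℂ) ((q.1 : G) * q.2)) _
    (fun q => rfl), Fintype.sum_prod_type]

/-- The number of fixed vectors of an element. -/
theorem exists_fix (χ : IrrCharacter G) (w : G) :
    ∃ k : ℕ, ∑ v : Subgroup.zpowers w, (χ : G → ℂ) v = ((orderOf w * k : ℕ) : ℂ) := by
  obtain ⟨k, hk⟩ := MEleven.exists_nat_sum χ (Subgroup.zpowers w)
  exact ⟨k, by rw [hk, Nat.card_zpowers]⟩

theorem sum_zpowers_split (χ : IrrCharacter G) (w : G) :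
    ∑ v : Subgroup.zpowers w, (χ : G → ℂ) v = (MEleven.deg χ : ℂ) +
      ∑ v ∈ Finset.univ.erase (1 : Subgroup.zpowers w), (χ : G → ℂ) v := by
  classical
  rw [← Finset.add_sum_erase _ _ (Finset.mem_univ (1 : Subgroup.zpowers w)), OneMemClass.coe_one,
    MEleven.apply_one]

theorem card_erase_one (w : G) :
    (Finset.univ.erase (1 : Subgroup.zpowers w)).card = orderOf w - 1 := by
  classical
  rw [Finset.card_erase_of_mem (Finset.mem_univ _), Finset.card_univ, ← Nat.card_eq_fintype_card,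
    Nat.card_zpowers]

variable {p : ℕ} [Fact p.Prime] {P : Sylow p G} {e : ℕ}

/-- The fixed vectors of an element of prime order centralizing `P` are congruent to the degree. -/
theorem fix_modEq (S : Small.Shape P e) {r : ℕ} (hr : r.Prime) (hrp : r ≠ p) {w : G}
    (hw : w ∈ Subgroup.centralizer ((P : Subgroup G) : Set G)) (hwo : orderOf w = r)
    {χ : IrrCharacter G} (hχ : χ ∈ S.Z) {k : ℕ}
    (hk : ∑ v : Subgroup.zpowers w, (χ : G → ℂ) v = ((r * k : ℕ) : ℂ)) :
    (k : ℤ) ≡ MEleven.deg χ [ZMOD p] := by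
  classical
  have hpp : p.Prime := Fact.out
  have hone : ¬ p ∣ orderOf (1 : G) := by rw [orderOf_one]; exact hpp.not_dvd_one
  haveI : Nontrivial (P : Subgroup G) := by
    rw [← Finite.one_lt_card_iff_nontrivial, S.card_P]; exact hpp.one_lt
  obtain ⟨⟨x, hx⟩, hx1'⟩ := exists_ne (1 : (P : Subgroup G))
  have hx1 : x ≠ 1 := fun h => hx1' (Subtype.ext h)
  have hPx := Small.zpowers_eq_of_prime_card S.card_P hx hx1
  have hxo : orderOf x = p := by rw [← Nat.card_zpowers, hPx, S.card_P]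
  have hxw : Commute x w := Subgroup.mem_centralizer_iff.1 hw x hx
  have hcop : (orderOf x).Coprime (orderOf w) := by
    rw [hxo, hwo]; exact (Nat.coprime_primes hpp hr).2 (Ne.symm hrp)
  have hreg : ∀ v : Subgroup.zpowers w, ¬ p ∣ orderOf (v : G) := fun v h => hrp
    ((Nat.prime_dvd_prime_iff_eq hpp hr).1 (h.trans (hwo ▸ orderOf_dvd_of_mem_zpowers v.2))).symm
  have hvC : ∀ v : Subgroup.zpowers w, (v : G) ∈ Subgroup.centralizer ((P : Subgroup G) : Set G) :=
    fun v => Subgroup.zpowers_le.2 hw v.2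
  choose kf hkf using fun ψ : IrrCharacter G => exists_fix ψ w
  simp only [hwo] at hkf
  have hX : ∀ ψ ∈ S.X, (kf ψ : ℤ) ≡ MEleven.deg ψ [ZMOD p] := by
    intro ψ hψ
    obtain ⟨n, hn⟩ := exists_nat_sum_mul ψ hxw hcop
    obtain ⟨m, hm⟩ := exists_fix ψ x
    have hu : ∀ u ∈ Finset.univ.erase (1 : Subgroup.zpowers x), ∀ v : Subgroup.zpowers w,
        (ψ : G → ℂ) ((u : G) * v) = (S.σ ψ : ℂ) := fun u hu v =>
      S.val ψ hψ _ (SetLike.ext_iff.1 hPx _ |>.1 u.2)
        (fun h => Finset.ne_of_mem_erase hu (Subtype.ext h)) _ (hvC v) (hreg v)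
    rw [← Finset.add_sum_erase _ _ (Finset.mem_univ (1 : Subgroup.zpowers x))] at hn
    simp only [OneMemClass.coe_one, one_mul, hkf] at hn
    rw [Finset.sum_congr rfl fun u h => Finset.sum_congr rfl fun v _ => hu u h v] at hn
    simp only [Finset.sum_const, nsmul_eq_mul, card_erase_one, Finset.card_univ, hxo, hwo,
      ← Nat.card_eq_fintype_card, Nat.card_zpowers] at hn
    have hu1 : ∀ u ∈ Finset.univ.erase (1 : Subgroup.zpowers x), (ψ : G → ℂ) (u : G) = (S.σ ψ : ℂ) :=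
      fun u h => by simpa using hu u h 1
    rw [sum_zpowers_split, Finset.sum_congr rfl hu1, Finset.sum_const, nsmul_eq_mul, card_erase_one, hxo] at hm
    have h1 : (r : ℤ) * ((kf ψ : ℤ) + ((p - 1 : ℕ) : ℤ) * S.σ ψ) = (r : ℤ) * ((p : ℤ) * n) := by
      have : ((r * kf ψ : ℕ) : ℤ) + ((p - 1 : ℕ) : ℤ) * ((r : ℤ) * S.σ ψ) = ((p * r * n : ℕ) : ℤ) := by
        exact_mod_cast hn
      push_cast at this ⊢
      linear_combination this
    have h2 : (MEleven.deg ψ : ℤ) + ((p - 1 : ℕ) : ℤ) * S.σ ψ = ((p * m : ℕ) : ℤ) := by exact_mod_cast hm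
    have h3 := mul_left_cancel₀ (Int.natCast_ne_zero.2 hr.ne_zero) h1
    refine Int.modEq_iff_dvd.2 ⟨(m : ℤ) - n, ?_⟩
    push_cast at h2
    linear_combination h2 - h3
  have hkχ : k = kf χ := by
    have h := hk.symm.trans (hkf χ)
    exact Nat.eq_of_mul_eq_mul_left hr.pos (by exact_mod_cast h)
  rw [hkχ]
  rcases S.mem_Z.1 hχ with rfl | h
  swap
  · exact hX χ h
  have hlin : ∑ ψ ∈ S.Z, S.σ ψ * (kf ψ : ℤ) = 0 := by
    have h0 : ∑ v : Subgroup.zpowers w, ∑ ψ ∈ S.Z, (S.σ ψ : ℂ) * (ψ : G → ℂ) v = 0 :=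
      Finset.sum_eq_zero fun v _ => S.rel v (hreg v)
    rw [Finset.sum_comm] at h0
    simp only [← Finset.mul_sum, hkf] at h0
    have h1 : (r : ℤ) * ∑ ψ ∈ S.Z, S.σ ψ * (kf ψ : ℤ) = 0 := by
      rw [Finset.mul_sum]
      have : ∑ ψ ∈ S.Z, S.σ ψ * ((r * kf ψ : ℕ) : ℤ) = 0 := by exact_mod_cast h0
      rw [← this]
      exact Finset.sum_congr rfl fun ψ _ => by push_cast; ring
    exact (mul_eq_zero.1 h1).resolve_left (Int.natCast_ne_zero.2 hr.ne_zero)
  have hdeg : ∑ ψ ∈ S.Z, S.σ ψ * (MEleven.deg ψ : ℤ) = 0 := S.rel_deg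
  rw [S.Z_eq, Finset.sum_insert S.θ_notMem] at hlin hdeg
  have hd : (p : ℤ) ∣ ∑ ψ ∈ S.X, S.σ ψ * ((MEleven.deg ψ : ℤ) - kf ψ) :=
    Finset.dvd_sum fun ψ h => dvd_mul_of_dvd_right (Int.modEq_iff_dvd.1 (hX ψ h)) _
  simp only [mul_sub, Finset.sum_sub_distrib] at hd
  refine Int.modEq_iff_dvd.2 ?_
  rcases S.sign _ (S.mem_Z.2 (Or.inl rfl)) with hs | hs <;> rw [hs] at hlin hdeg
  · have e1 : (MEleven.deg S.θ : ℤ) - kf S.θ =
        -(∑ ψ ∈ S.X, S.σ ψ * (MEleven.deg ψ : ℤ) - ∑ ψ ∈ S.X, S.σ ψ * (kf ψ : ℤ)) := by linarith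
    rw [e1]; exact hd.neg_right
  · have e1 : (MEleven.deg S.θ : ℤ) - kf S.θ =
        ∑ ψ ∈ S.X, S.σ ψ * (MEleven.deg ψ : ℤ) - ∑ ψ ∈ S.X, S.σ ψ * (kf ψ : ℤ) := by linarith
    rw [e1]; exact hd

/-- No member of the family has full `r`-part for a prime `r` dividing the centralizer. -/
theorem not_full_part (S : Small.Shape P e) {r : ℕ} [hr : Fact r.Prime] (hrp : r ≠ p) (hr1 : ¬ r ≡ 1 [MOD p])
    {w : G} (hw : w ∈ Subgroup.centralizer ((P : Subgroup G) : Set G)) (hwo : orderOf w = r)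
    {χ : IrrCharacter G} (hχ : χ ∈ S.Z) :
    (MEleven.deg χ).factorization r ≠ (Nat.card G).factorization r := by
  classical
  intro hd
  obtain ⟨k, hk⟩ := exists_fix χ w
  rw [hwo] at hk
  have h := fix_modEq S hr.out hrp hw hwo hχ hk
  rw [sum_zpowers_split, Finset.sum_eq_zero fun v hv => MEleven.apply_eq_zero_of_defectZero χ hd
    (by
      have hv1 : (v : G) ≠ 1 := fun e => Finset.ne_of_mem_erase hv (Subtype.ext e)
      rcases (Nat.dvd_prime hr.out).1 (hwo ▸ orderOf_dvd_of_mem_zpowers v.2) with h | h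
      · exact absurd (orderOf_eq_one_iff.1 h) hv1
      · exact dvd_of_eq h.symm), add_zero] at hk
  have hk' : MEleven.deg χ = r * k := by exact_mod_cast hk
  rw [hk'] at h
  push_cast at h
  have h2 : (p : ℤ) ∣ ((r : ℤ) - 1) * k := by
    have := Int.modEq_iff_dvd.1 h
    rwa [sub_mul, one_mul]
  rcases (Int.Prime.dvd_mul' Fact.out h2) with h3 | h3
  · refine hr1 (Nat.ModEq.symm ((Nat.modEq_iff_dvd).2 ?_))
    simpa using h3
  · refine S.not_dvd_deg hχ ?_
    show p ∣ MEleven.deg χ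
    rw [hk']
    exact dvd_mul_of_dvd_right (Int.natCast_dvd_natCast.1 h3) r

/-- The congruence at an involution centralizing `P`. -/
theorem two_modEq (S : Small.Shape P e) (hp2 : p ≠ 2) {z : G}
    (hz : z ∈ Subgroup.centralizer ((P : Subgroup G) : Set G)) (hzo : orderOf z = 2)
    {χ : IrrCharacter G} (hχ : χ ∈ S.Z) {v : ℤ} (hv : (χ : G → ℂ) z = v) :
    ((2 * p : ℕ) : ℤ) ∣ v - MEleven.deg χ := by
  classical
  obtain ⟨k, hk⟩ := exists_fix χ z
  rw [hzo] at hk
  have h := fix_modEq S Nat.prime_two (Ne.symm hp2) hz hzo hχ hk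
  have hset : (Finset.univ.erase (1 : Subgroup.zpowers z)) = {⟨z, Subgroup.mem_zpowers z⟩} := by
    refine (Finset.eq_of_subset_of_card_le ?_ ?_).symm
    · intro q hq
      rw [Finset.mem_singleton.1 hq]
      refine Finset.mem_erase.2 ⟨fun e => ?_, Finset.mem_univ _⟩
      rw [show z = 1 from congrArg Subtype.val e, orderOf_one] at hzo
      exact absurd hzo (by norm_num)
    · rw [card_erase_one, hzo, Finset.card_singleton]
  rw [sum_zpowers_split, hset, Finset.sum_singleton, hv] at hk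
  have hk' : (MEleven.deg χ : ℤ) + v = 2 * (k : ℤ) := by exact_mod_cast hk
  obtain ⟨j, hj⟩ := Int.modEq_iff_dvd.1 h
  exact ⟨-j, by push_cast; linear_combination hk' - 2 * hj⟩

end Cfsg.Lib.MTwentyFour
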