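import Cfsg.Agent.Lib.MTwentyFour.Counts
import Cfsg.Agent.Lib.MTwentyFour.Mult
import Cfsg.Agent.Lib.Order175560.Local

/-!
In a simple group of order 244823040 the Sylow 23-subgroup is self-centralizing with automizer of
order 11.
-/

set_option autoImplicit false
set_option linter.style.haveILetI false
set_option linter.unusedSectionVars false
set_option maxHeartbeats 2000000

namespace Cfsg.Lib.MTwentyFour

open Cfsg Cfsg.Lib

universe u

local notation "C[" P "]" => Subgroup.centralizer (SetLike.coe P)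

noncomputable local instance (priority := high) fintypeSubgroupTT {A : Type u}
    [Group A] [Fintype A] (H : Subgroup A) : Fintype H := Fintype.ofFinite H

/-- The divisors of `10644480`. -/
def divs23 : List ℕ :=
  (List.range 11).flatMap fun a => (List.range 4).flatMap fun b => [1, 5].flatMap fun c =>
    [1, 7].flatMap fun d => [1, 11].map fun f => 2 ^ a * (3 ^ b * (c * (d * f)))

theorem mem_divs23 {n : ℕ} (h : n ∣ 10644480) : n ∈ divs23 := by
  rw [show 10644480 = 2 ^ 10 * (3 ^ 3 * (5 * (7 * 11))) by norm_num] at h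
  obtain ⟨a, x, ha, hx, rfl⟩ := Nat.dvd_mul.1 h
  obtain ⟨b, y, hb, hy, rfl⟩ := Nat.dvd_mul.1 hx
  obtain ⟨c, z, hc, hz, rfl⟩ := Nat.dvd_mul.1 hy
  obtain ⟨d, f, hd, hf, rfl⟩ := Nat.dvd_mul.1 hz
  obtain ⟨i, hi, rfl⟩ := (Nat.dvd_prime_pow Nat.prime_two).1 ha
  obtain ⟨j, hj, rfl⟩ := (Nat.dvd_prime_pow Nat.prime_three).1 hb
  simp only [divs23, List.mem_flatMap, List.mem_map, List.mem_range]
  refine ⟨i, by omega, j, by omega, c, ?_, d, ?_, f, ?_, rfl⟩
  · simpa using (Nat.dvd_prime Nat.prime_five).1 hc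
  · simpa using (Nat.dvd_prime (by norm_num)).1 hd
  · simpa using (Nat.dvd_prime (by norm_num)).1 hf

/-- The possible cofactors. -/
def optTest (n : ℕ) : Bool :=
  (10644480 / n % 23 != 1 || 10644480 / n == 1) || [2, 11, 22].all fun e =>
    n % e != 0 || (if n / e == 1 then e == 11 else
      (n / e % 3 == 0 || n / e % 5 == 0 || n / e % 7 == 0) &&
        (e == 2 || (n / e % 5 == 0 && n / e % 7 == 0) || (n / e % 2 == 0 && n / e % 1024 != 0)))

theorem opt_check : divs23.all optTest = true := by decide +kernel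

/-- No pair of consecutive degrees for an automizer of order 2. -/
def pairTest (d : ℕ) : Bool :=
  decide (d < 46) || ((d % 23 != 1 || 10644480 % (d + 1) != 0) && (d % 23 != 22 || 10644480 % (d - 1) != 0))

theorem pair_check : divs23.all pairTest = true := by decide +kernel

/-- The odd degrees. -/
def oddTest (d : ℕ) : Bool :=
  d % 2 == 0 || decide (d < 46) || !([1, 11, 12, 22].contains (d % 23)) || [231, 495, 10395].contains d

theorem odd_check : divs23.all oddTest = true := by decide +kernel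

theorem no_value {d : ℕ} {t : ℤ} {m : ℕ} (h46 : (46 : ℤ) ∣ t - d) (h4 : (t - d) % 4 = 0)
    (hlt : t.natAbs < d) (h11 : 11 ∣ d) (hm : (d : ℤ) + t = 22 * m) (hle : d ≤ 506) : False := by
  omega

theorem factorization_eq {r k m : ℕ} (hr : r.Prime) (hm : ¬ r ∣ m) (hm0 : m ≠ 0) :
    (r ^ k * m).factorization r = k := by
  rw [Nat.factorization_mul (pow_ne_zero _ hr.ne_zero) hm0, Finsupp.add_apply, hr.factorization_pow,
    Finsupp.single_eq_same, Nat.factorization_eq_zero_of_not_dvd hm, add_zero]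

variable {G : Type u} [Group G] [Finite G]

/-- An involution in the centralizer commuting with an element of order 11 of the normalizer. -/
theorem exists_inv_commute [Fact (Nat.Prime 23)] (P : Sylow 23 G) {v : ℕ}
    (hC : Nat.card C[(P : Subgroup G)] = 23 * v) (h2 : 2 ∣ v) (h1024 : ¬ 1024 ∣ v)
    (he : 11 ∣ (C[(P : Subgroup G)]).relIndex (Subgroup.normalizer ((P : Subgroup G) : Set G))) :
    ∃ z a : G, orderOf z = 2 ∧ z ∈ C[(P : Subgroup G)] ∧ orderOf a = 11 ∧ Commute a z := by
  classical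
  haveI : Fact (Nat.Prime 2) := ⟨Nat.prime_two⟩
  haveI : Fact (Nat.Prime 11) := ⟨by norm_num⟩
  set N := Subgroup.normalizer ((P : Subgroup G) : Set G) with hN
  set C' := (C[(P : Subgroup G)]).subgroupOf N with hC'
  haveI : C'.Normal := by
    rw [hC', ← (P : Subgroup G).normalizerMonoidHom_ker]
    exact MonoidHom.normal_ker _
  obtain ⟨S⟩ : Nonempty (Sylow 2 C') := inferInstance
  set R := (S : Subgroup C').map C'.subtype with hR
  set L := Subgroup.normalizer ((R : Subgroup N) : Set N) with hL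
  have htop : L ⊔ C' = ⊤ := Sylow.normalizer_sup_eq_top S
  have hrel : C'.relIndex L = C'.index := by
    rw [← Subgroup.relIndex_top_right C', ← htop, Subgroup.relIndex_sup_right]
  have h11 : 11 ∣ Nat.card L := by
    refine he.trans ?_
    rw [show (C[(P : Subgroup G)]).relIndex N = C'.index from rfl, ← hrel]
    exact Subgroup.index_dvd_card _
  obtain ⟨a, ha⟩ := exists_prime_orderOf_dvd_card' (G := L) 11 h11
  have hC'card : Nat.card C' = 23 * v := by
    rw [← hC]
    exact Nat.card_congr (Subgroup.subgroupOfEquivOfLe (Subgroup.centralizer_le_normalizer _)).toEquiv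
  obtain ⟨k, hk⟩ := IsPGroup.iff_card.1 S.2
  have hk1 : k ≠ 0 := by
    intro h0
    have h := S.card_eq_multiplicity
    rw [hk, h0, pow_zero, hC'card] at h
    have := Nat.Prime.factorization_pos_of_dvd Nat.prime_two (by rw [← hC'card]; exact Nat.card_pos.ne')
      (dvd_mul_of_dvd_right h2 23)
    have := Nat.one_lt_pow this.ne' (show 1 < 2 by norm_num)
    omega
  have hk9 : k ≤ 9 := by
    by_contra hk9
    refine h1024 (Nat.Coprime.dvd_of_dvd_mul_left (show Nat.Coprime 1024 23 by norm_num) ?_)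
    rw [← hC'card]
    exact (pow_dvd_pow 2 (show 10 ≤ k by omega)).trans (hk ▸ Subgroup.card_subgroup_dvd_card _)
  have hRcard : Nat.card R = 2 ^ k := (Subgroup.card_map_of_injective C'.subtype_injective).trans hk
  have haR : ∀ q ∈ R, ((a : N) * q * (a : N)⁻¹) ∈ R := fun q hq => (Subgroup.mem_normalizer_iff.1 a.2 q).1 hq
  let f : Function.End R := fun q => ⟨(a : N) * q * (a : N)⁻¹, haR q q.2⟩
  have hfi : ∀ (i : ℕ) (q : R), (((f ^ i) q : R) : N) = (a : N) ^ i * q * ((a : N) ^ i)⁻¹ := by
    intro i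
    induction i with
    | zero => intro q; simp; rfl
    | succ i ih =>
      intro q
      rw [pow_succ']
      show (a : N) * ((f ^ i) q : R) * (a : N)⁻¹ = _
      rw [ih, pow_succ']; group
  have haN : orderOf (a : N) = 11 := (Subgroup.orderOf_coe a).trans ha
  have hf : f ^ 11 ^ 1 = 1 := funext fun q => Subtype.ext (by
    rw [pow_one, hfi, ← haN, pow_orderOf_eq_one]; simp; rfl)
  haveI : Fintype R := Fintype.ofFinite R
  have hmod := Equiv.Perm.card_fixedPoints_modEq (p := 11) hf
  rw [← Nat.card_eq_fintype_card, hRcard] at hmod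
  obtain ⟨q, hq1⟩ : ∃ q : Function.fixedPoints f, q.1 ≠ 1 := by
    by_contra hall
    push Not at hall
    haveI : Subsingleton (Function.fixedPoints f) := ⟨fun x y => Subtype.ext ((hall x).trans (hall y).symm)⟩
    haveI : Nonempty (Function.fixedPoints f) := ⟨⟨1, Subtype.ext (by
      show (a : N) * ((1 : R) : N) * (a : N)⁻¹ = ((1 : R) : N); simp)⟩⟩
    rw [← Nat.card_eq_fintype_card, Nat.card_unique] at hmod
    revert hmod
    interval_cases k <;> simp_all [Nat.ModEq]
  have hcomm : Commute (a : N) ((q.1 : R) : N) :=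
    mul_inv_eq_iff_eq_mul.1 (congrArg Subtype.val q.2)
  obtain ⟨j, hj⟩ : ∃ j, orderOf (q.1 : R) = 2 ^ j :=
    ((Nat.dvd_prime_pow Nat.prime_two).1 (hRcard ▸ orderOf_dvd_natCard (q.1 : R))).imp fun j h => h.2
  have hj1 : 1 ≤ j := by
    rcases Nat.eq_zero_or_pos j with h | h
    · rw [h, pow_zero, orderOf_eq_one_iff] at hj; exact absurd hj hq1
    · exact h
  obtain ⟨i, rfl⟩ := Nat.exists_eq_add_of_le hj1
  set z := (q.1 : R) ^ (2 ^ i)
  have hz : orderOf z = 2 := by
    rw [orderOf_pow' _ (pow_ne_zero _ two_ne_zero), hj, Nat.gcd_eq_right (pow_dvd_pow 2 (by omega)),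
      pow_add, pow_one, Nat.mul_div_cancel _ (pow_pos two_pos _)]
  refine ⟨((z : N) : G), ((a : N) : G), ?_, ?_, ?_, ?_⟩
  · rw [Subgroup.orderOf_coe, Subgroup.orderOf_coe, hz]
  · obtain ⟨s, -, hs⟩ := z.2
    have : (z : N) ∈ C' := hs ▸ s.2
    exact this
  · rw [Subgroup.orderOf_coe, haN]
  · exact ((hcomm.pow_right (2 ^ i)).map N.subtype)

/-- The Sylow 23-subgroup. -/
theorem local_twentyThree [IsSimpleGroup G] [Fact (Nat.Prime 23)] (hcard : Nat.card G = 244823040)
    (P : Sylow 23 G) :
    Nat.card C[(P : Subgroup G)] = 23 ∧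
      (C[(P : Subgroup G)]).relIndex (Subgroup.normalizer ((P : Subgroup G) : Set G)) = 11 := by
  classical
  cases nonempty_fintype G
  have hd : 23 ∣ Nat.card G := hcard ▸ by norm_num
  have hsq : ¬ 23 * 23 ∣ Nat.card G := hcard ▸ by norm_num
  have hPc : Nat.card (P : Subgroup G) = 23 := Order175560.sylow_card_eq hd hsq P
  obtain ⟨⟨x, hxP⟩, hxo⟩ := exists_prime_orderOf_dvd_card' (G := (P : Subgroup G)) 23 (by rw [hPc])
  rw [Subgroup.orderOf_mk] at hxo
  have hPx : (P : Subgroup G) = Subgroup.zpowers x := (Small.zpowers_eq_of_prime_card hPc hxP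
    fun h => by rw [h, orderOf_one] at hxo; omega).symm
  set N := Subgroup.normalizer ((P : Subgroup G) : Set G) with hN
  obtain ⟨n, hn⟩ : 23 ∣ Nat.card N :=
    hPc ▸ Subgroup.card_dvd_of_le (Subgroup.le_normalizer (H := (P : Subgroup G)))
  obtain ⟨v, e, hv, he, hve, hed, he1, -⟩ :=
    local_data hsq hxo P hPx (by rw [hcard]; norm_num) (n := n) (by rw [← hPx]; exact hn)
  have hmul : Nat.card (Sylow 23 G) * n = 10644480 := by
    have h := Small.card_normalizer_mul P
    rw [← hN, hn, hcard] at h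
    nlinarith
  have hnd : n ∣ 10644480 := Dvd.intro_left _ hmul
  have hn0 : 0 < n := Nat.pos_of_dvd_of_pos hnd (by norm_num)
  have hnP : 10644480 / n = Nat.card (Sylow 23 G) := by rw [← hmul, Nat.mul_div_cancel _ hn0]
  have hmod : Nat.card (Sylow 23 G) % 23 = 1 :=
    (Small.sylow_facts (G := G) (p := 23) 1 10644480 (by rw [hcard]; norm_num) (by norm_num)).2
  have hn1 := (Order175560.relIndex_centralizer hd hsq (by rw [hcard]; norm_num) P).2.2
  have he22 : e = 2 ∨ e = 11 ∨ e = 22 := by
    have hle := Nat.le_of_dvd (by norm_num) hed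
    interval_cases e <;> norm_num at hed <;> omega
  have hopt := List.all_eq_true.1 opt_check n (mem_divs23 hnd)
  rw [optTest, Bool.or_eq_true, List.all_eq_true] at hopt
  have hopt := hopt.resolve_left (by
    rw [hnP]; simp only [Bool.or_eq_true, bne_iff_ne, beq_iff_eq, not_or, not_not]; exact ⟨hmod, hn1⟩)
  have hopt := hopt e (by simp; omega)
  have hev : n / e = v := by rw [← hve, Nat.mul_div_cancel _ (by omega)]
  have hne : n % e = 0 := by rw [← hve]; simp
  rw [hev, hne] at hopt
  by_cases hv1 : v = 1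
  · rw [hv1] at hopt hv
    simp at hopt
    exact ⟨hv, he.trans hopt⟩
  exfalso
  simp [hv1] at hopt
  obtain ⟨S⟩ := Small.exists_shape (p := 23) (by norm_num) P hPc he (by omega)
  have hncyc : ¬ IsCyclic G := Small.not_isCyclic_of_card (by rw [hcard]; norm_num)
  have hperf : commutator G = ⊤ := Small.commutator_eq_top hncyc
  have hcard' : Nat.card G = 23 * 10644480 := by rw [hcard]
  have hlarge : ∀ χ ∈ S.Z, χ ≠ Small.one' G → 46 ≤ MEleven.deg χ := by
    intro χ hχ h1
    by_contra hlt
    have := S.small hncyc (by rw [pow_two]; exact hsq) hχ h1 (by show MEleven.deg χ < 46; omega)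
    omega
  rcases he22 with rfl | he'
  · -- automizer of order two
    obtain ⟨χ, hχ, hne1, -, -, hθ1, -, -, hχm, hθm, hcase, -⟩ := S.two_cases hncyc hcard' rfl (by norm_num)
    have hχ46 := hlarge χ (S.mem_Z.2 (Or.inr hχ)) hne1
    have h := List.all_eq_true.1 pair_check _ (mem_divs23 hχm)
    simp only [pairTest, Bool.or_eq_true, decide_eq_true_eq, Bool.and_eq_true, bne_iff_ne, ne_eq] at h
    change 46 ≤ MEleven.deg χ at hχ46
    rcases h with h | ⟨h1, h2⟩
    · exact absurd h (not_lt.2 hχ46)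
    rcases hcase with ⟨-, -, hm, hθ⟩ | ⟨-, -, hm, hθ⟩
    · exact h1.elim (fun h => h hm) fun h => h (Nat.mod_eq_zero_of_dvd (hθ ▸ hθm))
    · refine h2.elim (fun h => h (by omega)) fun h => h (Nat.mod_eq_zero_of_dvd ?_)
      have : charDegree (S.θ : G → ℂ) = MEleven.deg χ - 1 := by show _ = charDegree (χ : G → ℂ) - 1; omega
      exact this ▸ hθm
  -- an odd member
  obtain ⟨χ, hχ, hne1, hodd⟩ : ∃ χ ∈ S.Z, χ ≠ Small.one' G ∧ ¬ 2 ∣ MEleven.deg χ := by
    by_contra hno
    push Not at hno
    exact S.not_all_even hno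
  have h46 := hlarge χ hχ hne1
  have hres : MEleven.deg χ % 23 = 1 ∨ MEleven.deg χ % 23 = 11 ∨ MEleven.deg χ % 23 = 12 ∨
      MEleven.deg χ % 23 = 22 := by
    have hs := S.sign χ hχ
    rcases S.mem_Z.1 hχ with h | h
    · have hc := S.congθ
      rw [← h] at hc
      unfold Int.ModEq at hc
      rcases hs with hs | hs <;> rw [hs] at hc <;> simp only [MEleven.deg] <;>
        rcases he' with rfl | rfl <;> omega
    · have hc := S.cong χ h
      unfold Int.ModEq at hc
      rcases hs with hs | hs <;> rw [hs] at hc <;> simp only [MEleven.deg] <;> omega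
  have hodd3 : MEleven.deg χ = 231 ∨ MEleven.deg χ = 495 ∨ MEleven.deg χ = 10395 := by
    have hdm : MEleven.deg χ ∣ 10644480 := S.deg_dvd hcard' hχ
    have h := List.all_eq_true.1 odd_check _ (mem_divs23 hdm)
    simp only [oddTest, Bool.or_eq_true, decide_eq_true_eq, beq_iff_eq, Bool.not_eq_true',
      List.contains_eq_mem, decide_eq_false_iff_not, List.mem_cons, List.not_mem_nil, or_false] at h
    omega
  -- no prime with full part
  have hkill : ∀ r k m m' : ℕ, r.Prime → r < 23 → r ≠ 1 → r ∣ v → MEleven.deg χ = r ^ k * m →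
      ¬ r ∣ m → m ≠ 0 → 244823040 = r ^ k * m' → ¬ r ∣ m' → m' ≠ 0 → False := by
    intro r k m m' hr hr23 hr1 hrv hd' hm hm0 hm' hm'' hm'0
    haveI := Fact.mk hr
    obtain ⟨⟨w, hwC⟩, hw⟩ := exists_prime_orderOf_dvd_card' (G := C[(P : Subgroup G)]) r
      (hv ▸ dvd_mul_of_dvd_right hrv 23)
    rw [Subgroup.orderOf_mk] at hw
    refine not_full_part S (by omega) ?_ hwC hw hχ ?_
    · rw [Nat.ModEq, Nat.mod_eq_of_lt hr23]; simpa using hr1
    · rw [hd', hcard, hm', factorization_eq hr hm hm0, factorization_eq hr hm'' hm'0]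
  obtain ⟨h357, hrest⟩ := hopt
  have hinv : 2 ∣ v → ¬ 1024 ∣ v → MEleven.deg χ ≤ 506 → 11 ∣ MEleven.deg χ →
      ¬ 121 ∣ MEleven.deg χ → False := by
    intro h2 h1024 hle h11 h121
    haveI : Fact (Nat.Prime 11) := ⟨by norm_num⟩
    obtain ⟨z, a, hz, hzC, ha, haz⟩ := exists_inv_commute P hv h2 h1024 (by
      rw [he]; rcases he' with rfl | rfl <;> norm_num)
    have hz2 : z ^ 2 = 1 := hz ▸ pow_orderOf_eq_one z
    obtain ⟨t, ht⟩ := MTwentyTwo.exists_int_apply χ hz2
    have h46' := two_modEq S (by norm_num) hzC hz hχ ht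
    have hiv := MTwentyTwo.intVal_eq ht
    have h4 := MTwentyTwo.intVal_mod_four hperf χ hz2
    have hlt := MTwentyTwo.natAbs_intVal_lt hncyc hne1 hz2 (fun h => by rw [h, orderOf_one] at hz; omega)
    rw [hiv] at h4 hlt
    obtain ⟨m, hm⟩ := exists_nat_sum_mul χ haz (by rw [ha, hz]; norm_num)
    have hfull : (MEleven.deg χ).factorization 11 = (Nat.card G).factorization 11 := by
      obtain ⟨c, hc⟩ := h11
      rw [hcard, hc, show 244823040 = 11 ^ 1 * 22256640 by norm_num, factorization_eq (by norm_num) (by norm_num)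
        (by norm_num), show 11 * c = 11 ^ 1 * c by norm_num, factorization_eq (by norm_num)
        (fun h => h121 (hc ▸ Nat.mul_dvd_mul_left 11 h)) (by rintro rfl; omega)]
    have hvan : ∀ u ∈ Finset.univ.erase (1 : Subgroup.zpowers a), ∀ w : Subgroup.zpowers z,
        (χ : G → ℂ) ((u : G) * w) = 0 := by
      intro u hu w
      refine MEleven.apply_eq_zero_of_defectZero χ hfull ?_
      have huo : orderOf (u : G) = 11 := by
        rcases (Nat.dvd_prime (by norm_num)).1 (ha ▸ orderOf_dvd_of_mem_zpowers u.2) with h | h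
        · exact absurd (Subtype.ext (orderOf_eq_one_iff.1 h)) (Finset.ne_of_mem_erase hu)
        · exact h
      have hcw : Commute (u : G) w := by
        obtain ⟨i, hi⟩ := Subgroup.mem_zpowers_iff.1 u.2
        obtain ⟨j, hj⟩ := Subgroup.mem_zpowers_iff.1 w.2
        rw [← hi, ← hj]
        exact haz.zpow_zpow i j
      rw [hcw.orderOf_mul_eq_mul_orderOf_of_coprime (by
        rw [huo]
        exact Nat.Coprime.coprime_dvd_right (orderOf_dvd_of_mem_zpowers w.2) (by rw [hz]; norm_num)), huo]
      exact dvd_mul_right _ _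
    rw [← Finset.add_sum_erase _ _ (Finset.mem_univ (1 : Subgroup.zpowers a)),
      Finset.sum_eq_zero fun u hu => Finset.sum_eq_zero fun w _ => hvan u hu w, add_zero] at hm
    simp only [OneMemClass.coe_one, one_mul] at hm
    have hset : (Finset.univ.erase (1 : Subgroup.zpowers z)) = {⟨z, Subgroup.mem_zpowers z⟩} := by
      refine (Finset.eq_of_subset_of_card_le ?_ ?_).symm
      · intro q hq
        rw [Finset.mem_singleton.1 hq]
        refine Finset.mem_erase.2 ⟨fun h => ?_, Finset.mem_univ _⟩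
        rw [show z = 1 from congrArg Subtype.val h, orderOf_one] at hz
        omega
      · rw [card_erase_one, hz, Finset.card_singleton]
    rw [sum_zpowers_split, hset, Finset.sum_singleton, ht, ha, hz] at hm
    have hm' : (MEleven.deg χ : ℤ) + t = 22 * (m : ℤ) := by exact_mod_cast hm
    exact no_value h46' h4 hlt h11 hm' hle
  rcases hodd3 with hdeg | hdeg | hdeg
  · rcases hrest with (h | ⟨-, h7⟩) | ⟨h2, h1024⟩
    · omega
    · exact hkill 7 1 33 34974720 (by norm_num) (by norm_num) (by norm_num) (Nat.dvd_of_mod_eq_zero h7) (by rw [hdeg]; norm_num)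
        (by norm_num) (by norm_num) (by norm_num) (by norm_num) (by norm_num)
    · exact hinv (Nat.dvd_of_mod_eq_zero h2) (fun h => h1024 (Nat.mod_eq_zero_of_dvd h)) (by omega) (by rw [hdeg]; norm_num) (by rw [hdeg]; norm_num)
  · rcases hrest with (h | ⟨h5, -⟩) | ⟨h2, h1024⟩
    · omega
    · exact hkill 5 1 99 48964608 (by norm_num) (by norm_num) (by norm_num) (Nat.dvd_of_mod_eq_zero h5) (by rw [hdeg]; norm_num)
        (by norm_num) (by norm_num) (by norm_num) (by norm_num) (by norm_num)
    · exact hinv (Nat.dvd_of_mod_eq_zero h2) (fun h => h1024 (Nat.mod_eq_zero_of_dvd h)) (by omega) (by rw [hdeg]; norm_num) (by rw [hdeg]; norm_num)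
  · rcases h357 with (h | h) | h
    · exact hkill 3 3 385 9067520 (by norm_num) (by norm_num) (by norm_num) (Nat.dvd_of_mod_eq_zero h) (by rw [hdeg]; norm_num)
        (by norm_num) (by norm_num) (by norm_num) (by norm_num) (by norm_num)
    · exact hkill 5 1 2079 48964608 (by norm_num) (by norm_num) (by norm_num) (Nat.dvd_of_mod_eq_zero h) (by rw [hdeg]; norm_num)
        (by norm_num) (by norm_num) (by norm_num) (by norm_num) (by norm_num)
    · exact hkill 7 1 1485 34974720 (by norm_num) (by norm_num) (by norm_num) (Nat.dvd_of_mod_eq_zero h) (by rw [hdeg]; norm_num)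
        (by norm_num) (by norm_num) (by norm_num) (by norm_num) (by norm_num)

end Cfsg.Lib.MTwentyFour
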