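import Cfsg.Agent.Lib.Block.CyclicPrimeCount

/-!
The blocks with defect group a Sylow subgroup of order `p`, one for each root character trivial on it:
shape, degree congruences, the relation at regular elements and the values on the singular sections.
-/

set_option autoImplicit false
set_option linter.style.haveILetI false
set_option linter.unusedSectionVars false
set_option maxHeartbeats 1000000

namespace Cfsg.Lib.MTwentyFour

open Cfsg Cfsg.Lib.Block
open scoped ComplexConjugate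

universe u

noncomputable local instance (priority := high) fintypeSubgroupRootBlock {A : Type u}
    [Group A] [Fintype A] (H : Subgroup A) : Fintype H := Fintype.ofFinite H

local notation "C[" P "]" => Subgroup.centralizer (SetLike.coe P)

/-- The block of a root `θ` with inertial index `e` and orbit length `r`. -/
structure RootBlock (p : ℕ) [Fact p.Prime] (M : Ideal AlgInt) {G : Type u} [Group G] [Fintype G]
    (P : Subgroup G) (θ : IrrCharacter C[P]) (e r : ℕ) where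
  X : Finset (IrrCharacter G)
  Y : Finset (IrrCharacter G)
  s : IrrCharacter G → ℤ
  t : ℤ
  block : Set (IrrCharacter G)
  induced : IsInducedBlock M C[P] (blockOf M (θ : C[P] → ℂ)) block
  mem_block : ∀ χ, χ ∈ block ↔ χ ∈ X ∨ χ ∈ Y
  disj : Disjoint X Y
  card_X : X.card = e
  card_Y : Y.card = (p - 1) / e
  sign : ∀ χ ∈ X, s χ = 1 ∨ s χ = -1
  sign_t : t = 1 ∨ t = -1
  congX : ∀ χ ∈ X, (charDegree (χ : G → ℂ) : ℤ) ≡ (r : ℤ) * (charDegree (θ : C[P] → ℂ) : ℤ) * s χ [ZMOD p]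
  congY : ∀ χ ∈ Y,
    (charDegree (χ : G → ℂ) : ℤ) ≡ -((r : ℤ) * (charDegree (θ : C[P] → ℂ) : ℤ) * (e : ℤ) * t) [ZMOD p]
  agree : ∀ ψ ∈ Y, ∀ ψ' ∈ Y, ∀ g : G, ¬ p ∣ orderOf g → (ψ : G → ℂ) g = (ψ' : G → ℂ) g
  rel : ∀ ψ ∈ Y, ∀ g : G, ¬ p ∣ orderOf g →
    ∑ χ ∈ X, (s χ : ℂ) * (χ : G → ℂ) g + (t : ℂ) * (ψ : G → ℂ) g = 0
  val : r = 1 → ∀ χ ∈ X, ∀ k : C[P], pPt p (k : G) ∈ P → p ∣ orderOf (k : G) →
    (χ : G → ℂ) (k : G) = (s χ : ℂ) * (θ : C[P] → ℂ) k
  sumY : r = 1 → ∀ k : C[P], pPt p (k : G) ∈ P → p ∣ orderOf (k : G) →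
    ∑ ψ ∈ Y, (ψ : G → ℂ) (k : G) = (t : ℂ) * (θ : C[P] → ℂ) k
  orth : ∀ g h : G, ¬ IsConj (pPt p g) (pPt p h) →
    ∑ χ ∈ X, (χ : G → ℂ) g * conj ((χ : G → ℂ) h) + ∑ χ ∈ Y, (χ : G → ℂ) g * conj ((χ : G → ℂ) h) = 0
  not_dvd : ∀ χ, χ ∈ block → ¬ p ∣ charDegree (χ : G → ℂ)

variable {p : ℕ} [Fact p.Prime] {G : Type u} [Group G] [Fintype G] {M : Ideal AlgInt} (hM : IsPModular p M)
  (P : Sylow p G) (hcard : Nat.card (P : Subgroup G) = p)

include hM hcard

/-- The block of a root trivial on `P`, from its stabiliser. -/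
theorem exists_rootBlock (θ : TrivOn (P : Subgroup G)) (T : Subgroup G)
    (hT : ∀ g : G, g ∈ T ↔ g ∈ fixers (P : Subgroup G) θ.1) {e r : ℕ}
    (he : (C[(P : Subgroup G)]).relIndex T = e)
    (hr : T.relIndex (Subgroup.normalizer ((P : Subgroup G) : Set G)) = r) :
    Nonempty (RootBlock p M (P : Subgroup G) θ.1 e r) := by
  classical
  obtain ⟨B, hind, hD⟩ := exists_block_of_trivial hM P hcard θ
  set f := blockOf M (θ.1 : C[(P : Subgroup G)] → ℂ) with hf
  have hB : IsPBlock M B := hind.2.1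
  have hθ : θ.1 ∈ f := self_mem_blockOf hM θ.1
  have Dsys := cycSystem hM hB hD hcard hind
  have hT' : ∀ g : G, g ∈ T ↔ g ∈ Subgroup.normalizer ((P : Subgroup G) : Set G) ∧
      StabilizesBlock C[(P : Subgroup G)] f g := fun g => by
    rw [hT]
    constructor
    · rintro ⟨h1, h2⟩
      exact ⟨h1, (stabilizes_iff_fix hM hB hD hcard hind hθ θ.2 h1).2 h2⟩
    · rintro ⟨h1, h2⟩
      exact ⟨h1, (stabilizes_iff_fix hM hB hD hcard hind hθ θ.2 h1).1 h2⟩
  obtain ⟨X, Y, δ, δ₀, hdiv, hBXY, hdis, hX, hY, hYne, -, hδ, hδ₀, hagree, hrel, -, -, hcX, hcY, -⟩ :=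
    prime_structure hM hB hD hcard hind hθ θ.2 T hT'
  rw [he] at hdiv hX hY hcY
  have hpp : p.Prime := Fact.out
  set f₀ := (charDegree (θ.1 : C[(P : Subgroup G)] → ℂ) : ℤ) with hf₀
  have hdX : ∀ χ ∈ X, ∑ ξ ∈ f.toFinset,
      (classInner (fun k : C[(P : Subgroup G)] => (χ : G → ℂ) k) (ξ : C[(P : Subgroup G)] → ℂ) -
        classInner (fun k : C[(P : Subgroup G)] => (χ : G → ℂ) k) (θ.1 : C[(P : Subgroup G)] → ℂ)) =
          (((p : ℤ) - 1) * δ χ : ℤ) := by
    intro χ hχ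
    rw [← Finset.add_sum_erase _ _ (Set.mem_toFinset.2 hθ), sub_self, zero_add,
      Finset.sum_congr rfl fun ξ hξ => by
        rw [hcX χ hχ ξ (Set.mem_toFinset.1 (Finset.mem_erase.1 hξ).2) (Finset.mem_erase.1 hξ).1,
          add_sub_cancel_left],
      Finset.sum_const, Finset.card_erase_of_mem (Set.mem_toFinset.2 hθ), Set.toFinset_card,
      ← Nat.card_eq_fintype_card, root_card hM hB hD hcard hind, nsmul_eq_mul,
      Nat.cast_sub hpp.one_le]
    push_cast
    ring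
  have hcongX : ∀ χ ∈ X, (charDegree (χ : G → ℂ) : ℤ) ≡ (r : ℤ) * f₀ * (-δ χ) [ZMOD p] := by
    intro χ hχ
    have h := degree_congr hM hB hD hcard hind hθ T hT' (by rw [hBXY]; exact Or.inl hχ) _ (hdX χ hχ)
    rw [hr, ← hf₀] at h
    refine h.trans (Int.modEq_iff_dvd.2 ⟨-((r : ℤ) * f₀ * δ χ), by ring⟩)
  have hcongY : ∀ χ ∈ Y, (charDegree (χ : G → ℂ) : ℤ) ≡ -((r : ℤ) * f₀ * (e : ℤ) * (-δ₀)) [ZMOD p] := by
    intro χ hχ
    have h := degree_congr hM hB hD hcard hind hθ T hT' (by rw [hBXY]; exact Or.inr hχ) ((e : ℤ) * δ₀)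
      (by rw [hcY χ hχ]; push_cast; rfl)
    rw [hr, ← hf₀] at h
    refine h.trans (Int.modEq_iff_dvd.2 ⟨0, by ring⟩)
  have hθdeg : ¬ (p : ℤ) ∣ f₀ := by
    intro h
    have h1 := root_factorization hM hB hD hcard hind hθ
    rw [centralizer_factorization hM P hcard] at h1
    have := Nat.Prime.factorization_pos_of_dvd hpp (charDegree_pos θ.1).ne' (Int.natCast_dvd_natCast.1 h)
    omega
  have hrel' : ∀ ψ ∈ Y, ∀ g : G, ¬ p ∣ orderOf g →
      ∑ χ ∈ X.toFinset, ((-δ χ : ℤ) : ℂ) * (χ : G → ℂ) g + ((-δ₀ : ℤ) : ℂ) * (ψ : G → ℂ) g = 0 := by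
    intro ψ hψ g hg
    have h := hrel ψ hψ g hg
    rw [finsum_mem_eq_toFinset_sum] at h
    push_cast
    simp only [neg_mul, Finset.sum_neg_distrib]
    linear_combination -h
  have hbl : ∀ χ, χ ∈ B ↔ χ ∈ X.toFinset ∨ χ ∈ Y.toFinset := fun χ => by
    rw [hBXY, Set.mem_union, Set.mem_toFinset, Set.mem_toFinset]
  have hdisF : Disjoint X.toFinset Y.toFinset := Set.disjoint_toFinset.2 hdis
  have hBF : B.toFinset = X.toFinset ∪ Y.toFinset := by
    ext χ; rw [Set.mem_toFinset, hbl, Finset.mem_union]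
  have horth : ∀ g h : G, ¬ IsConj (pPt p g) (pPt p h) →
      ∑ χ ∈ X.toFinset, (χ : G → ℂ) g * conj ((χ : G → ℂ) h) +
        ∑ χ ∈ Y.toFinset, (χ : G → ℂ) g * conj ((χ : G → ℂ) h) = 0 := fun g h hne => by
    rw [← Finset.sum_union hdisF, ← hBF, ← finsum_mem_eq_toFinset_sum]
    exact sum_block_mul_conj_eq_zero hM (vInt_indVec hM hB) hne
  have hU : r = 1 → ∀ η ∈ indSet M C[(P : Subgroup G)] B, η ∈ f := by
    intro hr1 η hη
    obtain ⟨h, hh, hhN, hmem⟩ := Dsys.orbit η hη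
    have hNT : Subgroup.normalizer ((P : Subgroup G) : Set G) ≤ T := Subgroup.relIndex_eq_one.1 (hr.trans hr1)
    have hst := ((hT' h).1 (hNT hhN)).2
    have hgK : h ∈ Subgroup.normalizer (C[(P : Subgroup G)] : Set G) := Subgroup.mem_normalizer_iff.2 hh
    have h1 := (stabilizesBlock_iff hgK).1 hst
    rw [← h1]
    exact (Dsys.mem_tw_iff hh η).1 hmem
  have hval : r = 1 → ∀ χ ∈ X.toFinset, ∀ k : C[(P : Subgroup G)], pPt p (k : G) ∈ (P : Subgroup G) →
      p ∣ orderOf (k : G) → (χ : G → ℂ) (k : G) = ((-δ χ : ℤ) : ℂ) * (θ.1 : C[(P : Subgroup G)] → ℂ) k := by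
    intro hr1 χ hχ k hk hk1
    rw [Set.mem_toFinset] at hχ
    rw [apply_section_single hM hB hD hcard hind hθ (hU hr1) (by rw [hBXY]; exact Or.inl hχ) (hcX χ hχ) k hk
      (fun h => h hk1)]
    push_cast; ring
  refine ⟨{ X := X.toFinset, Y := Y.toFinset, s := fun χ => -δ χ, t := -δ₀, block := B,
            induced := hind, mem_block := hbl, disj := hdisF,
            card_X := by rw [Set.toFinset_card, ← Nat.card_eq_fintype_card]; exact hX,
            card_Y := by rw [Set.toFinset_card, ← Nat.card_eq_fintype_card]; exact hY,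
            sign := fun χ hχ => by rcases hδ χ (Set.mem_toFinset.1 hχ) with h | h <;> simp [h],
            sign_t := by rcases hδ₀ with h | h <;> simp [h],
            congX := fun χ hχ => hcongX χ (Set.mem_toFinset.1 hχ),
            congY := fun χ hχ => hcongY χ (Set.mem_toFinset.1 hχ),
            agree := fun ψ hψ ψ' hψ' g hg =>
              hagree ψ (Set.mem_toFinset.1 hψ) ψ' (Set.mem_toFinset.1 hψ') g hg,
            rel := fun ψ hψ g hg => hrel' ψ (Set.mem_toFinset.1 hψ) g hg,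
            val := hval, sumY := ?_, orth := horth, not_dvd := ?_ }⟩
  · intro hr1 k hk hk1
    obtain ⟨ψ₀, hψ₀⟩ := hYne
    have h0 := horth (k : G) 1 (fun hc => not_isConj_pPt_of_dvd (g := (1 : G)) (h := (k : G))
      (by simp [hpp.ne_one]) hk1 hc.symm)
    have hrel1 := hrel' ψ₀ hψ₀ 1 (by simp [hpp.ne_one])
    have hYd : ∀ ψ ∈ Y.toFinset, conj ((ψ : G → ℂ) 1) = (ψ₀ : G → ℂ) 1 := fun ψ hψ => by
      rw [hagree ψ (Set.mem_toFinset.1 hψ) ψ₀ hψ₀ 1 (by simp [IsPRegular, hpp.ne_one]),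
        apply_one_eq_charDegree, map_natCast]
    have hX' : ∑ χ ∈ X.toFinset, (χ : G → ℂ) (k : G) * conj ((χ : G → ℂ) 1) =
        (θ.1 : C[(P : Subgroup G)] → ℂ) k * ∑ χ ∈ X.toFinset, ((-δ χ : ℤ) : ℂ) * (χ : G → ℂ) 1 := by
      rw [Finset.mul_sum]
      refine Finset.sum_congr rfl fun χ hχ => ?_
      rw [hval hr1 χ hχ k hk hk1, apply_one_eq_charDegree, map_natCast]
      ring
    have hY' : ∑ ψ ∈ Y.toFinset, (ψ : G → ℂ) (k : G) * conj ((ψ : G → ℂ) 1) =
        (∑ ψ ∈ Y.toFinset, (ψ : G → ℂ) (k : G)) * (ψ₀ : G → ℂ) 1 := by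
      rw [Finset.sum_mul]
      exact Finset.sum_congr rfl fun ψ hψ => by rw [hYd ψ hψ]
    rw [hX', hY', eq_neg_of_add_eq_zero_left hrel1] at h0
    refine mul_right_cancel₀ ψ₀.2.apply_one_ne_zero ?_
    linear_combination h0
  · intro χ hχ hdvd
    have hpi : Prime (p : ℤ) := Nat.prime_iff_prime_int.1 hpp
    have hTN : T ≤ Subgroup.normalizer ((P : Subgroup G) : Set G) := fun g hg => ((hT g).1 hg).1
    have hCT : (C[(P : Subgroup G)]) ≤ T := fun g hg => (hT g).2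
      ⟨Subgroup.centralizer_le_normalizer _ hg, fun c c' h => by
        rw [show c' = ⟨g, hg⟩ * c * ⟨g, hg⟩⁻¹ from Subtype.ext h, θ.1.2.isClassFunction]⟩
    have her := Subgroup.relIndex_mul_relIndex _ T _ hCT hTN
    rw [he, hr] at her
    have hdvd1 := relIndex_centralizer_dvd hcard
    rw [← her] at hdvd1
    have hnd : ∀ {m : ℕ}, m ∣ p - 1 → ¬ (p : ℤ) ∣ (m : ℤ) := fun {m} hm h => by
      have h1 := Nat.le_of_dvd (Nat.sub_pos_of_lt hpp.one_lt) ((Int.natCast_dvd_natCast.1 h).trans hm)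
      have := hpp.pos
      omega
    have hd : (p : ℤ) ∣ (charDegree (χ : G → ℂ) : ℤ) := Int.natCast_dvd_natCast.2 hdvd
    rw [hBXY] at hχ
    rcases hχ with hχ | hχ
    · have h2 := dvd_add (Int.modEq_iff_dvd.1 (hcongX χ hχ)) hd
      rw [sub_add_cancel] at h2
      rcases hpi.dvd_or_dvd h2 with h3 | h3
      · rcases hpi.dvd_or_dvd h3 with h4 | h4
        · exact hnd ((dvd_mul_left r e).trans hdvd1) h4
        · exact hθdeg h4
      · exact hpp.ne_one (by rcases hδ χ hχ with hs | hs <;> simpa [hs, Int.natCast_dvd] using h3)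
    · have h2 := dvd_add (Int.modEq_iff_dvd.1 (hcongY χ hχ)) hd
      rw [sub_add_cancel, mul_neg, neg_neg] at h2
      rcases hpi.dvd_or_dvd h2 with h3 | h3
      · rcases hpi.dvd_or_dvd h3 with h4 | h4
        · rcases hpi.dvd_or_dvd h4 with h5 | h5
          · exact hnd ((dvd_mul_left r e).trans hdvd1) h5
          · exact hθdeg h5
        · exact hnd ((dvd_mul_right e r).trans hdvd1) h4
      · exact hpp.ne_one (by rcases hδ₀ with hs | hs <;> simpa [hs, Int.natCast_dvd] using h3)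

/-- Every character of degree prime to `p` lies in the block of a root trivial on `P`. -/
theorem exists_root {χ : IrrCharacter G} (hχ : ¬ p ∣ charDegree (χ : G → ℂ)) :
    ∃ θ : TrivOn (P : Subgroup G),
      IsInducedBlock M C[(P : Subgroup G)] (blockOf M (θ.1 : C[(P : Subgroup G)] → ℂ)) (blockOf M (χ : G → ℂ)) := by
  have hB : IsPBlock M (blockOf M (χ : G → ℂ)) := isPBlock_blockOf χ
  have hd : blockDefect p (blockOf M (χ : G → ℂ)) ≠ 0 := fun h0 => by
    have h1 := blockDefect_add_minVal (p := p) (nonempty_of_isPBlock hM hB)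
    have h2 := minVal_le (p := p) (self_mem_blockOf hM χ)
    rw [h0, sylow_factorization P hcard, zero_add] at h1
    rw [Nat.factorization_eq_zero_of_not_dvd hχ, h1] at h2
    omega
  have hD := isDefectGroup_of_pos hM P hcard hB hd
  obtain ⟨f, hmax⟩ := exists_pair_at_defect hM hB hD
  have hind : IsInducedBlock M C[(P : Subgroup G)] f (blockOf M (χ : G → ℂ)) :=
    (isBrauerPairOf_iff_induced hM P.2 le_rfl (le_centralizer_self hcard)
      (Subgroup.centralizer_le_normalizer _) (fun v => invOn_self v) hmax.1.1.2 hmax.1.1.2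
      (fun _ => rfl) hB).1 hmax.1
  obtain ⟨θ, hθ, hθP⟩ := root_exists_trivial hM hB hD hcard hind
  refine ⟨⟨θ, hθP⟩, ?_⟩
  rw [← eq_blockOf_of_mem hM hind.1 hθ]
  exact hind

/-- Roots of one block are conjugate under the normaliser. -/
theorem root_conj {θ θ' : TrivOn (P : Subgroup G)} {B : Set (IrrCharacter G)}
    (h : IsInducedBlock M C[(P : Subgroup G)] (blockOf M (θ.1 : C[(P : Subgroup G)] → ℂ)) B)
    (h' : IsInducedBlock M C[(P : Subgroup G)] (blockOf M (θ'.1 : C[(P : Subgroup G)] → ℂ)) B) :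
    ∃ g ∈ Subgroup.normalizer ((P : Subgroup G) : Set G), ∀ k k' : C[(P : Subgroup G)],
      (k' : G) = g * k * g⁻¹ → (θ.1 : C[(P : Subgroup G)] → ℂ) k = (θ'.1 : C[(P : Subgroup G)] → ℂ) k' := by
  obtain ⟨B', hB', hD'⟩ := exists_block_of_trivial hM P hcard θ
  obtain rfl := isInducedBlock_unique hM hB' h
  have Dsys := cycSystem hM hB'.2.1 hD' hcard hB'
  obtain ⟨g, hg, hgN, hmem⟩ := Dsys.orbit θ'.1 h'
  have htriv : ∀ z : C[(P : Subgroup G)], (z : G) ∈ (P : Subgroup G) →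
      (compIrr (conjIso hg) θ'.1 : C[(P : Subgroup G)] → ℂ) z =
        (compIrr (conjIso hg) θ'.1 : C[(P : Subgroup G)] → ℂ) 1 := by
    intro z hz
    rw [compIrr_apply, compIrr_apply, map_one]
    exact θ'.2 _ ((Subgroup.mem_normalizer_iff.1 hgN (z : G)).1 hz)
  have he : compIrr (conjIso hg) θ'.1 = θ.1 :=
    root_trivial_unique hM hB'.2.1 hD' hcard hB' hmem (self_mem_blockOf hM θ.1) htriv θ.2
  refine ⟨g, hgN, fun k k' hk => ?_⟩
  rw [← he, compIrr_apply]
  exact congrArg (θ'.1 : C[(P : Subgroup G)] → ℂ) (Subtype.ext hk.symm)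

end Cfsg.Lib.MTwentyFour
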